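import Mathlib.Algebra.BigOperators.Ring.Finset
import Mathlib.Algebra.Order.BigOperators.Ring.Finset
import Mathlib.Data.Fintype.BigOperators
import Mathlib.Tactic.Linarith
import Mathlib.Tactic.LinearCombination

/-!
# Integral vectors with the Gram matrix of a coherent family
-/

namespace Cfsg.Agent.FreeStar

open Finset

set_option linter.unusedSectionVars false

variable {K ι : Type*} [Fintype K]

theorem sq_one_le {z : ℤ} (h : z ≠ 0) : 1 ≤ z ^ 2 := by
  have : 0 < z ^ 2 := lt_of_le_of_ne (sq_nonneg z) (Ne.symm (pow_ne_zero 2 h))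
  omega

theorem card_le_sum_sq (S : Finset K) (R : K → ℤ) (h : ∀ x ∈ S, R x ≠ 0) :
    (S.card : ℤ) ≤ ∑ x ∈ S, R x ^ 2 := by
  rw [Finset.card_eq_sum_ones, Nat.cast_sum, Nat.cast_one]
  exact Finset.sum_le_sum fun x hx => sq_one_le (h x hx)

/-- A vector of norm two orthogonal to a positive one is the difference of two unit vectors. -/
theorem exists_diff [DecidableEq K] (d : K → ℤ) (hd : ∀ x, 0 < d x) (w : K → ℤ)
    (h2 : ∑ x, w x ^ 2 = 2) (h0 : ∑ x, d x * w x = 0) :
    ∃ x y, x ≠ y ∧ d x = d y ∧ ∀ z, w z = (if z = x then 1 else 0) - (if z = y then 1 else 0) := by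
  have hle : ∀ z, w z ^ 2 ≤ 2 := fun z =>
    (Finset.single_le_sum (fun i _ => sq_nonneg (w i)) (Finset.mem_univ z)).trans h2.le
  have hpm : ∀ z, w z = 0 ∨ w z = 1 ∨ w z = -1 := fun z => by
    have h := hle z
    have h1 : w z ≤ 1 := by nlinarith
    have h1' : -1 ≤ w z := by nlinarith
    omega
  have hS : (univ.filter fun z => w z ≠ 0).card = 2 := by
    have : ((univ.filter fun z => w z ≠ 0).card : ℤ) = 2 := by
      rw [Finset.card_eq_sum_ones, Nat.cast_sum, Nat.cast_one, ← h2, Finset.sum_filter]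
      exact Finset.sum_congr rfl fun z _ => by rcases hpm z with h | h | h <;> simp [h]
    exact_mod_cast this
  obtain ⟨a, b, hab, hS⟩ := Finset.card_eq_two.mp hS
  have hsupp : ∀ z, z ≠ a → z ≠ b → w z = 0 := fun z ha hb => by
    by_contra hz
    have : z ∈ ({a, b} : Finset K) := hS ▸ Finset.mem_filter.mpr ⟨Finset.mem_univ _, hz⟩
    simp [ha, hb] at this
  have hwa : w a ≠ 0 :=
    (Finset.mem_filter.mp (show a ∈ univ.filter (fun z => w z ≠ 0) by rw [hS]; simp)).2
  have hwb : w b ≠ 0 :=
    (Finset.mem_filter.mp (show b ∈ univ.filter (fun z => w z ≠ 0) by rw [hS]; simp)).2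
  rw [← Finset.sum_subset (Finset.subset_univ ({a, b} : Finset K)) (fun z _ hz => by
    simp only [Finset.mem_insert, Finset.mem_singleton, not_or] at hz
    rw [hsupp z hz.1 hz.2, mul_zero]), Finset.sum_pair hab] at h0
  have hda := hd a
  have hdb := hd b
  rcases hpm a with h | h | h
  · exact absurd h hwa
  · rcases hpm b with h' | h' | h'
    · exact absurd h' hwb
    · rw [h, h'] at h0; omega
    · rw [h, h'] at h0
      refine ⟨a, b, hab, by linarith, fun z => ?_⟩
      rcases eq_or_ne z a with rfl | ha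
      · simp [h, hab]
      · rcases eq_or_ne z b with rfl | hb
        · simp [h', ha]
        · simp [hsupp z ha hb, ha, hb]
  · rcases hpm b with h' | h' | h'
    · exact absurd h' hwb
    · rw [h, h'] at h0
      refine ⟨b, a, hab.symm, by linarith, fun z => ?_⟩
      rcases eq_or_ne z a with rfl | ha
      · simp [h, hab]
      · rcases eq_or_ne z b with rfl | hb
        · simp [h', ha]
        · simp [hsupp z ha hb, ha, hb]
    · rw [h, h'] at h0; omega

variable [Fintype ι] [DecidableEq ι]

/-- The shape of the family. -/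
theorem exists_shape [DecidableEq K] {e : ℕ} (d : K → ℤ) (hd : ∀ χ, 0 < d χ) (V : ι → K → ℤ)
    (hG : ∀ a b, ∑ χ, V a χ * V b χ = (if a = b then 1 else 0) + (e : ℤ))
    (hdeg : ∀ a, ∑ χ, d χ * V a χ = 0) (hι : 2 ≤ Fintype.card ι) :
    ∃ (R : K → ℤ) (ε : ℤ) (c : ι → K), (ε = 1 ∨ ε = -1) ∧ Function.Injective c ∧
      (∀ a b, d (c a) = d (c b)) ∧ ∀ a χ, V a χ = R χ + if χ = c a then ε else 0 := by
  haveI : Nontrivial ι := Fintype.one_lt_card_iff_nontrivial.mp hι
  obtain ⟨a₀, a₁, h01⟩ := exists_pair_ne ι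
  have hw : ∀ a, a ≠ a₀ → ∃ x y, x ≠ y ∧ d x = d y ∧
      ∀ z, V a z - V a₀ z = (if z = x then 1 else 0) - (if z = y then 1 else 0) := fun a ha => by
    refine exists_diff d hd (fun z => V a z - V a₀ z) ?_ ?_
    · calc ∑ z, (V a z - V a₀ z) ^ 2
          = ∑ z, V a z * V a z - 2 * ∑ z, V a z * V a₀ z + ∑ z, V a₀ z * V a₀ z := by
            rw [Finset.mul_sum, ← Finset.sum_sub_distrib, ← Finset.sum_add_distrib]
            exact Finset.sum_congr rfl fun z _ => by ring
        _ = 2 := by rw [hG, hG, hG, if_pos rfl, if_pos rfl, if_neg ha]; ring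
    · simp only [mul_sub, Finset.sum_sub_distrib, hdeg, sub_self]
  have hK : Nonempty K := by
    obtain ⟨x, -, -⟩ := hw a₁ h01.symm
    exact ⟨x⟩
  choose! x y hxy hdxy hV using hw
  have hrel : ∀ a b, a ≠ a₀ → b ≠ a₀ → a ≠ b →
      (x a = x b ∧ y a ≠ y b) ∨ (y a = y b ∧ x a ≠ x b) := by
    intro a b ha hb hab
    have h1 : ∑ z, (V a z - V a₀ z) * (V b z - V a₀ z) = 1 := by
      simp only [sub_mul, mul_sub, Finset.sum_sub_distrib, hG, if_neg ha, if_neg hb.symm,
        if_neg hab, if_true]
      ring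
    simp only [hV a ha, hV b hb, sub_mul, mul_sub, Finset.sum_sub_distrib, ite_mul, one_mul,
      zero_mul, Finset.sum_ite_eq', Finset.mem_univ, if_true] at h1
    have hxa := hxy a ha
    have hxb := hxy b hb
    split_ifs at h1 with c1 c2 c3 c4 <;> first | omega | tauto | (simp_all)
  have halt : (∀ a, a ≠ a₀ → x a = x a₁) ∨ (∀ a, a ≠ a₀ → y a = y a₁) := by
    by_contra h
    push Not at h
    obtain ⟨⟨b, hb, hxb⟩, ⟨c, hc, hyc⟩⟩ := h
    have hb1 : b ≠ a₁ := fun h' => hxb (by rw [h'])
    have hc1 : c ≠ a₁ := fun h' => hyc (by rw [h'])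
    have hy : y b = y a₁ := ((hrel b a₁ hb h01.symm hb1).resolve_left fun h' => hxb h'.1).1
    have hx1 : x c = x a₁ := ((hrel c a₁ hc h01.symm hc1).resolve_right fun h' => hyc h'.1).1
    have hcb : c ≠ b := fun h' => hyc (by rw [h', hy])
    have hx2 : x c = x b :=
      ((hrel c b hc hb hcb).resolve_right fun h' => hyc (h'.1.trans hy)).1
    exact hxb (hx2.symm.trans hx1)
  rcases halt with hall | hall
  · refine ⟨fun z => V a₀ z + if z = x a₁ then 1 else 0, -1,
      fun a => if a = a₀ then x a₁ else y a, Or.inr rfl, ?_, ?_, ?_⟩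
    · intro a b h
      by_contra hab
      simp only at h
      by_cases ha : a = a₀ <;> by_cases hb : b = a₀
      · exact hab (ha.trans hb.symm)
      · rw [if_pos ha, if_neg hb, ← hall b hb] at h; exact hxy b hb h
      · rw [if_neg ha, if_pos hb, ← hall a ha] at h; exact hxy a ha h.symm
      · rw [if_neg ha, if_neg hb] at h
        rcases hrel a b ha hb hab with h' | h'
        · exact h'.2 h
        · exact h'.2 ((hall a ha).trans (hall b hb).symm)
    · have : ∀ a, d (if a = a₀ then x a₁ else y a) = d (x a₁) := fun a => by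
        split_ifs with ha
        · rfl
        · rw [← hdxy a ha, hall a ha]
      intro a b; rw [this, this]
    · intro a z
      by_cases ha : a = a₀
      · subst ha; by_cases hz : z = x a₁ <;> simp [hz]
      · have h := hV a ha z
        rw [hall a ha] at h
        simp only [if_neg ha]
        split_ifs at h ⊢ <;> omega
  · refine ⟨fun z => V a₀ z - if z = y a₁ then 1 else 0, 1,
      fun a => if a = a₀ then y a₁ else x a, Or.inl rfl, ?_, ?_, ?_⟩
    · intro a b h
      by_contra hab
      simp only at h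
      by_cases ha : a = a₀ <;> by_cases hb : b = a₀
      · exact hab (ha.trans hb.symm)
      · rw [if_pos ha, if_neg hb, ← hall b hb] at h; exact hxy b hb h.symm
      · rw [if_neg ha, if_pos hb, ← hall a ha] at h; exact hxy a ha h
      · rw [if_neg ha, if_neg hb] at h
        rcases hrel a b ha hb hab with h' | h'
        · exact h'.2 ((hall a ha).trans (hall b hb).symm)
        · exact h'.2 h
    · have : ∀ a, d (if a = a₀ then y a₁ else x a) = d (y a₁) := fun a => by
        split_ifs with ha
        · rfl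
        · rw [hdxy a ha, hall a ha]
      intro a b; rw [this, this]
    · intro a z
      by_cases ha : a = a₀
      · subst ha; by_cases hz : z = y a₁ <;> simp [hz]
      · have h := hV a ha z
        rw [hall a ha] at h
        simp only [if_neg ha]
        split_ifs at h ⊢ <;> omega

/-- The count of the coordinates. -/
theorem coherent_count {e : ℕ} (d : K → ℤ) (hd : ∀ χ, 0 < d χ) (V : ι → K → ℤ)
    (hG : ∀ a b, ∑ χ, V a χ * V b χ = (if a = b then 1 else 0) + (e : ℤ))
    (hdeg : ∀ a, ∑ χ, d χ * V a χ = 0) (hcov : ∀ χ, ∃ a, V a χ ≠ 0) (hι : Nonempty ι) :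
    Fintype.card K ≤ e + Fintype.card ι ∧ (e ≤ 3 → Fintype.card K = e + Fintype.card ι ∨
      e * Fintype.card ι + 1 = 7 ∨ e * Fintype.card ι + 1 = 10 ∨ e * Fintype.card ι + 1 = 13) := by
  classical
  rcases Nat.lt_or_ge (Fintype.card ι) 2 with hN | hN
  · obtain ⟨a⟩ := hι
    haveI : Subsingleton ι := Fintype.card_le_one_iff_subsingleton.mp (by omega)
    have h1 : Fintype.card ι = 1 := Fintype.card_eq_one_iff.mpr ⟨a, fun b => Subsingleton.elim _ _⟩
    have hne : ∀ χ, V a χ ≠ 0 := fun χ => by
      obtain ⟨b, hb⟩ := hcov χ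
      rwa [Subsingleton.elim a b]
    have hsum : ∑ χ, V a χ ^ 2 = 1 + (e : ℤ) := by
      simpa [sq] using hG a a
    have hle := card_le_sum_sq univ (V a) fun χ _ => hne χ
    rw [hsum, Finset.card_univ] at hle
    refine ⟨by rw [h1]; omega, fun he => Or.inl ?_⟩
    rw [h1]
    by_contra hlt
    have hbig : ∃ χ, 4 ≤ V a χ ^ 2 := by
      by_contra h
      push Not at h
      have hone : ∀ χ, V a χ ^ 2 = 1 := fun χ => by
        have := h χ
        have h2 := hne χ
        have : V a χ ≤ 1 := by nlinarith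
        have : -1 ≤ V a χ := by nlinarith [h χ]
        rcases (show V a χ = 1 ∨ V a χ = -1 by omega) with h' | h' <;> simp [h']
      rw [Finset.sum_congr rfl fun χ _ => hone χ, Finset.sum_const, Finset.card_univ,
        nsmul_one] at hsum
      omega
    obtain ⟨χ₀, hχ₀⟩ := hbig
    rw [← Finset.add_sum_erase _ _ (Finset.mem_univ χ₀)] at hsum
    have hle2 := card_le_sum_sq (univ.erase χ₀) (V a) fun χ _ => hne χ
    have h0 : (univ.erase χ₀).card = 0 := by omega
    have hd0 := hdeg a
    rw [← Finset.add_sum_erase _ _ (Finset.mem_univ χ₀), Finset.card_eq_zero.mp h0,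
      Finset.sum_empty, add_zero] at hd0
    rcases mul_eq_zero.mp hd0 with h | h
    · exact (hd χ₀).ne' h
    · exact hne χ₀ h
  · obtain ⟨R, ε, c, hε, hcinj, hdc, hV⟩ := exists_shape d hd V hG hdeg hN
    obtain ⟨a₀⟩ := hι
    have hε2 : ε * ε = 1 := by rcases hε with h | h <;> simp [h]
    have hdiag : ∀ a, ∑ χ, R χ ^ 2 + 2 * ε * R (c a) = (e : ℤ) := fun a => by
      have h := hG a a
      rw [if_pos rfl, Finset.sum_congr rfl fun χ _ => show V a χ * V a χ =
        R χ ^ 2 + if χ = c a then 2 * ε * R χ + ε * ε else 0 by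
          rw [hV]; split_ifs <;> ring, Finset.sum_add_distrib, Finset.sum_ite_eq',
        if_pos (Finset.mem_univ _)] at h
      linarith
    obtain ⟨ρ, hρ⟩ : ∃ ρ, ρ = ε * R (c a₀) := ⟨_, rfl⟩
    have hRc : ∀ a, R (c a) = ε * ρ := fun a => by
      have h1 := hdiag a
      have h2 := hdiag a₀
      have h3 : ε * R (c a) = ρ := by rw [hρ]; linarith
      rw [← h3, ← mul_assoc, hε2, one_mul]
    obtain ⟨S, hS⟩ : ∃ S : Finset K, S = univ.image c := ⟨_, rfl⟩
    have hScard : S.card = Fintype.card ι := by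
      rw [hS, Finset.card_image_of_injective _ hcinj, Finset.card_univ]
    have hmemS : ∀ a, c a ∈ S := fun a => hS ▸ Finset.mem_image_of_mem c (Finset.mem_univ a)
    have hRS : ∀ χ ∈ S, R χ = ε * ρ := fun χ hχ => by
      rw [hS] at hχ
      obtain ⟨a, -, rfl⟩ := Finset.mem_image.mp hχ
      exact hRc a
    have hne : ∀ χ ∈ univ \ S, R χ ≠ 0 := fun χ hχ h0 => by
      obtain ⟨a, ha⟩ := hcov χ
      rw [hV, h0, if_neg (show ¬ χ = c a from fun h' => (Finset.mem_sdiff.mp hχ).2 (by rw [h']; exact hmemS a))] at ha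
      exact ha (add_zero _)
    have hT : ∑ χ ∈ univ \ S, R χ ^ 2 =
        (e : ℤ) - ρ * ((Fintype.card ι : ℤ) * ρ + 2) := by
      have h := hdiag a₀
      rw [← Finset.sum_sdiff (Finset.subset_univ S),
        Finset.sum_congr (s₁ := S) rfl fun χ hχ => show R χ ^ 2 = (ε * ρ) ^ 2 by rw [hRS χ hχ],
        Finset.sum_const, hScard, nsmul_eq_mul, hRc a₀] at h
      linear_combination h - (2 * ρ + (Fintype.card ι : ℤ) * ρ ^ 2) * hε2
    obtain ⟨N, hN'⟩ : ∃ N : ℤ, N = (Fintype.card ι : ℤ) := ⟨_, rfl⟩
    rw [← hN'] at hT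
    have hN2 : 2 ≤ N := by omega
    have hl := card_le_sum_sq (univ \ S) R hne
    have hcard : (univ \ S).card + Fintype.card ι = Fintype.card K := by
      rw [← hScard, Finset.card_sdiff_add_card_eq_card (Finset.subset_univ S), Finset.card_univ]
    have hnn : 0 ≤ ρ * (N * ρ + 2) := by
      rcases le_or_gt 0 ρ with h | h
      · positivity
      · exact mul_nonneg_of_nonpos_of_nonpos h.le (by nlinarith)
    refine ⟨by omega, fun he => ?_⟩
    have hone : ∀ χ ∈ univ \ S, R χ ^ 2 = 1 := fun χ hχ => by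
      have h1 := Finset.single_le_sum (fun i _ => sq_nonneg (R i)) hχ
      have h2 := hne χ hχ
      have : R χ ≤ 1 := by nlinarith
      have : -1 ≤ R χ := by nlinarith
      rcases (show R χ = 1 ∨ R χ = -1 by omega) with h' | h' <;> simp [h']
    have hl' : ((univ \ S).card : ℤ) = (e : ℤ) - ρ * (N * ρ + 2) := by
      rw [← hT, Finset.sum_congr rfl hone, Finset.sum_const, nsmul_one]
    rcases eq_or_ne (ρ * (N * ρ + 2)) 0 with h0 | h0
    · left; omega
    · right
      have hl0 : (univ \ S).card ≠ 0 := by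
        intro hz
        have h := hdeg a₀
        rw [Finset.card_eq_zero, Finset.sdiff_eq_empty_iff_subset] at hz
        have hSu : S = univ := le_antisymm (Finset.subset_univ _) hz
        have hdS : ∀ χ, d χ = d (c a₀) := fun χ => by
          have : χ ∈ univ.image c := hS ▸ hSu ▸ Finset.mem_univ χ
          obtain ⟨a, -, rfl⟩ := Finset.mem_image.mp this
          exact hdc a a₀
        rw [Finset.sum_congr rfl fun χ _ => show d χ * V a₀ χ =
          d (c a₀) * (ε * ρ + if χ = c a₀ then ε else 0) by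
            rw [hdS χ, hV, hRS χ (hSu ▸ Finset.mem_univ χ)], ← Finset.mul_sum,
          Finset.sum_add_distrib, Finset.sum_const, Finset.sum_ite_eq',
          if_pos (Finset.mem_univ _), ← hSu, hScard, nsmul_eq_mul, ← hN'] at h
        have h1 : N * ρ + 1 = 0 := by
          have := (mul_eq_zero.mp h).resolve_left (hd _).ne'
          have h2 : ε * (N * ρ + 1) = 0 := by linear_combination this
          rcases hε with h3 | h3 <;> rw [h3] at h2 <;> omega
        rcases Int.eq_one_or_neg_one_of_mul_eq_neg_one (show N * ρ = -1 by omega) with h2 | h2 <;>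
          omega
      have hT1 : 1 ≤ ρ * (N * ρ + 2) := by omega
      have hT2 : ρ * (N * ρ + 2) ≤ 2 := by omega
      have hρ1 : ρ = -1 := by
        rcases lt_trichotomy ρ (-1) with h | h | h
        · exfalso
          have h1 : N * ρ ≤ -4 := by nlinarith
          nlinarith [mul_nonneg (show (0 : ℤ) ≤ -ρ - 2 by omega) (show (0 : ℤ) ≤ -(N * ρ + 2) - 2 by omega)]
        · exact h
        · exfalso
          rcases (show ρ = 0 ∨ 1 ≤ ρ by omega) with h' | h'
          · simp [h'] at hT1
          · have h1 : 2 ≤ N * ρ := by nlinarith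
            nlinarith [mul_nonneg (show (0 : ℤ) ≤ ρ - 1 by omega) (show (0 : ℤ) ≤ N * ρ + 2 - 4 by omega)]
      subst hρ1
      have hN34 : N = 3 ∨ N = 4 := by omega
      have he2 : (e : ℤ) ≥ N - 1 := by omega
      rcases hN34 with h | h
      · have : Fintype.card ι = 3 := by omega
        rw [this]; omega
      · have : Fintype.card ι = 4 := by omega
        rw [this]; omega

end Cfsg.Agent.FreeStar
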