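import Cfsg.Agent.Lib.FreeStar.Iso
import Cfsg.Agent.Lib.FreeStar.Combi
import Cfsg.Agent.Lib.Blocks.CycMain

/-!
# The numbers of characters of a block with free inertial action
-/

namespace Cfsg.Agent.FreeStar

open Blocks
open scoped ComplexConjugate

universe u

set_option linter.unusedSectionVars false

section Dual

variable {A : Type u} [CommGroup A] [Fintype A]

/-- The sum of the values of a linear character. -/
theorem sum_lin (f : A →* ℂˣ) [Decidable (f = 1)] :
    ∑ x, (f x : ℂ) = if f = 1 then (Nat.card A : ℂ) else 0 := by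
  split_ifs with hf
  · subst hf
    simp [Nat.card_eq_fintype_card]
  · obtain ⟨a, ha⟩ : ∃ a, f a ≠ 1 := by
      by_contra h
      push Not at h
      exact hf (MonoidHom.ext h)
    have h : (f a : ℂ) * ∑ x, (f x : ℂ) = ∑ x, (f x : ℂ) := by
      rw [Finset.mul_sum]
      exact Fintype.sum_equiv (Equiv.mulLeft a) _ _ fun x => by
        rw [Equiv.coe_mulLeft, map_mul, Units.val_mul]
    by_contra hne
    exact ha (Units.ext ((mul_eq_right₀ hne).mp h))

/-- The orthogonality of linear characters. -/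
theorem sum_lin_conj (f g : A →* ℂˣ) [Decidable (f = g)] :
    ∑ x, (f x : ℂ) * conj (g x : ℂ) = if f = g then (Nat.card A : ℂ) else 0 := by
  classical
  rw [Finset.sum_congr rfl fun x _ => show (f x : ℂ) * conj (g x : ℂ) = ((f * g⁻¹) x : ℂ) by
    rw [← CT.char_inv_eq_conj (CT.isCharacter_lin g) x, MonoidHom.mul_apply, MonoidHom.inv_apply,
      Units.val_mul, map_inv], sum_lin]
  refine if_congr ⟨fun h => MonoidHom.ext fun x => ?_, fun h => ?_⟩ rfl rfl
  · exact mul_inv_eq_one.mp (DFunLike.congr_fun h x)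
  · exact MonoidHom.ext fun x => by rw [h]; exact mul_inv_cancel (g x)

/-- The sum over the linear characters at a nontrivial element. -/
theorem sum_dual [Fintype (A →* ℂˣ)] {x : A} (hx : x ≠ 1) :
    ∑ f : A →* ℂˣ, (f x : ℂ) = 0 := by
  obtain ⟨g, hg⟩ := CommGroup.exists_apply_ne_one_of_hasEnoughRootsOfUnity A ℂ hx
  have h : (g x : ℂ) * ∑ f : A →* ℂˣ, (f x : ℂ) = ∑ f : A →* ℂˣ, (f x : ℂ) := by
    rw [Finset.mul_sum]
    exact Fintype.sum_equiv (Equiv.mulLeft g) _ _ fun f => by
      rw [Equiv.coe_mulLeft, MonoidHom.mul_apply, Units.val_mul]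
  by_contra hne
  exact hg (Units.ext ((mul_eq_right₀ hne).mp h))

/-- An automorphism fixing a linear character which has no fixed point. -/
theorem lin_eq_one_of_fixed {σ : MulAut A} (hσ : ∀ x, σ x = x → x = 1) {f : A →* ℂˣ}
    (h : f.comp σ.toMonoidHom = f) : f = 1 := by
  have hinj : Function.Injective fun x : A => x⁻¹ * σ x := by
    intro x y hxy
    simp only at hxy
    have h1 : σ (y⁻¹ * x) = y⁻¹ * x := by
      rw [map_mul, map_inv, show σ x = x * (y⁻¹ * σ y) by rw [← hxy, mul_inv_cancel_left]]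
      calc (σ y)⁻¹ * (x * (y⁻¹ * σ y)) = (σ y)⁻¹ * σ y * (y⁻¹ * x) := by
            ac_rfl
        _ = y⁻¹ * x := by rw [inv_mul_cancel, one_mul]
    exact (inv_mul_eq_one.mp (hσ _ h1)).symm
  refine MonoidHom.ext fun z => ?_
  obtain ⟨x, rfl⟩ := Finite.injective_iff_surjective.mp hinj z
  have h1 : f (σ x) = f x := DFunLike.congr_fun h x
  rw [map_mul, map_inv, h1, inv_mul_cancel, MonoidHom.one_apply]

end Dual

namespace Free

variable {p : ℕ} [hp : Fact p.Prime] {M : Ideal AlgInt} [M.IsPrime] {G : Type u} [Group G]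
  [Finite G] (D : Free p M G)

/-- The inequality, and the exceptions to equality for small quotients. -/
theorem count :
    Nat.card D.B ≤ D.e + (D.q - 1) / D.e ∧ (D.e ≤ 3 →
      Nat.card D.B = D.e + (D.q - 1) / D.e ∨ D.q = 7 ∨ D.q = 10 ∨ D.q = 13) := by
  classical
  letI := D.commGrp
  haveI := Fintype.ofFinite G
  haveI := Fintype.ofFinite D.P
  haveI : Fintype D.autE := Fintype.ofFinite _
  haveI : Fintype (D.P →* ℂˣ) := Fintype.ofFinite _
  obtain ⟨R, hR⟩ := (Set.toFinite {R : Finset (D.P →* ℂˣ) | (∀ a ∈ R, a ≠ 1) ∧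
    ∀ a ∈ R, ∀ b ∈ R, ∀ σ ∈ D.autE, a.comp (σ : MulAut D.P).toMonoidHom = b → a = b}).exists_maximal
    ⟨∅, by simp, by simp⟩
  obtain ⟨hR1, hR2⟩ := hR.prop
  have hfix : ∀ (σ : D.autE) (a : D.P →* ℂˣ), a ≠ 1 →
      a.comp (σ : MulAut D.P).toMonoidHom = a → σ = 1 := by
    intro σ a ha h
    by_contra hne
    refine ha (lin_eq_one_of_fixed (σ := (σ : MulAut D.P)) (fun x hx => ?_) h)
    by_contra hx1
    exact hne (Subtype.ext (D.autE_free σ.2 hx1 hx))
  have hpair : ∀ a ∈ R, ∀ b ∈ R, ∀ σ τ : D.autE,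
      a.comp (σ : MulAut D.P).toMonoidHom = b.comp (τ : MulAut D.P).toMonoidHom →
        a = b ∧ σ = τ := by
    intro a ha b hb σ τ h
    have h1 : a.comp ((σ * τ⁻¹ : D.autE) : MulAut D.P).toMonoidHom = b := by
      ext x
      have h2 := DFunLike.congr_fun h (((τ⁻¹ : D.autE) : MulAut D.P) x)
      simp only [MonoidHom.comp_apply, MulEquiv.coe_toMonoidHom, Subgroup.coe_inv,
        MulAut.apply_inv_self] at h2
      simp only [MonoidHom.comp_apply, MulEquiv.coe_toMonoidHom, Subgroup.coe_mul,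
        MulAut.mul_apply, Subgroup.coe_inv]
      rw [h2]
    have hab := hR2 a ha b hb _ (σ * τ⁻¹).2 h1
    rw [← hab] at h1
    exact ⟨hab, mul_inv_eq_one.mp (hfix _ a (hR1 a ha) h1)⟩
  have horb : ∀ f : D.P →* ℂˣ, f ≠ 1 →
      ∃ a ∈ R, ∃ σ : D.autE, a.comp (σ : MulAut D.P).toMonoidHom = f := by
    intro f hf
    by_contra hne
    push Not at hne
    have hins : insert f R ⊆ R := hR.le_of_ge ⟨fun r hr => by
        rcases Finset.mem_insert.mp hr with rfl | hr
        · exact hf
        · exact hR1 r hr,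
      fun a ha b hb σ hσ he => by
        rcases Finset.mem_insert.mp ha with hax | haR <;>
          rcases Finset.mem_insert.mp hb with hbx | hbR
        · rw [hax, hbx]
        · exfalso
          refine hne b hbR (⟨σ, hσ⟩⁻¹) ?_
          rw [← he, hax]
          ext x
          simp
        · exact absurd (he.trans hbx) (hne a haR ⟨σ, hσ⟩)
        · exact hR2 a haR b hbR σ hσ he⟩ (Finset.subset_insert f R)
    exact hne f (hins (Finset.mem_insert_self f R)) 1 (by ext x; rfl)
  -- the number of orbits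
  have hN : D.e * R.card = D.q - 1 := by
    have h : (Finset.univ.erase (1 : D.P →* ℂˣ)).card =
        (Finset.univ ×ˢ R : Finset (D.autE × (D.P →* ℂˣ))).card := by
      refine (Finset.card_bij (fun i _ => i.2.comp (i.1 : MulAut D.P).toMonoidHom) ?_ ?_ ?_).symm
      · intro i hi
        refine Finset.mem_erase.mpr ⟨fun h => hR1 _ (Finset.mem_product.mp hi).2 ?_,
          Finset.mem_univ _⟩
        ext x
        have h2 := DFunLike.congr_fun h ((i.1 : MulAut D.P)⁻¹ x)
        simpa using h2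
      · intro i hi j hj h
        obtain ⟨h1, h2⟩ := hpair _ (Finset.mem_product.mp hi).2 _ (Finset.mem_product.mp hj).2 _ _ h
        exact Prod.ext h2 h1
      · intro f hf
        obtain ⟨a, ha, σ, hσ⟩ := horb f (Finset.mem_erase.mp hf).1
        exact ⟨(σ, a), Finset.mem_product.mpr ⟨Finset.mem_univ _, ha⟩, hσ⟩
    rw [Finset.card_product, Finset.card_univ, ← Nat.card_eq_fintype_card, D.card_autE,
      Finset.card_erase_of_mem (Finset.mem_univ _), Finset.card_univ,
      ← Nat.card_eq_fintype_card,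
      CommGroup.card_monoidHom_of_hasEnoughRootsOfUnity D.P ℂ] at h
    exact h.symm
  -- the stable characters
  obtain ⟨η, hη⟩ : ∃ η : (D.P →* ℂˣ) → D.P → ℂ, η = fun f x =>
      (∑ τ : D.autE, (f ((τ : MulAut D.P) x) : ℂ)) - (D.e : ℂ) := ⟨_, rfl⟩
  have hE : ((Finset.univ : Finset D.autE).card : ℂ) = (D.e : ℂ) := by
    rw [Finset.card_univ, ← Nat.card_eq_fintype_card, D.card_autE]
  have hstab : ∀ f, D.IsStab (η f) := by
    intro f
    refine ⟨?_, ?_, ?_⟩
    · have h := CT.isGen_sub (CT.isGen_sum Finset.univ (f := fun (τ : D.autE) (x : D.P) =>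
        (f ((τ : MulAut D.P) x) : ℂ)) fun τ _ => isGen_lin (f.comp (τ : MulAut D.P).toMonoidHom))
        (CT.isGen_zsmul (D.e : ℤ) (isGen_one (A := D.P)))
      convert h using 1
      funext x
      simp [hη, Finset.sum_apply]
    · simp [hη, D.card_autE, ← Nat.card_eq_fintype_card]
    · intro σ hσ x
      simp only [hη]
      congr 1
      exact Fintype.sum_equiv (Equiv.mulRight (⟨σ, hσ⟩ : D.autE)) _ _ fun τ => rfl
  have hgram : ∀ a ∈ R, ∀ b ∈ R, classInner (η a) (η b) / (D.e : ℂ) =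
      (if a = b then 1 else 0) + (D.e : ℂ) := by
    intro a ha b hb
    have he : (D.e : ℂ) ≠ 0 := Nat.cast_ne_zero.mpr D.e_ne_zero
    have hne1 : ∀ (f : D.P →* ℂˣ), f ∈ R → ∀ τ : D.autE,
        f.comp (τ : MulAut D.P).toMonoidHom ≠ 1 := fun f hf τ h => hR1 f hf (by
      ext x
      have h2 := DFunLike.congr_fun h ((τ : MulAut D.P)⁻¹ x)
      simpa using h2)
    have hsum : ∑ x, η a x * conj (η b x) = (Nat.card D.P : ℂ) *
        ((D.e : ℂ) * (if a = b then 1 else 0) + (D.e : ℂ) * (D.e : ℂ)) := by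
      simp only [hη, map_sub, map_sum, map_natCast, sub_mul, mul_sub, Finset.sum_sub_distrib,
        Finset.sum_mul_sum]
      have e1 : ∑ x, ∑ τ : D.autE, ∑ τ' : D.autE, (a ((τ : MulAut D.P) x) : ℂ) *
          conj (b ((τ' : MulAut D.P) x) : ℂ) =
          (Nat.card D.P : ℂ) * ((D.e : ℂ) * if a = b then 1 else 0) := by
        rw [Finset.sum_comm, Finset.sum_congr rfl fun τ _ => Finset.sum_comm]
        refine Eq.trans (Finset.sum_congr rfl fun τ _ => Finset.sum_congr rfl fun τ' _ =>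
          sum_lin_conj (a.comp ((τ : D.autE) : MulAut D.P).toMonoidHom)
            (b.comp ((τ' : D.autE) : MulAut D.P).toMonoidHom)) ?_
        rw [Finset.sum_congr rfl fun τ _ => Finset.sum_congr rfl fun τ' _ =>
          show (if a.comp ((τ : D.autE) : MulAut D.P).toMonoidHom =
              b.comp ((τ' : D.autE) : MulAut D.P).toMonoidHom then (Nat.card D.P : ℂ) else 0) =
            if τ' = τ then (if a = b then (Nat.card D.P : ℂ) else 0) else 0 by
          by_cases h : a.comp ((τ : D.autE) : MulAut D.P).toMonoidHom =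
              b.comp ((τ' : D.autE) : MulAut D.P).toMonoidHom
          · obtain ⟨h1, h2⟩ := hpair a ha b hb τ τ' h
            rw [if_pos h, if_pos h2.symm, if_pos h1]
          · rw [if_neg h]
            split_ifs with h2 h1
            · exact absurd (by rw [h1, h2]) h
            · rfl
            · rfl]
        simp only [Finset.sum_ite_eq', Finset.mem_univ, if_true, Finset.sum_const, nsmul_eq_mul, hE]
        split_ifs <;> ring
      have e2 : ∀ f ∈ R, ∑ x, ∑ τ : D.autE, (f ((τ : MulAut D.P) x) : ℂ) = 0 := fun f hf => by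
        rw [Finset.sum_comm]
        refine Finset.sum_eq_zero fun τ _ => ?_
        refine (sum_lin (f.comp (τ : MulAut D.P).toMonoidHom)).trans (if_neg (hne1 f hf τ))
      have e3 : ∑ x, ∑ τ : D.autE, conj (b ((τ : MulAut D.P) x) : ℂ) = 0 := by
        have h := congrArg (starRingEnd ℂ) (e2 b hb)
        simpa only [map_sum, map_zero] using h
      have e4 : ∑ x, (∑ τ : D.autE, (a ((τ : MulAut D.P) x) : ℂ)) * (D.e : ℂ) = 0 := by
        rw [← Finset.sum_mul, e2 a ha, zero_mul]
      rw [e1, e4, ← Finset.mul_sum, e3, Finset.sum_const, Finset.card_univ,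
        ← Nat.card_eq_fintype_card, nsmul_eq_mul]
      ring
    rw [classInner, hsum, ← mul_assoc, inv_mul_cancel₀ CT.card_ne_zero, one_mul]
    field_simp
  -- the integral vectors
  choose V hV using fun (a : R) (χ : D.Bs) => D.vv_int (hstab a.1) χ.1
  have hG : ∀ a b : R, ∑ χ, V a χ * V b χ = (if a = b then 1 else 0) + (D.e : ℤ) := by
    intro a b
    apply Int.cast_injective (α := ℂ)
    push_cast
    rw [Finset.sum_congr rfl fun χ _ => by rw [← hV, ← hV],
      Finset.sum_coe_sort D.Bs (fun χ => D.vv (η a.1) χ * D.vv (η b.1) χ),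
      D.gram (hstab a.1) (hstab b.1), hgram a.1 a.2 b.1 b.2]
    simp only [Subtype.ext_iff]
  have hdeg : ∀ a : R, ∑ χ : D.Bs, (charDegree ((χ.1 : IrrCharacter G) : G → ℂ) : ℤ) * V a χ = 0 := by
    intro a
    apply Int.cast_injective (α := ℂ)
    push_cast
    rw [Finset.sum_congr rfl fun χ _ => by rw [← hV, ← charDegree_cast],
      Finset.sum_coe_sort D.Bs (fun χ => (χ : G → ℂ) 1 * D.vv (η a.1) χ), D.vv_degree]
  have hcov : ∀ χ : D.Bs, ∃ a : R, V a χ ≠ 0 := by
    intro χ
    by_contra h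
    push Not at h
    obtain ⟨φ, hφ⟩ : ∃ φ : D.P → ℂ, φ = fun x => conj (D.dv χ.1 x) * (D.sgn x : ℂ) := ⟨_, rfl⟩
    have hall : ∀ f : D.P →* ℂˣ, D.vv (η f) χ.1 = 0 := by
      intro f
      rcases eq_or_ne f 1 with rfl | hf
      · have h0 : η 1 = fun _ => 0 := by
          funext x; simp [hη, D.card_autE, ← Nat.card_eq_fintype_card]
        simp [vv, h0]
      · obtain ⟨a, ha, σ, hσ⟩ := horb f hf
        have h0 : η f = η a := by
          funext x
          simp only [hη]
          congr 1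
          rw [← hσ]
          exact Fintype.sum_equiv (Equiv.mulLeft σ) _ _ fun τ => rfl
        rw [h0, hV ⟨a, ha⟩ χ, h ⟨a, ha⟩, Int.cast_zero]
    have hst : ∀ σ ∈ D.autE, ∀ x, x ≠ 1 → φ (σ x) = φ x := fun σ hσ x hx => by
      simp only [hφ, D.dv_aut _ hσ hx, D.sgn_aut hσ hx]
    obtain ⟨C, hC⟩ : ∃ C, C = ∑ x ∈ Finset.univ.erase (1 : D.P), φ x := ⟨_, rfl⟩
    have hfour : ∀ f : D.P →* ℂˣ, ∑ x ∈ Finset.univ.erase (1 : D.P), (f x : ℂ) * φ x = C := by
      intro f
      have h1 : ∑ x ∈ Finset.univ.erase (1 : D.P), η f x * φ x = 0 := by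
        have h2 := hall f
        rw [vv, mul_eq_zero] at h2
        rw [← h2.resolve_left (inv_ne_zero D.eq_ne_zero)]
        exact Finset.sum_congr rfl fun x _ => by rw [hφ]; ring
      have h3 : ∀ τ : D.autE, ∑ x ∈ Finset.univ.erase (1 : D.P),
          (f ((τ : MulAut D.P) x) : ℂ) * φ x =
            ∑ x ∈ Finset.univ.erase (1 : D.P), (f x : ℂ) * φ x := by
        intro τ
        refine Finset.sum_equiv (τ : MulAut D.P).toEquiv (fun x => by simp) fun x hx => ?_
        rw [MulEquiv.toEquiv_eq_coe, EquivLike.coe_coe, hst _ τ.2 x (Finset.mem_erase.mp hx).1]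
      simp only [hη, sub_mul, Finset.sum_sub_distrib, Finset.sum_mul] at h1
      rw [Finset.sum_comm, Finset.sum_congr rfl fun τ _ => h3 τ, Finset.sum_const, nsmul_eq_mul, hE,
        ← Finset.mul_sum, ← hC, ← mul_sub, mul_eq_zero] at h1
      exact sub_eq_zero.mp (h1.resolve_left (Nat.cast_ne_zero.mpr D.e_ne_zero))
    obtain ⟨x₀, hx₀⟩ := Subgroup.ne_bot_iff_exists_ne_one.mp D.hP1
    have hneg : φ x₀ * (Nat.card (D.P →* ℂˣ) : ℂ) = 0 := by
      have h1 : ∑ f : D.P →* ℂˣ, (f x₀⁻¹ : ℂ) *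
          ∑ x ∈ Finset.univ.erase (1 : D.P), (f x : ℂ) * φ x = 0 := by
        rw [Finset.sum_congr rfl fun f _ => by rw [hfour f], ← Finset.sum_mul,
          sum_dual (inv_ne_one.mpr hx₀), zero_mul]
      rw [← h1]
      simp only [Finset.mul_sum]
      rw [Finset.sum_comm, Finset.sum_eq_single_of_mem x₀
        (Finset.mem_erase.mpr ⟨hx₀, Finset.mem_univ _⟩)]
      · rw [Finset.sum_congr rfl fun f _ => show (f x₀⁻¹ : ℂ) * ((f x₀ : ℂ) * φ x₀) = φ x₀ by
          rw [← mul_assoc, ← Units.val_mul, ← map_mul, inv_mul_cancel, map_one, Units.val_one,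
            one_mul], Finset.sum_const, Finset.card_univ, ← Nat.card_eq_fintype_card, nsmul_eq_mul,
          mul_comm]
      · intro x _ hx
        rw [Finset.sum_congr rfl fun f _ => show (f x₀⁻¹ : ℂ) * ((f x : ℂ) * φ x) =
            (f (x₀⁻¹ * x) : ℂ) * φ x by rw [map_mul, Units.val_mul]; ring, ← Finset.sum_mul,
          sum_dual (fun h0 => hx (inv_mul_eq_one.mp h0).symm), zero_mul]
    have hφ0 : φ x₀ ≠ 0 := by
      rw [hφ]
      exact mul_ne_zero ((map_ne_zero _).mpr (D.dv_ne_zero (D.mem_Bs.mp χ.2) hx₀))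
        (left_ne_zero_of_mul_eq_one (D.sgn_sq x₀))
    exact hφ0 ((mul_eq_zero.mp hneg).resolve_right (Nat.cast_ne_zero.mpr Nat.card_pos.ne'))
  have hRne : Nonempty R := by
    obtain ⟨x₀, hx₀⟩ := Subgroup.ne_bot_iff_exists_ne_one.mp D.hP1
    obtain ⟨f, hf⟩ := CommGroup.exists_apply_ne_one_of_hasEnoughRootsOfUnity D.P ℂ hx₀
    obtain ⟨a, ha, -⟩ := horb f fun h => hf (by rw [h, MonoidHom.one_apply])
    exact ⟨⟨a, ha⟩⟩
  have h := coherent_count (e := D.e)
    (fun χ : D.Bs => (charDegree ((χ.1 : IrrCharacter G) : G → ℂ) : ℤ))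
    (fun χ => by exact_mod_cast charDegree_pos χ.1) V hG hdeg hcov hRne
  rw [Fintype.card_coe, Fintype.card_coe, D.card_Bs] at h
  have hdiv : (D.q - 1) / D.e = R.card := by
    rw [← hN, Nat.mul_div_cancel_left _ (Nat.pos_of_ne_zero D.e_ne_zero)]
  rw [hdiv]
  refine ⟨h.1, fun he => ?_⟩
  have := D.one_lt_q
  rcases h.2 he with h' | h' | h' | h'
  · exact Or.inl h'
  · right; left; omega
  · right; right; left; omega
  · right; right; right; omega

/-- The numbers of characters of the block. -/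
theorem counts :
    Nat.card D.B ≤ D.e + (D.q - 1) / D.e ∧ blockRank p D.B ≤ D.e ∧
      (Nat.card D.B = D.e + (D.q - 1) / D.e ↔ blockRank p D.B = D.e) ∧
      (D.e ≤ 3 → Nat.card D.B = D.e + (D.q - 1) / D.e ∧ blockRank p D.B = D.e) := by
  classical
  haveI := Fintype.ofFinite G
  haveI := Fintype.ofFinite D.P
  obtain ⟨h1, h2⟩ := D.count
  obtain ⟨N, hN⟩ := D.e_dvd
  have he := Nat.pos_of_ne_zero D.e_ne_zero
  have hk : Nat.card D.B = blockRank p D.B + N := by
    have h := D.card_B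
    rw [hN, mul_comm D.e N, ← add_mul] at h
    exact Nat.eq_of_mul_eq_mul_right he h
  have hdiv : (D.q - 1) / D.e = N := by rw [hN, Nat.mul_div_cancel_left _ he]
  rw [hdiv] at h1 h2 ⊢
  refine ⟨h1, by omega, by omega, fun he3 => ?_⟩
  have hprime : D.q = 7 ∨ D.q = 13 → blockRank p D.B = D.e := by
    intro hq
    haveI : Fact (Nat.card D.P).Prime := ⟨by
      rw [show Nat.card D.P = D.q from rfl]
      rcases hq with h | h <;> rw [h] <;> norm_num⟩
    have hcyc : IsCyclic D.P := isCyclic_of_prime_card rfl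
    let S : Cyclic.Setting p M G := ⟨D.hM, D.B, D.hB, D.P, BPairs.isDefectGroup_of_maximal D.hM D.hmax,
      hcyc, D.hP1, D.c, isInducedBlock_of_brauerPair D.hM D.hmax.1⟩
    exact S.blockRank_eq
  rcases h2 he3 with h | h | h | h
  · omega
  · have := hprime (Or.inl h); omega
  · exfalso
    have hq := D.q_eq
    rw [h] at hq
    obtain ⟨k, hk'⟩ := Nat.exists_eq_succ_of_ne_zero D.defect_ne_zero
    rw [hk', pow_succ] at hq
    have hp10 : p ∣ 10 := ⟨p ^ k, by rw [hq, mul_comm]⟩
    have hple : p ≤ 10 := Nat.le_of_dvd (by norm_num) hp10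
    have hpp := hp.out
    rcases k with _ | k
    · simp at hq; subst hq; norm_num at hpp
    · have h4 : p * p ∣ 10 := ⟨p ^ k, by rw [hq]; ring⟩
      interval_cases p
      all_goals first | (revert hpp; norm_num; done) | (revert h4; norm_num)
  · have := hprime (Or.inr h); omega

end Free

end Cfsg.Agent.FreeStar
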