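import Cfsg.Agent.Lib.FreeStar.Pairs
import Cfsg.Agent.Lib.Blocks.InertiaFixed

/-!
# The columns of a block with free inertial action
-/

namespace Cfsg.Agent.FreeStar

open MonoidAlgebra BPairs Blocks
open scoped ComplexConjugate

universe u

set_option linter.unusedSectionVars false

namespace Free

variable {p : ℕ} [hp : Fact p.Prime] {M : Ideal AlgInt} [M.IsPrime] {G : Type u} [Group G]
  [Finite G] (D : Free p M G)

/-- The cyclic subgroup of an element of `P`. -/
abbrev zp (v : D.P) : Subgroup G := Subgroup.zpowers (v : G)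

theorem zp_le (v : D.P) : D.zp v ≤ D.P := Subgroup.zpowers_le.mpr v.2

theorem zp_ne {v : D.P} (hv : v ≠ 1) : D.zp v ≠ ⊥ := fun h =>
  hv (Subtype.ext (Subgroup.zpowers_eq_bot.mp h))

/-- The element `v` in its centralizer. -/
def cel (v : D.P) : cz (v : G) := ⟨(v : G), mem_cz_self (v : G)⟩

theorem cel_center (v : D.P) : D.cel v ∈ Subgroup.center (cz (v : G)) :=
  Subgroup.mem_center_iff.mpr fun w => Subtype.ext (mem_cz.mp w.2)

theorem v_pow (v : D.P) : ∃ k : ℕ, (v : G) ^ p ^ k = 1 := exists_pow_eq_one_of_isPGroup D.hPp v.2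

/-- The values of a character at the idempotent. -/
noncomputable def gfun (χ : IrrCharacter G) (v : D.P) : ℂ := phi p χ (v : G) D.src

theorem isGen_gfun (χ : IrrCharacter G) : IsGeneralizedCharacter D.P (D.gfun χ) :=
  isGen_phi D.hM χ D.P D.src_spec.1 D.src_spec.2.1

/-- The factor of a character at `v`. -/
noncomputable def dv (χ : IrrCharacter G) (v : D.P) : ℂ :=
  letI := Fintype.ofFinite (cz (v : G))
  dVal (D.blk (D.zp v)) (fun k : cz (v : G) => (χ : G → ℂ) k) (D.cel v)

theorem gfun_eq (χ : IrrCharacter G) {v : D.P} (hv : v ≠ 1) :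
    D.gfun χ v = D.dv χ v * (D.mS (D.zp v) : ℂ) := by
  classical
  letI := Fintype.ofFinite (cz (v : G))
  obtain ⟨hj, hred, -⟩ := D.jlift_spec (D.zp_le v)
  obtain ⟨-, -, hall⟩ := D.xi_spec (D.zp_le v) (D.zp_ne hv)
  have hcomm : Commute (embH (cz (v : G)) (D.jlift (D.zp v))) (single (v : G) (1 : Loc M)) := by
    rw [show single (v : G) (1 : Loc M) = embH (cz (v : G)) (single (D.cel v) 1) by
      rw [embH_single]; rfl]
    refine Commute.map ?_ _
    rw [commute_single_iff]
    intro w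
    congr 1
    rw [← Subgroup.mem_center_iff.mp (D.cel_center v) w, mul_inv_cancel_right]
  rw [gfun, phi_eq D.hM χ (ε := embH (cz (v : G)) (D.jlift (D.zp v))) (by rw [← map_mul, hj]) hcomm
    (fun w hw => by
      rw [pPart_self (D.v_pow v)] at hw
      have hwC : w ∈ cz (v : G) := mem_cz.mpr hw
      rw [show w = ((⟨w, hwC⟩ : cz (v : G)) : G) from rfl, coeff_embH, ← coeff_map',
        show mapRingHom _ (red M) (D.jlift (D.zp v)) = D.jbar (D.zp v) from hred]
      simp only [jbar, coeff_resH]),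
    ev_charL_toC, map_mul, toC, map_embH, toC_single,
    show single (v : G) (1 : ℂ) = embH (cz (v : G)) (single (D.cel v) 1) by rw [embH_single]; rfl,
    ← map_mul, ev_embH]
  have h := evC_translate D.hM (D.blk_spec (D.zp_le v)).1 hall (j := D.jlift (D.zp v))
    (CT.isCharacter_restrict (cz (v : G)) (CT.isCharacter_of_isIrr χ.2)) (D.cel_center v) hj
    (by rw [hred]; exact (D.jbar_facts (D.zp_le v)).2.1)
  rw [evC, map_mul, toC_single] at h
  rw [D.mS_spec (D.zp_le v)] at h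
  exact h

/-- The block part at `v` is the factor times the one Brauer character. -/
theorem phi_blk (χ : IrrCharacter G) {v : D.P} (hv : v ≠ 1) (y : cz (v : G))
    (hy : ¬ p ∣ orderOf y) :
    phi p χ ((v : G) * (y : G)) (bel M (cz (v : G)) (D.blk (D.zp v))) =
      D.dv χ v * (D.xi (D.zp v) : cz (v : G) → ℂ) y := by
  classical
  letI := Fintype.ofFinite (cz (v : G))
  obtain ⟨-, -, hall⟩ := D.xi_spec (D.zp_le v) (D.zp_ne hv)
  have hb := (D.blk_spec (D.zp_le v)).1
  have hA := blockCoeff_mem_loc (M := M) hb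
  obtain ⟨ε, hε⟩ : ∃ ε : MonoidAlgebra (Loc M) G, ε = embH (cz (v : G))
      (bIdem M (D.blk (D.zp v)) : MonoidAlgebra (Loc M) (cz (v : G))) := ⟨_, rfl⟩
  have hεε : ε * ε = ε := by rw [hε, ← map_mul, ← Subring.coe_mul, bIdem_mul_self hA]
  have hmem : (v : G) * (y : G) ∈ cz (v : G) := mul_mem (mem_cz_self _) y.2
  have hεc : Commute ε (single ((v : G) * (y : G)) 1) :=
    hε ▸ isInv_iff_commute.mp (isInv_embH le_rfl (bIdem M _).2) _ hmem
  have hred : redG M G ε = bel M (cz (v : G)) (D.blk (D.zp v)) := by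
    rw [hε, bel, redG, map_embH]; rfl
  have h := evC_bIdem_translate D.hM hb hall
    (CT.isCharacter_restrict (cz (v : G)) (CT.isCharacter_of_isIrr χ.2)) (D.cel_center v) hy
  rw [evC, map_mul, toC_single] at h
  rw [phi_eq_of_red D.hM χ hεε hεc hred, ev_charL_toC, map_mul, hε, toC, map_embH, toC_single,
    show single ((v : G) * (y : G)) (1 : ℂ) = embH (cz (v : G)) (single (D.cel v * y) 1) by
      rw [embH_single]; rfl, ← map_mul, ev_embH]
  exact h

theorem dv_mem (χ : IrrCharacter G) (v : D.P) :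
    D.dv χ v ∈ Subring.closure {w : ℂ | w ^ D.q = 1} := by
  letI := Fintype.ofFinite (cz (v : G))
  refine dVal_mem_closure _ (D.cel_center v) (Subtype.ext ?_)
  have h : (((v ^ Nat.card D.P : D.P)) : G) = 1 := by rw [pow_card_eq_one']; rfl
  rw [SubmonoidClass.coe_pow] at h
  rw [SubmonoidClass.coe_pow, OneMemClass.coe_one]
  exact h

theorem dv_integral (χ : IrrCharacter G) (v : D.P) : IsIntegral ℤ (D.dv χ v) := by
  have h := D.dv_mem χ v
  revert h
  generalize D.dv χ v = z
  intro h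
  induction h using Subring.closure_induction with
  | mem w hw =>
    exact IsIntegral.of_pow (lt_trans Nat.zero_lt_one D.one_lt_q) (by rw [hw]; exact isIntegral_one)
  | zero => exact isIntegral_zero
  | one => exact isIntegral_one
  | add x y _ _ hx hy => exact hx.add hy
  | neg x _ hx => exact hx.neg
  | mul x y _ _ hx hy => exact hx.mul hy

/-- The Brauer–Feit pairing on the block below is the constant `1 / q`. -/
theorem bfPair_below {v : D.P} (hv : v ≠ 1) [Fintype (cz (v : G))] {η η' : IrrCharacter (cz (v : G))}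
    (hη : η ∈ D.blk (D.zp v)) (hη' : η' ∈ D.blk (D.zp v)) :
    (D.q : ℂ) * bfPair p η η' = 1 := by
  classical
  have hb := (D.blk_spec (D.zp_le v)).1
  obtain ⟨hcard, hxi, hall⟩ := D.xi_spec (D.zp_le v) (D.zp_ne hv)
  have hreg : ∀ η ∈ D.blk (D.zp v), regFun p η = regFun p (D.xi (D.zp v) : IrrCharacter (cz (v : G))) :=
    fun η hη => funext fun y => by
      simp only [regFun]
      split_ifs with hy
      · rfl
      · exact hall η hη y hy
  have hconst : ∀ η ∈ D.blk (D.zp v), ∀ η' ∈ D.blk (D.zp v), bfPair p η η' =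
      bfPair p (D.xi (D.zp v) : IrrCharacter (cz (v : G))) (D.xi (D.zp v)) := by
    intro η hη η' hη'
    rw [bfPair, hreg η hη, ← bfPair, bfPair_symm, bfPair, hreg η' hη', ← bfPair, bfPair_symm]
  obtain ⟨ψ, hψ, h0⟩ := exists_height_zero (p := p) hb
  have hne : bfPair p (D.xi (D.zp v) : IrrCharacter (cz (v : G))) (D.xi (D.zp v)) ≠ 0 := by
    rw [← hconst ψ hψ ψ hψ]
    exact bfPair_ne_zero D.hM hb hψ hψ h0
  have hid := bfPair_idem (p := p) (D.xi (D.zp v) : IrrCharacter (cz (v : G))) (D.xi (D.zp v))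
  rw [← Finset.sum_subset (Finset.subset_univ (Set.toFinite (D.blk (D.zp v))).toFinset) (fun η _ h => by
      rw [bfPair_zero_of_mem D.hM hb hxi (fun h' => h ((Set.Finite.mem_toFinset _).mpr h')),
        zero_mul]),
    Finset.sum_congr rfl (fun η h => by
      rw [hconst _ hxi η ((Set.Finite.mem_toFinset _).mp h),
        hconst η ((Set.Finite.mem_toFinset _).mp h) _ hxi]), Finset.sum_const, nsmul_eq_mul,
    ← Set.ncard_eq_toFinset_card, ← Nat.card_coe_set_eq, hcard, ← mul_assoc] at hid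
  rw [hconst η hη η' hη']
  exact (mul_eq_right₀ hne).mp hid

theorem blockRank_below {v : D.P} (hv : v ≠ 1) : blockRank p (D.blk (D.zp v)) = 1 := by
  classical
  letI := Fintype.ofFinite (cz (v : G))
  obtain ⟨hcard, hxi, -⟩ := D.xi_spec (D.zp_le v) (D.zp_ne hv)
  have h := sum_bfPair_self (p := p) D.hM (D.blk_spec (D.zp_le v)).1
  have hq : (D.q : ℂ) ≠ 0 := Nat.cast_ne_zero.mpr (by have := D.one_lt_q; omega)
  rw [Finset.sum_congr rfl fun η _ => show (if η ∈ D.blk (D.zp v) then bfPair p η η else 0) =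
      if η ∈ D.blk (D.zp v) then (D.q : ℂ)⁻¹ else 0 by
    split_ifs with hη
    · exact eq_inv_of_mul_eq_one_right (D.bfPair_below hv hη hη)
    · rfl, ← Finset.sum_filter, Finset.sum_const, nsmul_eq_mul, ← Fintype.card_subtype,
    ← Nat.card_eq_fintype_card,
    show Nat.card {x // x ∈ D.blk (D.zp v)} = D.q from hcard, mul_inv_cancel₀ hq] at h
  exact_mod_cast h.symm

theorem belAt_blk (v : D.P) :
    BelAt p M D.P D.c (v : G) (bel M (cz (v : G)) (D.blk (D.zp v))) :=
  ⟨D.blk (D.zp v), (D.blk_spec (D.zp_le v)).2, rfl⟩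

/-- The cross pairing of the parts of two characters. -/
noncomputable def cross (χ χ' : IrrCharacter G) (x : G) (a : MonoidAlgebra (Res M) G) : ℂ :=
  ∑ᶠ g : G, open Classical in if pPart p g = x then phi p χ g a * conj (phi p χ' g a) else 0

theorem cross_eq {v : D.P} (hv : v ≠ 1) (χ χ' : IrrCharacter G) :
    cross (p := p) χ χ' (v : G) (bel M (cz (v : G)) (D.blk (D.zp v))) =
      D.dv χ v * conj (D.dv χ' v) * ((Nat.card (cz (v : G)) : ℂ) * (D.q : ℂ)⁻¹) := by
  classical
  haveI := Fintype.ofFinite G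
  letI := Fintype.ofFinite (cz (v : G))
  obtain ⟨-, hxi, -⟩ := D.xi_spec (D.zp_le v) (D.zp_ne hv)
  rw [show (D.q : ℂ)⁻¹ = bfPair p (D.xi (D.zp v) : IrrCharacter (cz (v : G))) (D.xi (D.zp v)) from
    (eq_inv_of_mul_eq_one_right (D.bfPair_below hv hxi hxi)).symm, ← sum_regFun_mul, Finset.mul_sum,
    cross, finsum_eq_sum_of_fintype, ← Finset.sum_filter, sum_fiber (D.v_pow v)]
  refine Finset.sum_congr rfl fun y _ => ?_
  by_cases hy : p ∣ orderOf y
  · rw [if_pos hy]
    show (0 : ℂ) = _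
    simp [regFun, hy]
  · rw [if_neg hy, regFun, if_neg hy, D.phi_blk χ hv y hy, D.phi_blk χ' hv y hy, map_mul]
    ring

/-- The squared absolute values of a column. -/
theorem column_self {v : D.P} (hv : v ≠ 1) :
    ∑ᶠ χ ∈ D.B, D.dv χ v * conj (D.dv χ v) = (D.q : ℂ) := by
  classical
  haveI := Fintype.ofFinite G
  have h := sum_partNorm D.hM D.hmax (D.zp_le v) (D.belAt_blk v)
  rw [rankAt_eq D.hM D.hmax (D.zp_le v) (D.blk_spec (D.zp_le v)).1 (D.blk_spec (D.zp_le v)).2,
    D.blockRank_below hv, Nat.cast_one, mul_one,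
    finsum_mem_congr rfl fun χ _ => show partNorm p χ (v : G) (bel M (cz (v : G)) (D.blk (D.zp v))) =
      D.dv χ v * conj (D.dv χ v) * ((Nat.card (cz (v : G)) : ℂ) * (D.q : ℂ)⁻¹) from D.cross_eq hv χ χ,
    finsum_mem_eq_finite_toFinset_sum _ (Set.toFinite D.B), ← Finset.sum_mul] at h
  rw [finsum_mem_eq_finite_toFinset_sum _ (Set.toFinite D.B)]
  have hK : (Nat.card (cz (v : G)) : ℂ) ≠ 0 := Nat.cast_ne_zero.mpr Nat.card_pos.ne'
  have hq : (D.q : ℂ) ≠ 0 := Nat.cast_ne_zero.mpr (by have := D.one_lt_q; omega)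
  field_simp at h
  exact h

theorem dv_ne_zero {χ : IrrCharacter G} (hχ : χ ∈ D.B) {v : D.P} (hv : v ≠ 1) :
    D.dv χ v ≠ 0 := by
  classical
  haveI := Fintype.ofFinite G
  intro h0
  have hb := (D.blk_spec (D.zp_le v)).1
  have hi := inB_of_belAt D.hM D.hmax (D.belAt_blk v)
  refine phi_ne_zero_of_full_defect D.hM (D.v_pow v)
    (isInducedBlock_of_brauerPair D.hM (isBrauerPairOf_of_inB D.hM D.hB (D.v_pow v) hb hi))
    (D.blockDefect_below (D.zp_le v) hb (D.blk_spec (D.zp_le v)).2) hχ ?_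
  have h := D.phi_blk χ hv 1 (by rw [orderOf_one]; exact hp.out.not_dvd_one)
  rw [OneMemClass.coe_one, mul_one, h0, zero_mul] at h
  exact h

/-- Conjugation of an element of `P` by an element of the inertial group. -/
noncomputable def tw (t : stabSub M D.P D.c) (v : D.P) : D.P :=
  ⟨(t : G) * (v : G) * (t : G)⁻¹, (Subgroup.mem_normalizer_iff.mp t.2.1 (v : G)).mp v.2⟩

theorem tw_ne_one (t : stabSub M D.P D.c) {v : D.P} (hv : v ≠ 1) : D.tw t v ≠ 1 := fun h =>
  hv (Subtype.ext (conj_eq_one_iff.mp (congrArg Subtype.val h)))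

set_option maxHeartbeats 1000000 in
/-- The columns are constant on the orbits of the inertial group. -/
theorem dv_conj (χ : IrrCharacter G) (t : stabSub M D.P D.c) {v : D.P} (hv : v ≠ 1) :
    D.dv χ (D.tw t v) = D.dv χ v := by
  classical
  haveI := Fintype.ofFinite G
  have hw := D.tw_ne_one t hv
  obtain ⟨hfb, hle⟩ := D.blk_spec (D.zp_le v)
  have h1 := subpair_conj D.hM hle (t : G)
  rw [(conjIdx_eq_self_iff (show IsPBlock M (⟨D.P, D.c⟩ : BrauerPairIdx G).2 from D.hc)).mpr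
    t.2] at h1
  have hbel : conjA (t : G) (bel M (cz (v : G)) (D.blk (D.zp v))) =
      bel M (cz ((D.tw t v : D.P) : G)) (D.blk (D.zp (D.tw t v))) := by
    have h2 : BelAt p M D.P D.c ((t : G) * (v : G) * (t : G)⁻¹)
        (conjA (t : G) (bel M (cz (v : G)) (D.blk (D.zp v)))) :=
      belAt_conj (Q := Subgroup.zpowers (v : G)) (f := D.blk (D.zp v)) D.hM hfb
        Relation.ReflTransGen.refl h1
    have h3 : BelAt p M D.P D.c ((t : G) * (v : G) * (t : G)⁻¹)
        (bel M (cz ((D.tw t v : D.P) : G)) (D.blk (D.zp (D.tw t v)))) := D.belAt_blk (D.tw t v)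
    exact belAt_unique D.hM D.hmax h2 h3
  have hmem : bel M (cz (v : G)) (D.blk (D.zp v)) ∈ blkIdem M (pPart p (v : G)) := by
    rw [pPart_self (D.v_pow v)]; exact mem_blkIdemS.mpr ⟨_, hfb, rfl⟩
  have hphi : ∀ θ : IrrCharacter G,
      phi p θ ((D.tw t v : D.P) : G) (bel M (cz ((D.tw t v : D.P) : G)) (D.blk (D.zp (D.tw t v)))) =
        phi p θ (v : G) (bel M (cz (v : G)) (D.blk (D.zp v))) := fun θ => by
    rw [← hbel]
    exact phi_conjA D.hM θ (t : G) (blkIdem_mul_self hmem) (blk_commute hmem)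
  have hval : ∀ θ : IrrCharacter G, ∀ w : D.P, w ≠ 1 →
      phi p θ (w : G) (bel M (cz (w : G)) (D.blk (D.zp w))) =
        D.dv θ w * (charDegree (D.xi (D.zp w) : cz (w : G) → ℂ) : ℂ) := fun θ w hw => by
    have h := D.phi_blk θ hw 1 (by rw [orderOf_one]; exact hp.out.not_dvd_one)
    rw [OneMemClass.coe_one, mul_one, charDegree_cast] at h
    exact h
  have e : ∀ θ : IrrCharacter G,
      D.dv θ (D.tw t v) * (charDegree (D.xi (D.zp (D.tw t v)) : cz ((D.tw t v : D.P) : G) → ℂ) : ℂ) =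
        D.dv θ v * (charDegree (D.xi (D.zp v) : cz (v : G) → ℂ) : ℂ) := fun θ => by
    rw [← hval θ _ hw, hphi, hval θ v hv]
  obtain ⟨a, ha⟩ : ∃ a : ℕ, a = charDegree (D.xi (D.zp (D.tw t v)) : cz ((D.tw t v : D.P) : G) → ℂ) :=
    ⟨_, rfl⟩
  obtain ⟨b, hb⟩ : ∃ b : ℕ, b = charDegree (D.xi (D.zp v) : cz (v : G) → ℂ) := ⟨_, rfl⟩
  rw [← ha, ← hb] at e
  have hab : (a : ℂ) ^ 2 = (b : ℂ) ^ 2 := by
    have hq : (D.q : ℂ) ≠ 0 := Nat.cast_ne_zero.mpr (by have := D.one_lt_q; omega)
    refine mul_left_cancel₀ hq ?_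
    calc (D.q : ℂ) * (a : ℂ) ^ 2
        = ∑ᶠ χ ∈ D.B, D.dv χ (D.tw t v) * conj (D.dv χ (D.tw t v)) * (a : ℂ) ^ 2 := by
          rw [finsum_mem_eq_finite_toFinset_sum _ (Set.toFinite D.B), ← Finset.sum_mul,
            ← finsum_mem_eq_finite_toFinset_sum _ (Set.toFinite D.B), D.column_self hw]
      _ = ∑ᶠ χ ∈ D.B, D.dv χ v * conj (D.dv χ v) * (b : ℂ) ^ 2 := by
          refine finsum_mem_congr rfl fun θ _ => ?_
          have h2 := congrArg conj (e θ)
          rw [map_mul, map_mul, map_natCast, map_natCast] at h2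
          calc _ = (D.dv θ (D.tw t v) * (a : ℂ)) * (conj (D.dv θ (D.tw t v)) * (a : ℂ)) := by ring
            _ = _ := by rw [e θ, h2]; ring
      _ = (D.q : ℂ) * (b : ℂ) ^ 2 := by
          rw [finsum_mem_eq_finite_toFinset_sum _ (Set.toFinite D.B), ← Finset.sum_mul,
            ← finsum_mem_eq_finite_toFinset_sum _ (Set.toFinite D.B), D.column_self hv]
  have hab' : a = b := Nat.pow_left_injective two_ne_zero (by exact_mod_cast hab)
  have := e χ
  rw [hab'] at this
  exact mul_right_cancel₀ (Nat.cast_ne_zero.mpr (hb ▸ (charDegree_pos _).ne')) this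

end Free

end Cfsg.Agent.FreeStar
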