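import Cfsg.Agent.Lib.Blocks.InertiaFixed
import Cfsg.Agent.Lib.CT.Induced
import Mathlib.Algebra.CharP.Lemmas
import Mathlib.NumberTheory.Basic

/-!
# Generalized characters of an abelian `p`-group: congruences and rationality
-/

namespace Cfsg.Agent.FreeStar

open Blocks
open scoped ComplexConjugate

universe u

set_option linter.unusedSectionVars false

/-- Congruence of complex numbers modulo `n` over the algebraic integers. -/
def Cong (n : ℕ) (a b : ℂ) : Prop := ∃ w : ℂ, IsIntegral ℤ w ∧ a - b = (n : ℂ) * w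

theorem Cong.refl (n : ℕ) (a : ℂ) : Cong n a a := ⟨0, isIntegral_zero, by simp⟩

theorem Cong.symm {n : ℕ} {a b : ℂ} (h : Cong n a b) : Cong n b a := by
  obtain ⟨w, hw, h⟩ := h
  exact ⟨-w, hw.neg, by linear_combination -h⟩

theorem Cong.trans {n : ℕ} {a b c : ℂ} (h : Cong n a b) (h' : Cong n b c) : Cong n a c := by
  obtain ⟨w, hw, h⟩ := h
  obtain ⟨w', hw', h'⟩ := h'
  exact ⟨w + w', hw.add hw', by linear_combination h + h'⟩

theorem Cong.add {n : ℕ} {a b c d : ℂ} (h : Cong n a b) (h' : Cong n c d) :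
    Cong n (a + c) (b + d) := by
  obtain ⟨w, hw, h⟩ := h
  obtain ⟨w', hw', h'⟩ := h'
  exact ⟨w + w', hw.add hw', by linear_combination h + h'⟩

theorem Cong.mul {n : ℕ} {a b c d : ℂ} (h : Cong n a b) (h' : Cong n c d) (hb : IsIntegral ℤ b)
    (hc : IsIntegral ℤ c) : Cong n (a * c) (b * d) := by
  obtain ⟨w, hw, h⟩ := h
  obtain ⟨w', hw', h'⟩ := h'
  exact ⟨w * c + b * w', (hw.mul hc).add (hb.mul hw'), by linear_combination c * h + b * h'⟩

theorem Cong.mul_left {n : ℕ} {a b c : ℂ} (h : Cong n a b) (hc : IsIntegral ℤ c) :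
    Cong n (c * a) (c * b) := by
  obtain ⟨w, hw, h⟩ := h
  exact ⟨c * w, hc.mul hw, by linear_combination c * h⟩

theorem Cong.isIntegral {n : ℕ} {a b : ℂ} (h : Cong n a b) (hb : IsIntegral ℤ b) :
    IsIntegral ℤ a := by
  obtain ⟨w, hw, h⟩ := h
  rw [show a = b + (n : ℂ) * w by linear_combination h]
  exact hb.add ((CT.isIntegral_natCast n).mul hw)


theorem Cong.of_dvd {n : ℕ} {a b : ℤ} (h : (n : ℤ) ∣ a - b) : Cong n (a : ℂ) (b : ℂ) := by
  obtain ⟨c, hc⟩ := h
  exact ⟨(c : ℂ), CT.isIntegral_intCast c, by exact_mod_cast congrArg (fun z : ℤ => (z : ℂ)) hc⟩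

/-- A rational algebraic integer is an integer. -/
theorem int_of_rat {x : ℂ} {a : ℤ} {c : ℕ} (hc : c ≠ 0) (hx : IsIntegral ℤ x)
    (h : (c : ℂ) * x = (a : ℂ)) : ∃ z : ℤ, x = (z : ℂ) := by
  have hc' : (c : ℂ) ≠ 0 := Nat.cast_ne_zero.mpr hc
  have h2 : algebraMap ℚ ℂ ((a : ℚ) / c) = x := by
    rw [map_div₀, map_intCast, map_natCast, ← h, mul_div_cancel_left₀ _ hc']
  rw [← h2] at hx
  obtain ⟨z, hz⟩ := IsIntegrallyClosed.isIntegral_iff.mp
    ((isIntegral_algebraMap_iff (A := ℚ) (B := ℂ) (algebraMap ℚ ℂ).injective).mp hx)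
  refine ⟨z, ?_⟩
  rw [← h2, ← hz]
  simp

theorem Cong.dvd {n : ℕ} {a b : ℤ} (hn : n ≠ 0) (h : Cong n (a : ℂ) (b : ℂ)) :
    (n : ℤ) ∣ a - b := by
  obtain ⟨w, hw, h⟩ := h
  obtain ⟨z, rfl⟩ := int_of_rat hn hw (a := a - b) (by rw [← h]; push_cast; ring)
  exact ⟨z, by exact_mod_cast h⟩

/-- An element which becomes integral after multiplication by coprime numbers is integral. -/
theorem isIntegral_of_coprime {a b : ℕ} (hab : a.Coprime b) {v : ℂ}
    (ha : IsIntegral ℤ ((a : ℂ) * v)) (hb : IsIntegral ℤ ((b : ℂ) * v)) : IsIntegral ℤ v := by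
  have h : ((a : ℤ) * a.gcdA b + (b : ℤ) * a.gcdB b : ℤ) = 1 := by
    rw [← Nat.gcd_eq_gcd_ab, hab.gcd_eq_one]; rfl
  have h' : (a : ℂ) * (a.gcdA b : ℂ) + (b : ℂ) * (a.gcdB b : ℂ) = 1 := by exact_mod_cast h
  rw [show v = (a.gcdA b : ℂ) * ((a : ℂ) * v) + (a.gcdB b : ℂ) * ((b : ℂ) * v) by
    linear_combination -(v * h')]
  exact ((CT.isIntegral_intCast _).mul ha).add ((CT.isIntegral_intCast _).mul hb)

theorem cong_sum_pow {p n : ℕ} (hp : p.Prime) {ι : Type*} (s : Finset ι) (a : ι → ℂ)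
    (ha : ∀ i ∈ s, IsIntegral ℤ (a i)) :
    Cong p ((∑ i ∈ s, a i) ^ p ^ n) (∑ i ∈ s, a i ^ p ^ n) := by
  classical
  induction s using Finset.induction with
  | empty => simp [zero_pow (pow_ne_zero n hp.ne_zero), Cong.refl]
  | insert i s hi ih =>
    rw [Finset.sum_insert hi, Finset.sum_insert hi]
    obtain ⟨r, hr⟩ := exists_add_pow_prime_pow_eq (R := AlgInt) hp
      (⟨a i, ha i (Finset.mem_insert_self i s)⟩ : AlgInt)
      (⟨∑ j ∈ s, a j, IsIntegral.sum _ fun j hj => ha j (Finset.mem_insert_of_mem hj)⟩ : AlgInt) n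
    have h1 : Cong p ((a i + ∑ j ∈ s, a j) ^ p ^ n) (a i ^ p ^ n + (∑ j ∈ s, a j) ^ p ^ n) := by
      refine ⟨a i * (∑ j ∈ s, a j) * (r : ℂ), ((ha i (Finset.mem_insert_self i s)).mul
        (IsIntegral.sum _ fun j hj => ha j (Finset.mem_insert_of_mem hj))).mul r.2, ?_⟩
      have h2 := congrArg (fun z : AlgInt => (z : ℂ)) hr
      simp at h2
      linear_combination h2
    exact h1.trans ((Cong.refl p _).add (ih fun j hj => ha j (Finset.mem_insert_of_mem hj)))

section Group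

variable {A : Type u} [CommGroup A] [Fintype A]

theorem isIntegral_gen {f : A → ℂ} (hf : IsGeneralizedCharacter A f) (x : A) :
    IsIntegral ℤ (f x) := by
  obtain ⟨χ, ψ, hχ, hψ, rfl⟩ := hf
  exact (CT.isIntegral_isCharacter hχ x).sub (CT.isIntegral_isCharacter hψ x)

/-- The expansion of a generalized character in the irreducible characters. -/
theorem exists_expansion {f : A → ℂ} (hf : IsGeneralizedCharacter A f) :
    ∃ m : IrrCharacter A → ℤ, ∀ x, f x = ∑ η : IrrCharacter A, (m η : ℂ) * (η : A → ℂ) x := by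
  choose m hm using (CT.isGen_iff.mp hf).2
  refine ⟨m, fun x => ?_⟩
  conv_lhs => rw [CT.classFunction_eq_sum (CT.isGen_iff.mp hf).1]
  rw [Finset.sum_apply]
  exact Finset.sum_congr rfl fun η _ => by rw [hm, Pi.smul_apply, smul_eq_mul]

theorem irr_value (η : IrrCharacter A) (x : A) :
    ∃ ω : ℂ, ω ^ Nat.card A = 1 ∧
      ∀ i : ℕ, (η : A → ℂ) (x ^ i) = ω ^ i * (η : A → ℂ) 1 := by
  obtain ⟨ω, hω⟩ := exists_scalar_central η (z := x)
    (Subgroup.mem_center_iff.mpr fun g => mul_comm g x)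
  have hi : ∀ i : ℕ, (η : A → ℂ) (x ^ i) = ω ^ i * (η : A → ℂ) 1 := by
    intro i
    induction i with
    | zero => simp
    | succ i ih => rw [pow_succ', hω, ih, pow_succ']; ring
  refine ⟨ω, ?_, hi⟩
  have h1 := hi (Nat.card A)
  rw [pow_card_eq_one'] at h1
  exact mul_right_cancel₀ (CT.irr_one_ne_zero η.2) (h1.symm.trans (one_mul _).symm)

/-- The power by the group order depends only on the value at the identity, modulo `p`. -/
theorem cong_pow_card {p n : ℕ} (hp : p.Prime) (hA : Nat.card A = p ^ n) {f : A → ℂ}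
    (hf : IsGeneralizedCharacter A f) (x : A) : Cong p (f x ^ p ^ n) (f 1 ^ p ^ n) := by
  obtain ⟨m, hm⟩ := exists_expansion hf
  have key : ∀ y, Cong p (f y ^ p ^ n) (∑ η, ((m η : ℂ) * (η : A → ℂ) y) ^ p ^ n) := fun y => by
    rw [hm y]
    exact cong_sum_pow hp _ _ fun η _ =>
      (CT.isIntegral_intCast _).mul (CT.isIntegral_isCharacter (CT.isCharacter_of_isIrr η.2) y)
  refine (key x).trans (Cong.symm ?_)
  convert key 1 using 1
  refine Finset.sum_congr rfl fun η _ => ?_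
  obtain ⟨ω, hω, hi⟩ := irr_value η x
  have h1 := hi 1
  rw [pow_one, pow_one] at h1
  rw [h1, mul_pow, mul_pow (ω), ← hA, hω, one_mul, ← mul_pow]

/-- Integer values of a generalized character are congruent modulo `p`. -/
theorem dvd_sub_of_int {p n : ℕ} (hp : p.Prime) (hA : Nat.card A = p ^ n) {f : A → ℂ}
    (hf : IsGeneralizedCharacter A f) {x : A} {a b : ℤ} (ha : f x = (a : ℂ)) (hb : f 1 = (b : ℂ)) :
    (p : ℤ) ∣ a - b := by
  have h := cong_pow_card hp hA hf x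
  rw [ha, hb, ← Int.cast_pow, ← Int.cast_pow] at h
  have h' := h.dvd hp.ne_zero
  haveI := Fact.mk hp
  rw [← ZMod.intCast_zmod_eq_zero_iff_dvd] at h' ⊢
  push_cast at h' ⊢
  rwa [ZMod.pow_card_pow, ZMod.pow_card_pow] at h'

/-- Some power of a generalized character with a unit at the identity is one modulo the order. -/
theorem exists_pow_cong_one {p n : ℕ} (hp : p.Prime) (hA : Nat.card A = p ^ n) :
    ∃ N : ℕ, 0 < N ∧ ∀ f : A → ℂ, IsGeneralizedCharacter A f → ∀ c : ℤ, f 1 = (c : ℂ) →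
      ¬ (p : ℤ) ∣ c → ∀ x, Cong (p ^ n) (f x ^ N) 1 := by
  refine ⟨p ^ n * (p - 1) * p ^ n,
    Nat.mul_pos (Nat.mul_pos (pow_pos hp.pos _) (Nat.sub_pos_of_lt hp.one_lt)) (pow_pos hp.pos _),
    fun f hf c hc hpc x => ?_⟩
  haveI := Fact.mk hp
  obtain ⟨w, hw, hw'⟩ := cong_pow_card hp hA hf x
  rw [hc] at hw'
  have hd : (p : ℤ) ∣ c ^ (p ^ n * (p - 1)) - 1 := by
    rw [← ZMod.intCast_zmod_eq_zero_iff_dvd]
    push_cast
    rw [mul_comm, pow_mul, ZMod.pow_card_sub_one_eq_one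
      (fun h => hpc ((ZMod.intCast_zmod_eq_zero_iff_dvd c p).mp h)), one_pow, sub_self]
  obtain ⟨k, hk⟩ := hd
  obtain ⟨A0, hA0⟩ : ∃ A0 : AlgInt, (A0 : ℂ) = f x := ⟨⟨f x, isIntegral_gen hf x⟩, rfl⟩
  have h1 : (p : AlgInt) ∣ A0 ^ (p ^ n * (p - 1)) - 1 := by
    have h2 : (p : AlgInt) ∣ A0 ^ p ^ n - (c : AlgInt) ^ p ^ n := by
      refine ⟨⟨w, hw⟩, Subtype.ext ?_⟩
      push_cast
      rw [hA0]
      exact_mod_cast hw'
    have h3 := h2.trans (sub_dvd_pow_sub_pow _ _ (p - 1))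
    rw [← pow_mul, ← pow_mul] at h3
    have h4 : (p : AlgInt) ∣ (c : AlgInt) ^ (p ^ n * (p - 1)) - 1 :=
      ⟨(k : AlgInt), by exact_mod_cast congrArg (fun z : ℤ => (z : AlgInt)) hk⟩
    have h5 := dvd_add h3 h4
    rwa [sub_add_sub_cancel] at h5
  obtain ⟨r, hr⟩ := (pow_dvd_pow (p : AlgInt) (Nat.le_succ n)).trans (dvd_sub_pow_of_dvd_sub h1 n)
  rw [← pow_mul, one_pow] at hr
  refine ⟨(r : ℂ), r.2, ?_⟩
  have h := congrArg (fun z : AlgInt => (z : ℂ)) hr
  push_cast at h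
  rw [hA0] at h
  push_cast
  exact h

/-- The sum of a generalized character is the order times an integer. -/
theorem exists_int_sum {f : A → ℂ} (hf : IsGeneralizedCharacter A f) :
    ∃ z : ℤ, ∑ x, f x = (Nat.card A : ℂ) * (z : ℂ) := by
  obtain ⟨z, hz⟩ := CT.isGen_inner_int hf (CT.isGen_of_isIrr (CT.trivIrr A).2)
  refine ⟨z, ?_⟩
  rw [← hz, classInner, ← mul_assoc, mul_inv_cancel₀ CT.card_ne_zero, one_mul]
  exact Finset.sum_congr rfl fun x _ => by simp

/-- The mean of a function congruent to a generalized character is integral. -/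
theorem isIntegral_mean {n : ℕ} (hA : Nat.card A = n) {X f : A → ℂ}
    (hf : IsGeneralizedCharacter A f) (h : ∀ x, Cong n (X x) (f x)) :
    IsIntegral ℤ ((n : ℂ)⁻¹ * ∑ x, X x) := by
  choose w hw hX using h
  obtain ⟨z, hz⟩ := exists_int_sum hf
  have hn : (n : ℂ) ≠ 0 := hA ▸ CT.card_ne_zero
  rw [Finset.sum_congr rfl fun x _ => show X x = f x + (n : ℂ) * w x by linear_combination hX x,
    Finset.sum_add_distrib, hz, hA, ← Finset.mul_sum, ← mul_add, ← mul_assoc,
    inv_mul_cancel₀ hn, one_mul]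
  exact (CT.isIntegral_intCast z).add (IsIntegral.sum _ fun x _ => hw x)

theorem sum_pow_range {ω : ℂ} {m : ℕ} (hω : ω ^ m = 1) :
    ∃ z : ℤ, ∑ a ∈ Finset.range m, ω ^ a = (z : ℂ) := by
  by_cases h : ω = 1
  · exact ⟨m, by simp [h]⟩
  · exact ⟨0, by rw [geom_sum_eq h, hω, sub_self, zero_div, Int.cast_zero]⟩

/-- The products of a generalized character with a rational function have rational sum. -/
theorem exists_rat_sum {p n : ℕ} (hp : p.Prime) (hn : n ≠ 0) (hA : Nat.card A = p ^ n) :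
    ∃ d : ℕ, d ≠ 0 ∧ ∀ h : A → ℤ, (∀ (x : A) (a : ℕ), ¬ p ∣ a → h (x ^ a) = h x) →
      ∀ f : A → ℂ, IsGeneralizedCharacter A f →
        ∃ z : ℤ, (d : ℂ) * ∑ x, (h x : ℂ) * f x = (z : ℂ) := by
  classical
  obtain ⟨S, hS⟩ : ∃ S : Finset ℕ, S = (Finset.range (p ^ n)).filter fun a => ¬ p ∣ a := ⟨_, rfl⟩
  refine ⟨S.card, Finset.card_ne_zero.mpr ⟨1, by
    rw [hS, Finset.mem_filter, Finset.mem_range]
    exact ⟨Nat.one_lt_pow hn hp.one_lt, hp.not_dvd_one⟩⟩, fun h hh f hf => ?_⟩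
  obtain ⟨m, hm⟩ := exists_expansion hf
  have hbij : ∀ a ∈ S, Function.Bijective fun x : A => x ^ a := fun a ha => by
    rw [hS, Finset.mem_filter] at ha
    exact (powCoprime (G := A) (n := a)
      (by rw [hA]; exact ((Nat.Prime.coprime_iff_not_dvd hp).mpr ha.2).pow_left n)).bijective
  have key : ∀ η : IrrCharacter A, ∃ z : ℤ,
      (S.card : ℂ) * ∑ x, (h x : ℂ) * (η : A → ℂ) x = (z : ℂ) := by
    intro η
    have h1 : ∀ a ∈ S, ∑ x, (h x : ℂ) * (η : A → ℂ) x =
        ∑ x, (h x : ℂ) * (η : A → ℂ) (x ^ a) := fun a ha => by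
      refine Eq.symm (Fintype.sum_bijective _ (hbij a ha) _ _ fun x => ?_)
      rw [hS, Finset.mem_filter] at ha
      rw [hh x a ha.2]
    have h2 : ∀ x : A, ∃ z : ℤ, ∑ a ∈ S, (η : A → ℂ) (x ^ a) = (z : ℂ) := by
      intro x
      obtain ⟨ω, hω, hi⟩ := irr_value η x
      rw [hA] at hω
      obtain ⟨k, rfl⟩ := Nat.exists_eq_succ_of_ne_zero hn
      rw [Finset.sum_congr rfl fun a _ => hi a, ← Finset.sum_mul, charDegree_cast, hS,
        eq_sub_of_add_eq' (Finset.sum_filter_add_sum_filter_not (Finset.range (p ^ (k + 1)))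
          (fun a => p ∣ a) (fun a => ω ^ a))]
      obtain ⟨z1, hz1⟩ := sum_pow_range hω
      obtain ⟨z2, hz2⟩ := sum_pow_range (ω := ω ^ p) (m := p ^ k) (by
        rw [← pow_mul, ← pow_succ']; exact hω)
      have h3 : (Finset.range (p ^ (k + 1))).filter (fun a => p ∣ a) =
          (Finset.range (p ^ k)).image (p * ·) := by
        ext a
        simp only [Finset.mem_filter, Finset.mem_range, Finset.mem_image]
        constructor
        · rintro ⟨ha, b, rfl⟩
          refine ⟨b, ?_, rfl⟩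
          rw [pow_succ'] at ha
          exact Nat.lt_of_mul_lt_mul_left ha
        · rintro ⟨b, hb, rfl⟩
          refine ⟨?_, dvd_mul_right p b⟩
          rw [pow_succ']
          exact Nat.mul_lt_mul_of_pos_left hb hp.pos
      rw [hz1, h3, Finset.sum_image fun b _ b' _ e => Nat.eq_of_mul_eq_mul_left hp.pos e,
        Finset.sum_congr rfl fun b _ => pow_mul ω p b, hz2]
      exact ⟨(z1 - z2) * (charDegree (η : A → ℂ) : ℤ), by push_cast; ring⟩
    choose z hz using h2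
    refine ⟨∑ x, h x * z x, ?_⟩
    rw [← nsmul_eq_mul, ← Finset.sum_const, Finset.sum_congr rfl h1, Finset.sum_comm]
    push_cast
    refine Finset.sum_congr rfl fun x _ => ?_
    rw [← Finset.mul_sum, hz]
  choose z hz using key
  refine ⟨∑ η, m η * z η, ?_⟩
  simp only [hm, Finset.mul_sum]
  rw [Finset.sum_comm]
  push_cast
  refine Finset.sum_congr rfl fun η _ => ?_
  rw [← hz η, Finset.mul_sum, Finset.mul_sum]
  exact Finset.sum_congr rfl fun x _ => by ring


end Group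

end Cfsg.Agent.FreeStar
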