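import Cfsg.Agent.Lib.FreeStar.Coherence
import Cfsg.Agent.Lib.Blocks.NilMain
import Cfsg.Agent.Lib.Blocks.Homocyclic

/-!
# Blocks with defect group a product of two cyclic groups of the same order `2 ^ m`
-/

namespace Cfsg.Agent.FreeStar

open Blocks BPairs

universe u

set_option linter.unusedSectionVars false

section Auto

variable {A : Type u} [Group A] [Finite A]

theorem auto_pow_succ (σ : MulAut A) {x w : A} (h : σ x = x * w) (hw : σ w = w) :
    ∀ i : ℕ, (σ ^ i) x = x * w ^ i
  | 0 => by simp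
  | i + 1 => by
    rw [pow_succ', MulAut.mul_apply, auto_pow_succ σ h hw i, map_mul, map_pow, h, hw, pow_succ',
      mul_assoc]

/-- An automorphism of odd order of an abelian 2-group fixing the involutions is trivial. -/
theorem auto_eq_one (hcomm : ∀ a b : A, a * b = b * a) {σ : MulAut A} {k : ℕ} (hk : Odd k)
    (hσ : σ ^ k = 1) (h2 : ∀ x : A, ∃ j : ℕ, x ^ 2 ^ j = 1)
    (hfix : ∀ x : A, x ^ 2 = 1 → σ x = x) : σ = 1 := by
  have key : ∀ j : ℕ, ∀ x : A, x ^ 2 ^ j = 1 → σ x = x := by
    intro j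
    induction j with
    | zero =>
      intro x hx
      rw [pow_zero, pow_one] at hx
      rw [hx, map_one]
    | succ j ih =>
      intro x hx
      have hsq : σ (x ^ 2) = x ^ 2 := ih _ (by rw [← pow_mul, ← pow_succ']; exact hx)
      obtain ⟨w, hw⟩ : ∃ w, w = x⁻¹ * σ x := ⟨_, rfl⟩
      have hw2 : w ^ 2 = 1 := by
        rw [hw, Commute.mul_pow (hcomm _ _), inv_pow, ← map_pow, hsq, inv_mul_cancel]
      have hit := auto_pow_succ σ (x := x) (w := w) (by rw [hw, mul_inv_cancel_left]) (hfix w hw2) k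
      obtain ⟨i, hi⟩ := hk
      rw [hσ, MulAut.one_apply, hi, pow_succ w, pow_mul, hw2, one_pow, one_mul, hw,
        mul_inv_cancel_left] at hit
      exact hit.symm
  refine MulEquiv.ext fun x => ?_
  obtain ⟨j, hj⟩ := h2 x
  rw [MulAut.one_apply, key j x hj]

/-- Odd-order automorphisms of `Z/2^m × Z/2^m` act freely, and there are at most three of them
in a subgroup of odd order. -/
theorem auto_free_three {m : ℕ} (hm : 1 ≤ m)
    (iso : A ≃* Multiplicative (ZMod (2 ^ m) × ZMod (2 ^ m))) (E : Subgroup (MulAut A))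
    (hE : Odd (Nat.card E)) :
    (∀ σ ∈ E, ∀ x : A, x ≠ 1 → σ x = x → σ = 1) ∧ (Nat.card E = 1 ∨ Nat.card E = 3) := by
  classical
  obtain ⟨k, rfl⟩ := Nat.exists_eq_add_of_le' hm
  have hcomm : ∀ a b : A, a * b = b * a := fun a b =>
    iso.injective (by rw [map_mul, map_mul, mul_comm])
  have h2 : ∀ x : A, ∃ j : ℕ, x ^ 2 ^ j = 1 := fun x => by
    refine ⟨k + 1, iso.injective ?_⟩
    rw [map_pow, map_one]
    apply Multiplicative.toAdd.injective
    rw [toAdd_pow, toAdd_one]
    haveI : NeZero (2 ^ (k + 1)) := ⟨pow_ne_zero _ two_ne_zero⟩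
    have h0 : (2 : ZMod (2 ^ (k + 1))) ^ (k + 1) = 0 := by
      have := ZMod.natCast_self (2 ^ (k + 1))
      rwa [Nat.cast_pow, Nat.cast_ofNat] at this
    ext <;> simp [nsmul_eq_mul, h0]
  obtain ⟨h, hh⟩ : ∃ h, h = ((2 ^ k : ℕ) : ZMod (2 ^ (k + 1))) := ⟨_, rfl⟩
  have hinv : ∀ x : A, x ^ 2 = 1 → x ≠ 1 → Multiplicative.toAdd (iso x) ∈
      ({(h, 0), (0, h), (h, h)} : Finset (ZMod (2 ^ (k + 1)) × ZMod (2 ^ (k + 1)))) := by
    intro x hx hx1
    have hv : Multiplicative.toAdd (iso x) + Multiplicative.toAdd (iso x) = 0 := by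
      rw [← two_nsmul, ← toAdd_pow, ← map_pow, hx, map_one, toAdd_one]
    have hne : Multiplicative.toAdd (iso x) ≠ 0 := fun h0 => hx1 (iso.injective (by
      rw [map_one]; exact Multiplicative.toAdd.injective (by rw [h0, toAdd_one])))
    generalize Multiplicative.toAdd (iso x) = v at hv hne ⊢
    obtain ⟨v1, v2⟩ := v
    rcases zmod_two_torsion (congrArg Prod.fst hv) with h1 | h1 <;>
      rcases zmod_two_torsion (congrArg Prod.snd hv) with h3 | h3 <;>
      simp only at h1 h3 <;> subst h1 h3 <;> simp_all [Prod.ext_iff]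
  -- an involution
  obtain ⟨s₀, hs₀, hs₀1⟩ : ∃ s : A, s ^ 2 = 1 ∧ s ≠ 1 := by
    haveI : Fact (Nat.Prime 2) := ⟨Nat.prime_two⟩
    have hcard : 2 ∣ Nat.card A := by
      rw [Nat.card_congr iso.toEquiv, Nat.card_congr Multiplicative.toAdd, Nat.card_prod,
        Nat.card_zmod]
      exact Dvd.dvd.mul_right (dvd_pow_self 2 (Nat.succ_ne_zero k)) _
    obtain ⟨s, hs⟩ := exists_prime_orderOf_dvd_card' 2 hcard
    exact ⟨s, by rw [← hs, pow_orderOf_eq_one], fun h' => by rw [h', orderOf_one] at hs; norm_num at hs⟩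
  have hfree : ∀ σ ∈ E, ∀ x : A, x ≠ 1 → σ x = x → σ = 1 := by
    intro σ hσ x hx hσx
    obtain ⟨s, hs2, hs1, hσs⟩ : ∃ s : A, s ^ 2 = 1 ∧ s ≠ 1 ∧ σ s = s := by
      obtain ⟨j, hj⟩ := h2 x
      induction j generalizing x with
      | zero => rw [pow_zero, pow_one] at hj; exact absurd hj hx
      | succ j ih =>
        rcases eq_or_ne (x ^ 2) 1 with h0 | h0
        · exact ⟨x, h0, hx, hσx⟩
        · exact ih (x ^ 2) h0 (by rw [map_pow, hσx]) (by rw [← pow_mul, ← pow_succ']; exact hj)
    -- the square fixes all involutions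
    have hsq : ∀ y : A, y ^ 2 = 1 → σ (σ y) = y := by
      intro y hy
      rcases eq_or_ne y 1 with rfl | hy1
      · rw [map_one, map_one]
      rcases eq_or_ne y s with rfl | hys
      · rw [hσs, hσs]
      have inv2 : ∀ z : A, z ^ 2 = 1 → σ z ^ 2 = 1 := fun z hz => by rw [← map_pow, hz, map_one]
      have a1 := hinv s hs2 hs1
      have a2 := hinv y hy hy1
      have a3 := hinv (σ y) (inv2 y hy) fun h' => hy1 (EmbeddingLike.map_eq_one_iff.mp h')
      have a4 := hinv (σ (σ y)) (inv2 _ (inv2 y hy)) fun h' =>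
        hy1 (EmbeddingLike.map_eq_one_iff.mp (EmbeddingLike.map_eq_one_iff.mp h'))
      have d1 : Multiplicative.toAdd (iso y) ≠ Multiplicative.toAdd (iso s) := fun h' =>
        hys (iso.injective (Multiplicative.toAdd.injective h'))
      have d2 : Multiplicative.toAdd (iso (σ y)) ≠ Multiplicative.toAdd (iso s) := fun h' =>
        hys (σ.injective ((iso.injective (Multiplicative.toAdd.injective h')).trans hσs.symm))
      have d3 : Multiplicative.toAdd (iso (σ (σ y))) ≠ Multiplicative.toAdd (iso s) := fun h' =>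
        hys (σ.injective (σ.injective
          ((iso.injective (Multiplicative.toAdd.injective h')).trans
            (by rw [hσs, hσs]))))
      by_contra hne
      have d4 : Multiplicative.toAdd (iso (σ (σ y))) ≠ Multiplicative.toAdd (iso y) := fun h' =>
        hne (iso.injective (Multiplicative.toAdd.injective h'))
      have d5 : Multiplicative.toAdd (iso (σ y)) ≠ Multiplicative.toAdd (iso y) := fun h' => by
        have h'' := iso.injective (Multiplicative.toAdd.injective h')
        exact hne (by rw [h'', h''])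
      have d6 : Multiplicative.toAdd (iso (σ (σ y))) ≠ Multiplicative.toAdd (iso (σ y)) := fun h' =>
        d5 (by rw [σ.injective (iso.injective (Multiplicative.toAdd.injective h'))])
      have hsub : ({Multiplicative.toAdd (iso s), Multiplicative.toAdd (iso y),
          Multiplicative.toAdd (iso (σ y)), Multiplicative.toAdd (iso (σ (σ y)))} :
            Finset (ZMod (2 ^ (k + 1)) × ZMod (2 ^ (k + 1)))) ⊆ {(h, 0), (0, h), (h, h)} := by
        simp only [Finset.insert_subset_iff, Finset.singleton_subset_iff]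
        exact ⟨a1, a2, a3, a4⟩
      have hfour := (Finset.card_le_card hsub).trans Finset.card_le_three
      rw [Finset.card_eq_four.mpr ⟨_, _, _, _, d1.symm, d2.symm, d3.symm, d5.symm, d4.symm, d6.symm,
        rfl⟩] at hfour
      omega
    have hσk : σ ^ Nat.card E = 1 := by
      exact congrArg Subtype.val (pow_card_eq_one' (x := (⟨σ, hσ⟩ : E)))
    refine auto_eq_one hcomm hE hσk h2 fun y hy => ?_
    have hit : ∀ i : ℕ, (σ ^ (2 * i)) y = y := by
      intro i
      induction i with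
      | zero => simp
      | succ i ih => rw [Nat.mul_succ, add_comm, pow_add, MulAut.mul_apply, ih, sq, MulAut.mul_apply,
          hsq y hy]
    obtain ⟨i, hi⟩ := hE
    have h' := congrArg (fun τ : MulAut A => τ y) hσk
    simp only [hi, pow_succ', MulAut.mul_apply, hit i, MulAut.one_apply] at h'
    exact h'
  refine ⟨hfree, ?_⟩
  have hinj : Nat.card E ≤
      ({(h, 0), (0, h), (h, h)} : Finset (ZMod (2 ^ (k + 1)) × ZMod (2 ^ (k + 1)))).card := by
    rw [← Fintype.card_coe, ← Nat.card_eq_fintype_card]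
    refine Nat.card_le_card_of_injective (fun σ : E => ⟨_, hinv ((σ : MulAut A) s₀)
      (by rw [← map_pow, hs₀, map_one])
      fun h' => hs₀1 (EmbeddingLike.map_eq_one_iff.mp h')⟩) fun σ τ hστ => ?_
    have h1 : (σ : MulAut A) s₀ = (τ : MulAut A) s₀ :=
      iso.injective (Multiplicative.toAdd.injective (congrArg Subtype.val hστ))
    have h2' : ((τ⁻¹ * σ : E) : MulAut A) s₀ = s₀ := by
      rw [Subgroup.coe_mul, MulAut.mul_apply, h1, Subgroup.coe_inv, MulAut.inv_apply_self]
    exact (inv_mul_eq_one.mp (Subtype.ext (hfree _ (τ⁻¹ * σ).2 s₀ hs₀1 h2') : τ⁻¹ * σ = 1)).symm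
  have h3 : Nat.card E ≤ 3 := hinj.trans Finset.card_le_three
  obtain ⟨i, hi⟩ := hE
  omega

end Auto

/-- The inertial quotient of a maximal pair with homocyclic group of rank two acts freely and has
order one or three. -/
theorem homocyclic_free {G : Type u} [Group G] [Finite G] {M : Ideal AlgInt} [M.IsPrime]
    (hM : IsPModular 2 M) {B : Set (IrrCharacter G)} (hB : IsPBlock M B) {P : Subgroup G}
    {c : Set (IrrCharacter (Subgroup.centralizer (P : Set G)))}
    (hmax : IsMaximalBrauerPair 2 M B P c) {m : ℕ} (hm : 1 ≤ m)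
    (iso : P ≃* Multiplicative (ZMod (2 ^ m) × ZMod (2 ^ m))) :
    P ≤ Subgroup.centralizer (P : Set G) ∧ P ≠ ⊥ ∧
      (∀ g ∈ stabSub M P c, ∀ x ∈ P, x ≠ 1 → g * x * g⁻¹ = x →
        g ∈ Subgroup.centralizer (P : Set G)) ∧
      ((Subgroup.centralizer (P : Set G)).relIndex (stabSub M P c) = 1 ∨
        (Subgroup.centralizer (P : Set G)).relIndex (stabSub M P c) = 3) := by
  classical
  haveI : Fact (Nat.Prime 2) := ⟨Nat.prime_two⟩
  haveI := Fintype.ofFinite G
  have hPD := BPairs.isDefectGroup_of_maximal hM hmax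
  have hc := isInducedBlock_of_brauerPair hM hmax.1
  have hab : ∀ a b : P, a * b = b * a := fun a b =>
    iso.injective (by rw [map_mul, map_mul, mul_comm])
  have hP : P ≤ Subgroup.centralizer (P : Set G) := fun a ha =>
    Subgroup.mem_centralizer_iff.mpr fun b hb => congrArg Subtype.val (hab ⟨b, hb⟩ ⟨a, ha⟩)
  have hodd := not_dvd_relIndex hM hB hPD hP hc
  obtain ⟨ψ, hψ⟩ : ∃ ψ : stabSub M P c →* MulAut P,
      ψ = P.normalizerMonoidHom.comp (Subgroup.inclusion
        (show stabSub M P c ≤ Subgroup.normalizer (P : Set G) from fun _ h => h.1)) := ⟨_, rfl⟩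
  have hval : ∀ (t : stabSub M P c) (v : P), ((ψ t v : P) : G) = (t : G) * v * (t : G)⁻¹ :=
    fun t v => by rw [hψ]; rfl
  have hker : ψ.ker = (Subgroup.centralizer (P : Set G)).subgroupOf (stabSub M P c) := by
    rw [hψ, ← MonoidHom.comap_ker, Subgroup.normalizerMonoidHom_ker]
    rfl
  have hcard : Nat.card ψ.range = (Subgroup.centralizer (P : Set G)).relIndex (stabSub M P c) := by
    rw [← Subgroup.index_ker, hker, Subgroup.relIndex]
  obtain ⟨hfree, he13⟩ := auto_free_three hm iso ψ.range (by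
    rw [hcard]; exact Nat.not_even_iff_odd.mp fun h => hodd (even_iff_two_dvd.mp h))
  refine ⟨hP, fun h => ?_, fun g hg v hv hv1 hgv => ?_, hcard ▸ he13⟩
  · have h1 := (Nat.card_congr iso.toEquiv).symm
    rw [Nat.card_congr Multiplicative.toAdd, Nat.card_prod, Nat.card_zmod, h, Subgroup.card_bot] at h1
    exact (Nat.one_lt_two_pow (n := m) (by omega)).ne' (mul_eq_one.mp h1).1
  · have h1 := hfree (ψ ⟨g, hg⟩) ⟨_, rfl⟩ ⟨v, hv⟩ (fun h => hv1 (congrArg Subtype.val h))
      (Subtype.ext ((hval ⟨g, hg⟩ ⟨v, hv⟩).trans hgv))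
    rw [← MonoidHom.mem_ker, hker, Subgroup.mem_subgroupOf] at h1
    exact h1

/-- The counts of a 2-block with homocyclic defect group of rank two. -/
theorem homocyclic_counts {G : Type u} [Group G] [Finite G] {M : Ideal AlgInt} [M.IsPrime]
    (hM : IsPModular 2 M) {B : Set (IrrCharacter G)} (hB : IsPBlock M B) {D : Subgroup G}
    (hD : IsDefectGroup 2 M B D) {m : ℕ} (hm : 1 ≤ m)
    (hiso : Nonempty (D ≃* Multiplicative (ZMod (2 ^ m) × ZMod (2 ^ m)))) :
    (blockRank 2 B = 1 ∧ Nat.card B = 4 ^ m) ∨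
      (blockRank 2 B = 3 ∧ 3 * Nat.card B = 4 ^ m + 8) := by
  classical
  haveI : Fact (Nat.Prime 2) := ⟨Nat.prime_two⟩
  haveI := Fintype.ofFinite G
  obtain ⟨iso0⟩ := hiso
  obtain ⟨P, c, hmax⟩ := exists_maximal_of_block hM hB
  have hPD := BPairs.isDefectGroup_of_maximal hM hmax
  have hc := isInducedBlock_of_brauerPair hM hmax.1
  obtain ⟨x, hx⟩ := defect_le_of_defect hM hB hPD hD
  have heq : P.map (MulAut.conj x).toMonoidHom = D := Subgroup.eq_of_le_of_card_ge hx (by
    rw [Subgroup.card_map_of_injective (MulAut.conj x).injective, card_defect_eq hM hB hPD hD])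
  have iso : P ≃* Multiplicative (ZMod (2 ^ m) × ZMod (2 ^ m)) :=
    (P.equivMapOfInjective (MulAut.conj x).toMonoidHom (MulAut.conj x).injective).trans
      ((MulEquiv.subgroupCongr heq).trans iso0)
  obtain ⟨hP, hP1, hfree, he13⟩ := homocyclic_free hM hB hmax hm iso
  have hq : Nat.card P = 4 ^ m := by
    rw [Nat.card_congr iso.toEquiv, Nat.card_congr Multiplicative.toAdd, Nat.card_prod,
      Nat.card_zmod, ← mul_pow]; norm_num
  let S : Free 2 M G := ⟨hM, B, P, c, hmax, hP, hP1, hfree⟩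
  obtain ⟨-, -, -, h3⟩ := S.counts
  have hSq : S.q = 4 ^ m := hq
  have hdvd := S.e_dvd
  rw [hSq] at h3 hdvd
  have h4 : 1 ≤ 4 ^ m := Nat.one_le_pow _ _ (by norm_num)
  rcases (show S.e = 1 ∨ S.e = 3 from he13) with h | h <;> obtain ⟨hk, hl⟩ := h3 (by omega) <;>
    rw [h] at hk hl hdvd
  · left
    refine ⟨hl, hk.trans ?_⟩
    rw [Nat.div_one]; omega
  · right
    refine ⟨hl, ?_⟩
    rw [show Nat.card B = Nat.card S.B from rfl, hk]
    omega

end Cfsg.Agent.FreeStar
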