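import Cfsg.Agent.Lib.FreeStar.Gen

/-!
# Marks of a virtual permutation set of an abelian group

A function on the nontrivial subgroups satisfying the orbit counting congruences comes from a
virtual permutation set, whose character is a generalized character with these values.
-/

namespace Cfsg.Agent.FreeStar

open Blocks

universe u

set_option linter.unusedSectionVars false

variable {A : Type u} [CommGroup A] [Fintype A]

theorem isGen_indicator (S : Subgroup A) [DecidablePred (· ∈ S)] :
    IsGeneralizedCharacter A fun x => if x ∈ S then (S.index : ℂ) else 0 := by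
  haveI := Fintype.ofFinite S
  have h : indFun S (fun _ : S => (1 : ℂ)) = fun x => if x ∈ S then (S.index : ℂ) else 0 := by
    funext x
    split_ifs with hx
    · rw [show x = ((⟨x, hx⟩ : S) : A) from rfl, CT.indFun_apply_normal,
        show ∑ g : A, CT.conjFun S g (fun _ : S => (1 : ℂ)) ⟨x, hx⟩ = ∑ _g : A, (1 : ℂ) from
          Finset.sum_congr rfl fun g _ => rfl, Finset.sum_const,
        Finset.card_univ, nsmul_one, ← Nat.card_eq_fintype_card, ← S.index_mul_card,
        Nat.cast_mul]
      field_simp
    · rw [CT.indFun_eq_zero_of_not_mem S _ hx]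
  rw [← h]
  exact CT.isGen_indFun S (CT.isGen_of_isIrr (CT.trivIrr S).2)

/-- Marks satisfying the congruences are realised by a generalized character. -/
theorem exists_marks (μ : Subgroup A → ℤ)
    (hμ : ∀ R : Subgroup A, R ≠ ⊥ →
      (Nat.card A : ℤ) ∣ ∑ x : A, μ (R ⊔ Subgroup.zpowers x)) :
    ∃ F : A → ℂ, IsGeneralizedCharacter A F ∧
      ∀ x : A, x ≠ 1 → F x = (μ (Subgroup.zpowers x) : ℂ) := by
  classical
  haveI := Fintype.ofFinite (Subgroup A)
  have key : ∀ k : ℕ, ∃ a : Subgroup A → ℤ, ∀ R : Subgroup A, R ≠ ⊥ →
      Nat.card A < Nat.card R + k →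
      μ R = ∑ S : Subgroup A, if R ≤ S then a S * (S.index : ℤ) else 0 := by
    intro k
    induction k with
    | zero =>
      exact ⟨0, fun R _ h => absurd h (not_lt.mpr (by simpa using R.card_le_card_group))⟩
    | succ k ih =>
      obtain ⟨a, ha⟩ := ih
      obtain ⟨r, hr⟩ : ∃ r : Subgroup A → ℤ, r = fun R =>
          μ R - ∑ S : Subgroup A, if R < S then a S * (S.index : ℤ) else 0 := ⟨_, rfl⟩
      refine ⟨fun R => if R ≠ ⊥ ∧ Nat.card R + k = Nat.card A then r R / (R.index : ℤ) else a R,
        fun R hR1 hR => ?_⟩
      have hsplit : ∀ (b : Subgroup A → ℤ),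
          (∑ S : Subgroup A, if R ≤ S then b S * (S.index : ℤ) else 0) =
          b R * (R.index : ℤ) +
            ∑ S : Subgroup A, if R < S then b S * (S.index : ℤ) else 0 := fun b => by
        have e : ∀ S : Subgroup A, (if R ≤ S then b S * (S.index : ℤ) else 0) =
            (if S = R then b S * (S.index : ℤ) else 0) +
              (if R < S then b S * (S.index : ℤ) else 0) := fun S => by
          by_cases h : S = R
          · subst h; simp
          · by_cases h2 : R ≤ S
            · rw [if_pos h2, if_neg h, if_pos (lt_of_le_of_ne h2 (Ne.symm h)), zero_add]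
            · rw [if_neg h2, if_neg h, if_neg (fun h3 => h2 h3.le), zero_add]
        rw [Finset.sum_congr rfl fun S _ => e S, Finset.sum_add_distrib, Finset.sum_ite_eq',
          if_pos (Finset.mem_univ _)]
      have hcard : ∀ S : Subgroup A, R < S → Nat.card R < Nat.card S := fun S h =>
        Set.Finite.card_lt_card (Set.toFinite _) h
      rw [hsplit]
      have hup : (∑ S : Subgroup A, if R < S then
          (if S ≠ ⊥ ∧ Nat.card S + k = Nat.card A then r S / (S.index : ℤ) else a S) *
            (S.index : ℤ) else 0) =
          ∑ S : Subgroup A, if R < S then a S * (S.index : ℤ) else 0 := by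
        refine Finset.sum_congr rfl fun S _ => ?_
        split_ifs with h1 h2
        · exfalso
          have := hcard S h1
          omega
        · rfl
        · rfl
      rw [hup]
      rcases Nat.lt_or_ge (Nat.card A) (Nat.card R + k) with hlt | hge
      · rw [if_neg (fun h => by omega), ← hsplit]
        exact ha R hR1 hlt
      · rw [if_pos ⟨hR1, by omega⟩, Int.ediv_mul_cancel, hr]
        · ring
        -- the congruence
        have hz : ∀ x : A, μ (R ⊔ Subgroup.zpowers x) -
            (∑ S : Subgroup A, if R < S ∧ x ∈ S then a S * (S.index : ℤ) else 0) =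
            if x ∈ R then r R else 0 := by
          intro x
          by_cases hx : x ∈ R
          · rw [if_pos hx, sup_eq_left.mpr (Subgroup.zpowers_le.mpr hx), hr]
            congr 1
            exact Finset.sum_congr rfl fun S _ => by
              by_cases h : R < S
              · rw [if_pos ⟨h, h.le hx⟩, if_pos h]
              · rw [if_neg (fun h' => h h'.1), if_neg h]
          · rw [if_neg hx, sub_eq_zero]
            have hlt : R < R ⊔ Subgroup.zpowers x := lt_of_le_of_ne le_sup_left fun h =>
              hx (h ▸ Subgroup.mem_sup_right (Subgroup.mem_zpowers x))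
            rw [ha _ (fun h => hR1 (eq_bot_iff.mpr (h ▸ le_sup_left)))
              (by have := hcard _ hlt; omega)]
            refine Finset.sum_congr rfl fun S _ => ?_
            have hiff : (R ⊔ Subgroup.zpowers x ≤ S) ↔ (R < S ∧ x ∈ S) := by
              rw [sup_le_iff, Subgroup.zpowers_le]
              exact ⟨fun h => ⟨lt_of_le_of_ne h.1 fun e => hx (e ▸ h.2), h.2⟩,
                fun h => ⟨h.1.le, h.2⟩⟩
            simp only [hiff]
        have hsum := Finset.sum_congr rfl fun x (_ : x ∈ (Finset.univ : Finset A)) => hz x
        rw [Finset.sum_sub_distrib, Finset.sum_comm] at hsum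
        have h2 : (Nat.card A : ℤ) ∣ ∑ x : A, if x ∈ R then r R else 0 := by
          rw [← hsum]
          refine dvd_sub (hμ R hR1) (Finset.dvd_sum fun S _ => ?_)
          by_cases h : R < S
          · rw [← Finset.sum_filter, Finset.filter_congr (q := fun x => x ∈ S) fun x _ => by
              simp [h], Finset.sum_const, nsmul_eq_mul, ← Fintype.card_subtype,
              ← Nat.card_eq_fintype_card]
            exact ⟨a S, by rw [← S.index_mul_card]; push_cast; ring⟩
          · exact Finset.dvd_sum fun x _ => by rw [if_neg fun h' => h h'.1]; exact dvd_zero _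
        rw [← Finset.sum_filter, Finset.sum_const, nsmul_eq_mul, ← Fintype.card_subtype,
          ← Nat.card_eq_fintype_card, ← R.index_mul_card, Nat.cast_mul,
          mul_comm (R.index : ℤ)] at h2
        exact (mul_dvd_mul_iff_left (Nat.cast_ne_zero.mpr Nat.card_pos.ne')).mp h2
  obtain ⟨a, ha⟩ := key (Nat.card A)
  refine ⟨∑ S : Subgroup A, (a S : ℂ) • fun x => if x ∈ S then (S.index : ℂ) else 0,
    CT.isGen_sum _ fun S _ => CT.isGen_zsmul _ (isGen_indicator S), fun x hx => ?_⟩
  rw [ha _ (fun h => hx (Subgroup.zpowers_eq_bot.mp h))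
    (Nat.lt_add_of_pos_left Nat.card_pos), Finset.sum_apply, Int.cast_sum]
  refine Finset.sum_congr rfl fun S _ => ?_
  simp only [Pi.smul_apply, smul_eq_mul, Subgroup.zpowers_le]
  split_ifs <;> simp

end Cfsg.Agent.FreeStar
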