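import Cfsg.Agent.Lib.FreeStar.Column
import Cfsg.Agent.Lib.FreeStar.Marks
import Cfsg.Agent.Lib.Blocks.StarVanish

/-!
# The ranks of the invariant idempotent at the subgroups of the defect group

They are prime to `p`, and after a change of signs they are the values of one generalized
character of the defect group.
-/

namespace Cfsg.Agent.FreeStar

open MonoidAlgebra BPairs Blocks
open scoped ComplexConjugate

universe u

set_option linter.unusedSectionVars false

namespace Free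

variable {p : ℕ} [hp : Fact p.Prime] {M : Ideal AlgInt} [M.IsPrime] {G : Type u} [Group G]
  [Finite G] (D : Free p M G)

theorem mul_comm' (a b : D.P) : a * b = b * a :=
  Subtype.ext (Subgroup.mem_centralizer_iff.mp (D.hP b.2) (a : G) a.2)

/-- The defect group as a commutative group. -/
noncomputable abbrev commGrp : CommGroup D.P :=
  { (inferInstance : Group D.P) with mul_comm := D.mul_comm' }

theorem card_pow : Nat.card D.P = p ^ blockDefect p D.B := D.q_eq

theorem red_intCast_eq_zero_iff (hM : IsPModular p M) (z : ℤ) :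
    red M (z : Loc M) = 0 ↔ (p : ℤ) ∣ z := by
  haveI := charP_res hM
  rw [map_intCast, CharP.intCast_eq_zero_iff (Res M) p]

theorem intCast_eq {x : Loc M} {z : ℤ} (h : ((x : Loc M) : ℂ) = (z : ℂ)) : x = (z : Loc M) :=
  Subtype.ext (by rw [h]; simp)

theorem evC_member {η : IrrCharacter (Subgroup.centralizer (D.P : Set G))} (hη : η ∈ D.blk D.P) :
    evC (η : Subgroup.centralizer (D.P : Set G) → ℂ) (D.jlift D.P) = (D.mS D.P : ℂ) := by
  obtain ⟨hj, -, -⟩ := D.jlift_spec (le_refl D.P)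
  rw [evC_congr D.hM ((D.xi_spec le_rfl D.hP1).2.2 η hη) hj, D.mS_spec le_rfl]

/-- The rank at the defect group is prime to `p`. -/
theorem mS_P : ¬ (p : ℤ) ∣ D.mS D.P := by
  intro hd
  obtain ⟨-, hred, -⟩ := D.jlift_spec (le_refl D.P)
  have h := D.src_spec.2.2.1
  have hmem : D.exists_xiP.choose ∈ D.blk D.P := by
    rw [blk_self]; exact D.exists_xiP.choose_spec.1
  rw [← D.embH_jbar D.P, ← hred, tauH_embH,
    intCast_eq (x := ev (charL M D.exists_xiP.choose) (D.jlift D.P)) (z := D.mS D.P)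
      (by rw [← evC_charL, D.evC_member hmem]),
    Ne, red_intCast_eq_zero_iff D.hM] at h
  exact h hd

theorem regS_congr {K : Type u} [Group K] [Finite K] (χ : IrrCharacter K) {η η' : IrrCharacter K}
    (h : ∀ y, ¬ p ∣ orderOf y → (η : K → ℂ) y = (η' : K → ℂ) y) :
    regS M p χ η = regS M p χ η' := by
  classical
  haveI := Fintype.ofFinite K
  apply Subtype.ext
  apply mul_left_cancel₀ (CT.irr_one_ne_zero χ.2)
  rw [deg_mul_regS, deg_mul_regS, regPair, regPair]
  refine Finset.sum_congr rfl fun x _ => ?_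
  by_cases hx : p ∣ orderOf x <;> simp [hx, h x]

/-- A character with a unit value at the invariant idempotent. -/
theorem exists_chi0 :
    ∃ χ ∈ D.B, ∃ c : ℤ, D.gfun χ 1 = (c : ℂ) ∧ ¬ (p : ℤ) ∣ c := by
  classical
  haveI := Fintype.ofFinite G
  haveI := Fintype.ofFinite (Subgroup.centralizer (D.P : Set G))
  haveI := charP_res D.hM
  obtain ⟨χ, hχ, h0⟩ := exists_height_zero (p := p) D.hB
  obtain ⟨ε, hεε, hεred, -⟩ := exists_inv_idem_lift (M := M) D.P D.src_spec.1 D.src_spec.2.1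
  obtain ⟨c, hc⟩ := exists_int_evC D.hM χ hεε
  have hg : D.gfun χ 1 = (c : ℂ) := by
    rw [← hc, gfun, OneMemClass.coe_one, phi_eq_of_red D.hM χ hεε
      (by rw [← one_def]; exact Commute.one_right ε) hεred, ← one_def, mul_one, evC_charL]
  refine ⟨χ, hχ, c, hg, fun hd => ?_⟩
  have hzero : ev (fun u : G => red M (charL M χ u)) D.src = 0 := by
    rw [← hεred, ← (red_intCast_eq_zero_iff D.hM c).mpr hd,
      ← intCast_eq (x := ev (charL M χ) ε) (z := c) (by rw [← evC_charL, hc]), ev_eq_sum,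
      ev_eq_sum, map_sum]
    exact Finset.sum_congr rfl fun u _ => by rw [map_mul, coeff_map']
  -- the sum over the centralizer
  letI : MulAction D.P G := MulAction.compHom G (MulAut.conj.comp D.P.subtype)
  have hsum : ev (fun u : G => red M (charL M χ u)) D.src =
      ev (fun h : Subgroup.centralizer (D.P : Set G) => red M (charL M χ h)) (D.jbar D.P) := by
    rw [ev_eq_sum, ev_eq_sum, sum_eq_sum_fixed (p := p) D.hPp
      (fun u : G => D.src.coeff u * red M (charL M χ u)) ?_]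
    · refine (Finset.sum_bij (fun (h : Subgroup.centralizer (D.P : Set G)) _ => (h : G))
        (fun h _ => ?_) (fun a _ b _ e => Subtype.ext e) (fun x hx => ?_) (fun h _ => ?_)).symm
      · refine Finset.mem_filter.mpr ⟨Finset.mem_univ _, fun v => ?_⟩
        show (v : G) * (h : G) * (v : G)⁻¹ = (h : G)
        rw [Subgroup.mem_centralizer_iff.mp h.2 (v : G) v.2, mul_inv_cancel_right]
      · refine ⟨⟨x, Subgroup.mem_centralizer_iff.mpr fun w hw => ?_⟩, Finset.mem_univ _, rfl⟩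
        have h1 : w * x * w⁻¹ = x := (Finset.mem_filter.mp hx).2 ⟨w, hw⟩
        calc w * x = w * x * w⁻¹ * w := by group
          _ = x * w := by rw [h1]
      · simp only [jbar, coeff_resH]
    · intro v u
      show D.src.coeff ((v : G) * u * (v : G)⁻¹) * red M (charL M χ ((v : G) * u * (v : G)⁻¹)) = _
      rw [D.src_spec.2.1 (v : G) v.2 u, isClassFn_charL χ u (v : G)]
  obtain ⟨hj, hred, -⟩ := D.jlift_spec (le_refl D.P)
  have hjb : redG M _ (D.jlift D.P) * (bBar M (D.blk D.P) :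
      MonoidAlgebra (Res M) (Subgroup.centralizer (D.P : Set G))) = redG M _ (D.jlift D.P) := by
    rw [hred]; exact (D.jbar_facts le_rfl).2.1
  obtain ⟨m, hm⟩ : ∃ m : IrrCharacter (Subgroup.centralizer (D.P : Set G)) → ℕ, m =
      fun (η : IrrCharacter (Subgroup.centralizer (D.P : Set G))) =>
      CT.mult (fun h : Subgroup.centralizer (D.P : Set G) => (χ : G → ℂ) h)
        (η : Subgroup.centralizer (D.P : Set G) → ℂ) := ⟨_, rfl⟩
  have hev : ev (fun h : Subgroup.centralizer (D.P : Set G) => red M (charL M χ h)) (D.jbar D.P) =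
      (∑ η, if η ∈ D.blk D.P then (m η : Res M) else 0) * red M (D.mS D.P : Loc M) := by
    have hres := CT.character_eq_sum (CT.isCharacter_restrict (Subgroup.centralizer (D.P : Set G))
      (CT.isCharacter_of_isIrr χ.2))
    have hval : ∀ h : Subgroup.centralizer (D.P : Set G),
        charL M χ h = ∑ η, (m η : Loc M) * charL M η h := fun h => Subtype.ext (by
      rw [AddSubmonoidClass.coe_finsetSum, hm]
      have := congrFun hres h
      simpa [Finset.sum_apply] using this)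
    have hone : ∀ η : IrrCharacter (Subgroup.centralizer (D.P : Set G)),
        red M (ev (charL M η) (D.jlift D.P)) =
          if η ∈ D.blk D.P then red M (D.mS D.P : Loc M) else 0 := fun η => by
      split_ifs with hη
      · rw [intCast_eq (x := ev (charL M η) (D.jlift D.P)) (z := D.mS D.P)
          (by rw [← evC_charL, D.evC_member hη])]
      · rw [show ev (charL M η) (D.jlift D.P) = 0 from Subtype.ext (by
          rw [← evC_charL, evC_eq_zero_of_notMem D.hM (D.blk_spec le_rfl).1 hj hjb hη]; rfl),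
          map_zero]
    calc ev (fun h : Subgroup.centralizer (D.P : Set G) => red M (charL M χ h)) (D.jbar D.P)
        = ∑ η, (m η : Res M) * red M (ev (charL M η) (D.jlift D.P)) := by
          simp only [ev_eq_sum, map_sum, map_mul, hval, Finset.mul_sum, map_natCast, ← hred,
            coeff_map']
          rw [Finset.sum_comm]
          exact Finset.sum_congr rfl fun η _ => Finset.sum_congr rfl fun h _ => by ring
      _ = _ := by
          rw [Finset.sum_mul]
          exact Finset.sum_congr rfl fun η _ => by rw [hone]; split_ifs <;> simp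
  rw [hsum, hev] at hzero
  have hind := isInducedBlock_of_brauerPair D.hM D.hmax.1
  have hξ : D.exists_xiP.choose ∈ D.c := D.exists_xiP.choose_spec.1
  have hne := red_sum_mult_ne_zero D.hM hind hχ h0 hξ
  refine hne ?_
  have hreg : ∀ η, red M (regS M p D.exists_xiP.choose η) = if η ∈ D.blk D.P then
      red M (regS M p D.exists_xiP.choose (D.xi D.P)) else 0 := fun η => by
    split_ifs with hη
    · rw [regS_congr _ ((D.xi_spec le_rfl D.hP1).2.2 η hη)]
    · rw [regS_eq_zero D.hM (fun h => hη (by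
        rw [blk_self]; exact (mem_block_iff D.hc hξ).mpr h)), map_zero]
  rw [Finset.sum_congr rfl fun η _ => by rw [hreg η]]
  rcases mul_eq_zero.mp hzero with h | h
  · refine Eq.trans ?_ (mul_eq_zero_of_left h (red M (regS M p D.exists_xiP.choose (D.xi D.P))))
    rw [Finset.sum_mul]
    exact Finset.sum_congr rfl fun η _ => by rw [hm]; split_ifs <;> simp
  · exact absurd ((red_intCast_eq_zero_iff D.hM _).mp h) D.mS_P

theorem fval_one {R : Subgroup G} (hR : R ≤ D.P) (hR1 : R ≠ ⊥)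
    {η : IrrCharacter (Subgroup.centralizer (R : Set G))} (hη : η ∈ D.blk R) :
    D.fval R η 1 = (D.mS R : ℂ) := by
  obtain ⟨hj, hred, -⟩ := D.jlift_spec hR
  rw [fval, dif_pos hR, show (⟨((1 : D.P) : G), D.le_cent hR (1 : D.P).2⟩ :
      Subgroup.centralizer (R : Set G)) = 1 from Subtype.ext rfl,
    phi_eq_of_red D.hM η hj (by rw [← one_def]; exact Commute.one_right _) hred, ← one_def,
    mul_one, ← evC_charL, evC_congr D.hM ((D.xi_spec hR hR1).2.2 η hη) hj, D.mS_spec hR]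

theorem isIntegral_closure {z : ℂ} (h : z ∈ Subring.closure {w : ℂ | w ^ D.q = 1}) :
    IsIntegral ℤ z := by
  induction h using Subring.closure_induction with
  | mem w hw =>
    exact IsIntegral.of_pow (lt_trans Nat.zero_lt_one D.one_lt_q) (by rw [hw]; exact isIntegral_one)
  | zero => exact isIntegral_zero
  | one => exact isIntegral_one
  | add x y _ _ hx hy => exact hx.add hy
  | neg x _ hx => exact hx.neg
  | mul x y _ _ hx hy => exact hx.mul hy

/-- A generalized character with a unit at the identity has no value divisible by `p`. -/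
theorem not_dvd_of_gen {f : D.P → ℂ} (hf : IsGeneralizedCharacter D.P f) {c : ℤ}
    (hc : f 1 = (c : ℂ)) (hpc : ¬ (p : ℤ) ∣ c) {x : D.P} {d : ℂ} (hd : IsIntegral ℤ d) {m : ℤ}
    (hfx : f x = d * (m : ℂ)) : ¬ (p : ℤ) ∣ m := by
  letI := D.commGrp
  haveI := Fintype.ofFinite D.P
  intro hm
  obtain ⟨k, rfl⟩ := hm
  obtain ⟨n, hn⟩ := Nat.exists_eq_succ_of_ne_zero (pow_ne_zero (blockDefect p D.B) hp.out.ne_zero)
  have h := cong_pow_card hp.out D.card_pow hf x
  have h0 : Cong p (f x ^ p ^ blockDefect p D.B) ((0 : ℤ) : ℂ) := by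
    refine ⟨d * (k : ℂ) * (d * ((p : ℂ) * (k : ℂ))) ^ n, (hd.mul (CT.isIntegral_intCast k)).mul
      ((hd.mul ((CT.isIntegral_natCast p).mul (CT.isIntegral_intCast k))).pow n), ?_⟩
    rw [hfx, hn, pow_succ]
    push_cast
    ring
  rw [hc] at h
  have h2 := (h.symm.trans h0)
  rw [← Int.cast_pow] at h2
  have h3 := h2.dvd hp.out.ne_zero
  rw [sub_zero] at h3
  exact hpc ((Nat.prime_iff_prime_int.mp hp.out).dvd_of_dvd_pow h3)

/-- A property passing to one more generator climbs. -/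
theorem climb {Q : Subgroup G → Prop}
    (hstep : ∀ R ≤ D.P, R ≠ ⊥ → Q R → ∀ v : D.P, Q (D.step R v))
    {R S : Subgroup G} (hR1 : R ≠ ⊥) (hRS : R ≤ S) (hS : S ≤ D.P) (hQ : Q R) : Q S := by
  obtain ⟨T, hT⟩ := (Set.toFinite {T : Subgroup G | R ≤ T ∧ T ≤ S ∧ Q T}).exists_maximal
    ⟨R, le_rfl, hRS, hQ⟩
  obtain ⟨hRT, hTS, hQT⟩ := hT.prop
  rcases eq_or_ne T S with h | h
  · exact h ▸ hQT
  · obtain ⟨v, hv, hvT⟩ := SetLike.exists_of_lt (lt_of_le_of_ne hTS h)
    have h1 : D.step T ⟨v, hS hv⟩ ≤ T :=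
      hT.le_of_ge ⟨hRT.trans le_sup_left, sup_le hTS (Subgroup.zpowers_le.mpr hv),
        hstep T (hTS.trans hS) (fun h0 => hR1 (eq_bot_iff.mpr (h0 ▸ hRT))) hQT _⟩ le_sup_left
    exact absurd (h1 (Subgroup.mem_sup_right (Subgroup.mem_zpowers v))) hvT

theorem mS_zp_not_dvd {v : D.P} (hv : v ≠ 1) : ¬ (p : ℤ) ∣ D.mS (D.zp v) := by
  obtain ⟨χ, -, c, hc, hpc⟩ := D.exists_chi0
  exact D.not_dvd_of_gen (D.isGen_gfun χ) hc hpc (D.dv_integral χ v) (D.gfun_eq χ hv)

theorem step_not_dvd {R : Subgroup G} (hR : R ≤ D.P) (hR1 : R ≠ ⊥) (h : ¬ (p : ℤ) ∣ D.mS R)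
    (v : D.P) : ¬ (p : ℤ) ∣ D.mS (D.step R v) :=
  D.not_dvd_of_gen (D.isGen_fval hR (D.xi R)) (D.fval_one hR hR1 (D.xi_spec hR hR1).2.1) h
    (D.isIntegral_closure (D.dR_mem hR (D.xi R) v)) (D.fval_eq hR hR1 (D.xi R) v)

/-- The ranks are prime to `p`. -/
theorem mS_not_dvd {S : Subgroup G} (hS : S ≤ D.P) (hS1 : S ≠ ⊥) : ¬ (p : ℤ) ∣ D.mS S := by
  obtain ⟨v, hv, hv1⟩ := (Subgroup.ne_bot_iff_exists_ne_one.mp hS1).elim
    fun a ha => (⟨(a : G), a.2, fun h => ha (Subtype.ext h)⟩ : ∃ v, v ∈ S ∧ v ≠ (1 : G))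
  have hv' : (⟨v, hS hv⟩ : D.P) ≠ 1 := fun h => hv1 (congrArg Subtype.val h)
  exact D.climb (Q := fun R => ¬ (p : ℤ) ∣ D.mS R) (fun R hR hR1 h v => D.step_not_dvd hR hR1 h v)
    (D.zp_ne hv') (Subgroup.zpowers_le.mpr hv) hS (D.mS_zp_not_dvd hv')

theorem mS_ne_zero {S : Subgroup G} (hS : S ≤ D.P) (hS1 : S ≠ ⊥) : D.mS S ≠ 0 := fun h =>
  D.mS_not_dvd hS hS1 (h ▸ dvd_zero _)

theorem dR_one {R : Subgroup G} (hR : R ≤ D.P) (hR1 : R ≠ ⊥)
    {η : IrrCharacter (Subgroup.centralizer (R : Set G))} (hη : η ∈ D.blk R) :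
    D.dR R η 1 = 1 := by
  have h := D.fval_eq hR hR1 η 1
  rw [D.fval_one hR hR1 hη, D.step_one] at h
  exact (mul_eq_right₀ (Int.cast_ne_zero.mpr (D.mS_ne_zero hR hR1))).mp h.symm

/-- The factors have absolute value one. -/
theorem dR_abs {R : Subgroup G} (hR : R ≤ D.P) (hR1 : R ≠ ⊥)
    {η : IrrCharacter (Subgroup.centralizer (R : Set G))} (hη : η ∈ D.blk R) (v : D.P) :
    D.dR R η v * conj (D.dR R η v) = 1 := by
  classical
  haveI := Fintype.ofFinite (Subgroup.centralizer (R : Set G))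
  haveI := Fintype.ofFinite (D.blk R)
  have hS := D.step_le hR v
  have hm : (D.mS (D.step R v) : ℂ) ≠ 0 :=
    Int.cast_ne_zero.mpr (D.mS_ne_zero hS (D.step_ne_bot hR1 v))
  have hne : ∀ i : D.blk R, D.dR R i.1 v ≠ 0 := by
    intro i h0
    have h1 := D.fval_eq hR hR1 i.1 v
    rw [h0] at h1
    refine D.not_dvd_of_gen (D.isGen_fval hR i.1) (D.fval_one hR hR1 i.2) (D.mS_not_dvd hR hR1)
      (d := 0) isIntegral_zero (m := 0) (x := v) ?_ (dvd_zero _)
    rw [h1, zero_mul, zero_mul]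
  have hsum : ∑ i : D.blk R, Complex.normSq (D.dR R i.1 v) = ((D.q : ℤ) : ℝ) := by
    apply Complex.ofReal_injective
    push_cast
    apply mul_right_cancel₀ (mul_ne_zero hm hm)
    rw [← D.sum_fval hR hR1 v, Finset.sum_mul,
      ← Finset.sum_subset (Finset.subset_univ ((D.blk R).toFinset)) (fun η' _ h => by
        rw [D.fval_eq_zero hR (fun h' => h (Set.mem_toFinset.mpr h')), zero_mul]),
      Finset.sum_subtype (D.blk R).toFinset (fun x => Set.mem_toFinset)]
    refine Finset.sum_congr rfl fun i _ => ?_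
    rw [← Complex.mul_conj, D.fval_eq hR hR1 i.1 v, map_mul, map_intCast]
    ring
  have h := normSq_eq_one_of_sum_le (by have := D.one_lt_q; omega) (fun i : D.blk R => D.dR R i.1 v)
    hne (fun i => D.dR_mem hR i.1 v) (D.q : ℤ) hsum
    (by rw [← Nat.card_eq_fintype_card, (D.xi_spec hR hR1).1]) ⟨η, hη⟩
  rw [Complex.mul_conj, h, Complex.ofReal_one]

theorem step_sq {R : Subgroup G} (hR : R ≤ D.P) (hR1 : R ≠ ⊥) (v : D.P) :
    (p : ℤ) ∣ D.mS (D.step R v) ^ 2 - D.mS R ^ 2 := by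
  letI := D.commGrp
  haveI := Fintype.ofFinite D.P
  obtain ⟨-, hξ, -⟩ := D.xi_spec hR hR1
  have hgen : IsGeneralizedCharacter D.P
      fun x => D.fval R (D.xi R) x * conj (D.fval R (D.xi R) x) :=
    CT.isGen_mul (D.isGen_fval hR _) (isGen_conj (D.isGen_fval hR _))
  have hval : ∀ x, D.fval R (D.xi R) x * conj (D.fval R (D.xi R) x) =
      ((D.mS (D.step R x) ^ 2 : ℤ) : ℂ) := fun x => by
    rw [D.fval_eq hR hR1, map_mul, map_intCast]
    push_cast
    linear_combination ((D.mS (D.step R x) : ℂ) ^ 2) * D.dR_abs hR hR1 hξ x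
  have h1 := hval 1
  rw [D.step_one] at h1
  exact dvd_sub_of_int hp.out D.card_pow hgen (hval v) h1

theorem mS_sq {S : Subgroup G} (hS : S ≤ D.P) (hS1 : S ≠ ⊥) :
    (p : ℤ) ∣ D.mS S ^ 2 - D.mS D.P ^ 2 := by
  have h := D.climb (Q := fun T => (p : ℤ) ∣ D.mS T ^ 2 - D.mS S ^ 2)
    (fun R hR hR1 h v => by
      have := dvd_add (D.step_sq hR hR1 v) h
      rwa [sub_add_sub_cancel] at this) hS1 hS le_rfl (by rw [sub_self]; exact dvd_zero _)
  simpa using dvd_neg.mpr h

theorem step_pow (R : Subgroup G) (x : D.P) {a : ℕ} (ha : ¬ p ∣ a) :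
    D.step R (x ^ a) = D.step R x := by
  have hz : Subgroup.zpowers ((x ^ a : D.P) : G) = Subgroup.zpowers (x : G) := by
    obtain ⟨k, hk⟩ := exists_pow_eq_one_of_isPGroup D.hPp x.2
    refine le_antisymm (Subgroup.zpowers_le.mpr ?_) (Subgroup.zpowers_le.mpr ?_)
    · rw [SubmonoidClass.coe_pow]; exact Subgroup.npow_mem_zpowers _ _
    · rw [SubmonoidClass.coe_pow]
      obtain ⟨j, hj⟩ := Nat.exists_eq_succ_of_ne_zero (pow_ne_zero k hp.out.ne_zero)
      have hcop : (orderOf (x : G)).Coprime a :=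
        (((Nat.Prime.coprime_iff_not_dvd hp.out).mpr ha).pow_left k).coprime_dvd_left
          (orderOf_dvd_of_pow_eq_one hk)
      obtain ⟨b, hb⟩ := exists_pow_eq_self_of_coprime hcop.symm
      exact ⟨(b : ℤ), by simpa using hb⟩
  simp only [step, hz]

theorem zp_pow (x : D.P) {a : ℕ} (ha : ¬ p ∣ a) : D.zp (x ^ a) = D.zp x := by
  have h := D.step_pow ⊥ x ha
  simp only [step, bot_sup_eq] at h
  exact h

/-- The signed ranks are the values of a generalized character. -/
theorem exists_global :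
    ∃ F : D.P → ℂ, IsGeneralizedCharacter D.P F ∧ (∃ c : ℤ, F 1 = (c : ℂ) ∧ ¬ (p : ℤ) ∣ c) ∧
      ∃ s : D.P → ℤ, (∀ x, s x = 1 ∨ s x = -1) ∧
        (∀ (x : D.P) (a : ℕ), ¬ p ∣ a → s (x ^ a) = s x) ∧
        ∀ x, x ≠ 1 → F x = (s x : ℂ) * (D.mS (D.zp x) : ℂ) := by
  classical
  letI := D.commGrp
  haveI := Fintype.ofFinite D.P
  obtain ⟨μ, hμ⟩ : ∃ μ : Subgroup D.P → ℤ, μ = fun S =>
      nz p (D.mS D.P) (D.mS (S.map D.P.subtype)) := ⟨_, rfl⟩
  have hμeq : ∀ (R : Subgroup D.P) (x : D.P),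
      μ (R ⊔ Subgroup.zpowers x) = nz p (D.mS D.P) (D.mS (D.step (R.map D.P.subtype) x)) :=
    fun R x => by
      simp only [hμ, Subgroup.map_sup, MonoidHom.map_zpowers]
      rfl
  obtain ⟨F, hF, hFμ⟩ := exists_marks μ fun R hR => by
    have hR' : R.map D.P.subtype ≤ D.P := Subgroup.map_subtype_le R
    have hR1 : R.map D.P.subtype ≠ ⊥ := fun h =>
      hR ((Subgroup.map_eq_bot_iff_of_injective R D.P.subtype_injective).mp h)
    obtain ⟨-, hξ, -⟩ := D.xi_spec hR' hR1
    obtain ⟨F, hF, hFx⟩ := exists_signed hp.out D.defect_ne_zero D.card_pow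
      (D.isGen_fval hR' (D.xi _)) (m := fun x => D.mS (D.step (R.map D.P.subtype) x))
      (d := D.dR _ (D.xi _)) (fun x => by rw [D.fval_eq hR' hR1]; ring)
      (fun x => D.isIntegral_closure (D.dR_mem hR' _ x)) (fun x => D.dR_abs hR' hR1 hξ x)
      (fun x => D.mS_not_dvd (D.step_le hR' x) (D.step_ne_bot hR1 x)) (D.dR_one hR' hR1 hξ)
      (fun x a ha => by simp only [D.step_pow _ x ha]) (r := D.mS D.P) D.mS_P
      (by simp only [D.step_one]; exact D.mS_sq hR' hR1)
    obtain ⟨z, hz⟩ := exists_int_sum hF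
    refine ⟨z, ?_⟩
    apply Int.cast_injective (α := ℂ)
    push_cast
    rw [← hz]
    exact Finset.sum_congr rfl fun x _ => by rw [hFx, hμeq]
  obtain ⟨s, hs⟩ : ∃ s : D.P → ℤ, s = fun x =>
      if nz p (D.mS D.P) (D.mS (D.zp x)) = D.mS (D.zp x) then 1 else -1 := ⟨_, rfl⟩
  have hFs : ∀ x : D.P, x ≠ 1 → F x = (s x : ℂ) * (D.mS (D.zp x) : ℂ) := fun x hx => by
    rw [hFμ x hx]
    simp only [hμ, MonoidHom.map_zpowers, hs]
    show ((nz p (D.mS D.P) (D.mS (D.zp x)) : ℤ) : ℂ) = _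
    rcases nz_cases p (D.mS D.P) (D.mS (D.zp x)) with h | h
    · rw [if_pos h, h]; simp
    · split_ifs with h' <;> [rw [h']; rw [h]] <;> simp
  refine ⟨F, hF, ?_, s, fun x => by simp only [hs]; split_ifs <;> simp,
    fun x a ha => by simp only [hs, D.zp_pow x ha], hFs⟩
  obtain ⟨x, hx⟩ := (Subgroup.ne_bot_iff_exists_ne_one.mp D.hP1)
  obtain ⟨m, hm⟩ := exists_expansion hF
  obtain ⟨c, hc⟩ : ∃ c : ℤ, F 1 = (c : ℂ) := ⟨∑ η, m η * (charDegree (η : D.P → ℂ) : ℤ), by
    rw [hm 1]; push_cast; exact Finset.sum_congr rfl fun η _ => by rw [charDegree_cast]⟩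
  refine ⟨c, hc, fun hd => D.mS_zp_not_dvd hx ?_⟩
  have hFx : F x = ((s x * D.mS (D.zp x) : ℤ) : ℂ) := by rw [hFs x hx]; push_cast; rfl
  have h2 := dvd_add (dvd_sub_of_int hp.out D.card_pow hF hFx hc) hd
  rw [sub_add_cancel] at h2
  have hsx : s x = 1 ∨ s x = -1 := by simp only [hs]; split_ifs <;> simp
  rcases hsx with h | h <;> rw [h] at h2 <;> simpa using h2

end Free

end Cfsg.Agent.FreeStar
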