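import Cfsg.Agent.Lib.FreeStar.Row
import Cfsg.Agent.Lib.FreeStar.Ranks

/-!
# The isometry of a block with free inertial action

The generalized characters of the defect group stable under the inertial quotient and vanishing
at the identity are sent to integral vectors on the block, and inner products are divided by the
order of the quotient.
-/

namespace Cfsg.Agent.FreeStar

open Blocks
open scoped ComplexConjugate

universe u

set_option linter.unusedSectionVars false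

theorem Cong.conj {n : ℕ} {a b : ℂ} (h : Cong n a b) : Cong n (conj a) (conj b) := by
  obtain ⟨w, hw, h⟩ := h
  refine ⟨(starRingEnd ℂ) w, CT.isIntegral_conj hw, ?_⟩
  rw [← map_sub, h, map_mul, map_natCast]

theorem Cong.of_modulus_dvd {n m : ℕ} (h : m ∣ n) {a b : ℂ} (hab : Cong n a b) : Cong m a b := by
  obtain ⟨k, rfl⟩ := h
  obtain ⟨w, hw, hab⟩ := hab
  exact ⟨(k : ℂ) * w, (CT.isIntegral_natCast k).mul hw, by rw [hab, Nat.cast_mul, mul_assoc]⟩

theorem Cong.pow {n : ℕ} {a b : ℂ} (h : Cong n a b) (hb : IsIntegral ℤ b) :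
    ∀ k : ℕ, Cong n (a ^ k) (b ^ k)
  | 0 => by simpa using Cong.refl n 1
  | k + 1 => by
    rw [pow_succ, pow_succ]
    exact (Cong.pow h hb k).mul h (hb.pow k) (h.isIntegral hb)

theorem cong_prod {n : ℕ} {ι : Type*} (s : Finset ι) (a b : ι → ℂ)
    (h : ∀ i ∈ s, Cong n (a i) (b i)) (hb : ∀ i ∈ s, IsIntegral ℤ (b i)) :
    Cong n (∏ i ∈ s, a i) (∏ i ∈ s, b i) := by
  classical
  induction s using Finset.induction with
  | empty => simp [Cong.refl]
  | insert i s hi ih =>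
    rw [Finset.prod_insert hi, Finset.prod_insert hi]
    exact (h i (Finset.mem_insert_self i s)).mul
      (ih (fun j hj => h j (Finset.mem_insert_of_mem hj)) fun j hj => hb j (Finset.mem_insert_of_mem hj))
      (hb i (Finset.mem_insert_self i s))
      (IsIntegral.prod _ fun j hj => (h j (Finset.mem_insert_of_mem hj)).isIntegral
        (hb j (Finset.mem_insert_of_mem hj)))

theorem isGen_prod {A : Type u} [CommGroup A] [Fintype A] {ι : Type*} (s : Finset ι)
    {f : ι → A → ℂ} (h : ∀ i ∈ s, IsGeneralizedCharacter A (f i)) :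
    IsGeneralizedCharacter A (∏ i ∈ s, f i) :=
  Finset.prod_induction f (IsGeneralizedCharacter A) (fun _ _ => CT.isGen_mul) isGen_one h

namespace Free

variable {p : ℕ} [hp : Fact p.Prime] {M : Ideal AlgInt} [M.IsPrime] {G : Type u} [Group G]
  [Finite G] (D : Free p M G)

theorem aut_ne {σ : MulAut D.P} {x : D.P} (hx : x ≠ 1) : σ x ≠ 1 := fun h =>
  hx (EmbeddingLike.map_eq_one_iff.mp h)

/-- Representatives of the orbits on the nontrivial elements. -/
theorem exists_reps [Fintype D.P] [DecidableEq D.P] :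
    ∃ R : Finset D.P, (∀ r ∈ R, r ≠ 1) ∧
      ∀ φ : D.P → ℂ, (∀ σ ∈ D.autE, ∀ x, x ≠ 1 → φ (σ x) = φ x) →
        ∑ x ∈ Finset.univ.erase (1 : D.P), φ x = (D.e : ℂ) * ∑ r ∈ R, φ r := by
  classical
  haveI : Fintype D.autE := Fintype.ofFinite _
  obtain ⟨R, hR⟩ := (Set.toFinite {R : Finset D.P | (∀ r ∈ R, r ≠ 1) ∧
    ∀ r ∈ R, ∀ r' ∈ R, ∀ σ ∈ D.autE, σ r = r' → r = r'}).exists_maximal
    ⟨∅, by simp, by simp⟩
  obtain ⟨h1, h2⟩ := hR.prop
  refine ⟨R, h1, fun φ hφ => ?_⟩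
  rw [← D.card_autE, Nat.card_eq_fintype_card, ← Finset.card_univ, ← nsmul_eq_mul,
    ← Finset.sum_const, ← Finset.sum_product']
  refine (Finset.sum_bij (fun (i : D.autE × D.P) _ => (i.1 : MulAut D.P) i.2) (fun i hi => ?_)
    (fun i hi j hj hij => ?_) (fun x hx => ?_) (fun i hi => ?_)).symm
  · exact Finset.mem_erase.mpr ⟨D.aut_ne (h1 _ (Finset.mem_product.mp hi).2), Finset.mem_univ _⟩
  · have hi2 := (Finset.mem_product.mp hi).2
    have hj2 := (Finset.mem_product.mp hj).2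
    replace hij : (i.1 : MulAut D.P) i.2 = (j.1 : MulAut D.P) j.2 := hij
    have h3 : ((j.1⁻¹ * i.1 : D.autE) : MulAut D.P) i.2 = j.2 := by
      rw [Subgroup.coe_mul, MulAut.mul_apply, hij, Subgroup.coe_inv, MulAut.inv_apply_self]
    have h4 := h2 _ hi2 _ hj2 _ (j.1⁻¹ * i.1).2 h3
    rw [← h4] at h3
    have h5 := D.autE_free (j.1⁻¹ * i.1).2 (h1 _ hi2) h3
    exact Prod.ext (inv_mul_eq_one.mp (Subtype.ext h5 : j.1⁻¹ * i.1 = 1)).symm h4
  · by_contra hne
    push Not at hne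
    have hx1 : x ≠ 1 := (Finset.mem_erase.mp hx).1
    have hno : ∀ r ∈ R, ∀ σ ∈ D.autE, σ r ≠ x := fun r hr σ hσ =>
      hne (⟨σ, hσ⟩, r) (Finset.mem_product.mpr ⟨Finset.mem_univ _, hr⟩)
    have hins : insert x R ⊆ R := hR.le_of_ge ⟨fun r hr => by
        rcases Finset.mem_insert.mp hr with rfl | hr
        · exact hx1
        · exact h1 r hr,
      fun r hr r' hr' σ hσ he => by
        rcases Finset.mem_insert.mp hr with hrx | hrR <;>
          rcases Finset.mem_insert.mp hr' with hrx' | hr'R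
        · rw [hrx, hrx']
        · subst hrx
          refine absurd ?_ (hno r' hr'R σ⁻¹ (inv_mem hσ))
          rw [← he, MulAut.inv_apply_self]
        · subst hrx'
          exact absurd he (hno r hrR σ hσ)
        · exact h2 r hrR r' hr'R σ hσ he⟩ (Finset.subset_insert x R)
    have hxR : x ∈ R := hins (Finset.mem_insert_self x R)
    exact hno x hxR 1 (one_mem _) rfl
  · exact (hφ _ i.1.2 _ (h1 _ (Finset.mem_product.mp hi).2)).symm

theorem e_dvd : D.e ∣ D.q - 1 := by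
  classical
  haveI := Fintype.ofFinite D.P
  obtain ⟨R, -, hR⟩ := D.exists_reps
  refine ⟨R.card, ?_⟩
  have h := hR (fun _ => 1) (fun _ _ _ _ => rfl)
  simp only [Finset.sum_const, nsmul_eq_mul, mul_one, Finset.card_erase_of_mem (Finset.mem_univ _),
    Finset.card_univ, ← Nat.card_eq_fintype_card] at h
  exact_mod_cast h

theorem e_coprime : D.e.Coprime D.q := by
  refine Nat.Coprime.coprime_dvd_left D.e_dvd ?_
  obtain ⟨k, hk⟩ := Nat.exists_eq_succ_of_ne_zero (show D.q ≠ 0 by have := D.one_lt_q; omega)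
  rw [hk]
  simp

theorem e_odd (h2 : p = 2) : Odd D.e := by
  refine Odd.of_dvd_nat ?_ D.e_dvd
  have h := D.q_eq
  subst h2
  have he : Even D.q := by
    rw [h]; exact (Nat.even_pow.mpr ⟨even_two, D.defect_ne_zero⟩)
  obtain ⟨k, hk⟩ := he
  have := D.one_lt_q
  exact ⟨k - 1, by omega⟩

set_option maxHeartbeats 1000000 in
/-- The stable signs. -/
theorem exists_sign :
    ∃ σ : D.P → ℤ, (∀ x, σ x = 1 ∨ σ x = -1) ∧
      (∀ (x : D.P) (a : ℕ), ¬ p ∣ a → x ≠ 1 → σ (x ^ a) = σ x) ∧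
      (∀ τ ∈ D.autE, ∀ x, x ≠ 1 → σ (τ x) = σ x) ∧
      ∀ χ : IrrCharacter G, ∃ H : D.P → ℂ, IsGeneralizedCharacter D.P H ∧
        ∀ x, x ≠ 1 → Cong D.q (H x) ((σ x : ℂ) * D.dv χ x) := by
  classical
  letI := D.commGrp
  haveI := Fintype.ofFinite D.P
  haveI : Fintype D.autE := Fintype.ofFinite _
  obtain ⟨χ₀, -, c₀, hc₀, hpc₀⟩ := D.exists_chi0
  obtain ⟨F, hF, ⟨cF, hcF, hpcF⟩, s, hs, hspow, hFs⟩ := D.exists_global
  obtain ⟨N, hN, hNpow⟩ := exists_pow_cong_one (A := D.P) hp.out D.card_pow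
  obtain ⟨K, rfl⟩ := Nat.exists_eq_add_of_le' (Nat.one_le_iff_ne_zero.mpr hN.ne')
  rw [← D.q_eq] at hNpow
  have hs2 : ∀ x, (s x : ℂ) * (s x : ℂ) = 1 := fun x => by
    rcases hs x with h | h <;> simp [h]
  obtain ⟨g, hg⟩ : ∃ g, g = D.gfun χ₀ := ⟨_, rfl⟩
  obtain ⟨gg, hgg⟩ : ∃ gg : D.P → ℂ, gg = fun x => g x * conj (g x) := ⟨_, rfl⟩
  have hgG : IsGeneralizedCharacter D.P g := hg ▸ D.isGen_gfun χ₀
  have hggG : IsGeneralizedCharacter D.P gg := hgg ▸ CT.isGen_mul hgG (isGen_conj hgG)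
  have hgg1 : gg 1 = ((c₀ * c₀ : ℤ) : ℂ) := by
    simp only [hgg, hg, hc₀, map_intCast]; push_cast; rfl
  have hggN : ∀ x, Cong D.q (gg x ^ (K + 1)) 1 := hNpow gg hggG _ hgg1 fun h =>
    hpc₀ (((Nat.prime_iff_prime_int.mp hp.out).dvd_mul.mp h).elim id id)
  obtain ⟨Ft, hFt⟩ : ∃ Ft : D.autE → D.P → ℂ, Ft = fun (τ : D.autE) x => F ((τ : MulAut D.P) x) := ⟨_, rfl⟩
  have hFtG : ∀ τ, IsGeneralizedCharacter D.P (Ft τ) := fun τ => by
    rw [hFt]; exact CT.isGen_comp (τ : MulAut D.P).toMonoidHom hF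
  have hFt1 : ∀ τ, Ft τ 1 = (cF : ℂ) := fun τ => by simp only [hFt, map_one, hcF]
  obtain ⟨Y, hY⟩ : ∃ Y : D.autE → D.P → ℂ, Y = fun (τ : D.autE) x =>
      g ((τ : MulAut D.P) x) * conj (g x) * gg x ^ K * F x * Ft τ x ^ K := ⟨_, rfl⟩
  have hYG : ∀ τ, IsGeneralizedCharacter D.P (Y τ) := fun τ => by
    rw [hY]
    exact CT.isGen_mul (CT.isGen_mul (CT.isGen_mul (CT.isGen_mul
      (CT.isGen_comp (τ : MulAut D.P).toMonoidHom hgG) (isGen_conj hgG)) (isGen_pow hggG K)) hF)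
      (isGen_pow (hFtG τ) K)
  obtain ⟨sv, hsv⟩ : ∃ sv : D.autE → D.P → ℤ, sv = fun (τ : D.autE) x =>
      if x = 1 then 1 else s x * s ((τ : MulAut D.P) x) := ⟨_, rfl⟩
  have hsv1 : ∀ τ x, sv τ x = 1 ∨ sv τ x = -1 := fun τ x => by
    simp only [hsv]
    split_ifs
    · exact Or.inl rfl
    · rcases hs x with h | h <;> rcases hs ((τ : MulAut D.P) x) with h' | h' <;> simp [h, h']
  have hYsv : ∀ τ x, Cong D.q (Y τ x) (sv τ x : ℂ) := by
    intro τ x
    have hbase : Cong D.q (gg x ^ (K + 1) * Ft τ x ^ (K + 1)) 1 := by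
      simpa using (hggN x).mul (hNpow (Ft τ) (hFtG τ) _ (hFt1 τ) hpcF x) isIntegral_one
        ((isIntegral_gen (hFtG τ) x).pow _)
    rcases eq_or_ne x 1 with rfl | hx
    · convert hbase using 1
      · simp only [hY, hgg, hFt, map_one, hg, hc₀, hcF, map_intCast]; ring
      · simp [hsv]
    · have hτx : (τ : MulAut D.P) x ≠ 1 := D.aut_ne hx
      have h := hbase.mul_left (c := (sv τ x : ℂ)) (CT.isIntegral_intCast _)
      rw [mul_one] at h
      convert h using 1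
      simp only [hY, hgg, hFt, hsv, if_neg hx, hg, D.gfun_eq χ₀ hx, D.gfun_eq χ₀ hτx,
        D.dv_aut χ₀ τ.2 hx, hFs x hx, hFs _ hτx, map_mul, map_intCast]
      push_cast
      linear_combination
        (-((D.dv χ₀ x * conj (D.dv χ₀ x)) ^ (K + 1) * (D.mS (D.zp x) : ℂ) ^ (2 * (K + 1)) *
          (s x : ℂ) * (s ((τ : MulAut D.P) x) : ℂ) ^ K *
          (D.mS (D.zp ((τ : MulAut D.P) x)) : ℂ) ^ (K + 1))) * hs2 ((τ : MulAut D.P) x)
  have hodd : p ≠ 2 → ∀ τ x, sv τ x = 1 := by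
    intro h2 τ x
    have hdvd : p ∣ D.q := by rw [D.q_eq]; exact dvd_pow_self p D.defect_ne_zero
    have e1 : ∀ y, Cong p (Y τ y ^ p ^ blockDefect p D.B) ((sv τ y : ℂ) ^ p ^ blockDefect p D.B) :=
      fun y => ((hYsv τ y).of_modulus_dvd hdvd).pow (CT.isIntegral_intCast _) _
    have h := ((e1 x).symm.trans (cong_pow_card hp.out D.card_pow (hYG τ) x)).trans (e1 1)
    rw [← Int.cast_pow, ← Int.cast_pow] at h
    have h' := h.dvd hp.out.ne_zero
    rcases hsv1 τ x with hx | hx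
    · exact hx
    · exfalso
      rw [hx, show sv τ 1 = 1 by simp [hsv],
        ((hp.out.odd_of_ne_two h2).pow).neg_one_pow, one_pow] at h'
      have h3 : (p : ℤ) ∣ ((2 : ℕ) : ℤ) := by
        simpa using dvd_neg.mpr h'
      rw [Int.natCast_dvd_natCast] at h3
      exact h2 ((Nat.prime_dvd_prime_iff_eq hp.out Nat.prime_two).mp h3)
  obtain ⟨σ, hσ⟩ : ∃ σ : D.P → ℤ, σ = fun x =>
      s x * ∏ τ : D.autE, (s x * s ((τ : MulAut D.P) x)) := ⟨_, rfl⟩
  have hunit : ∀ x, IsUnit (s x) := fun x => Int.isUnit_iff.mpr (hs x)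
  have hσodd : p ≠ 2 → ∀ x, x ≠ 1 → σ x = s x := fun h2 x hx => by
    simp only [hσ]
    rw [Finset.prod_eq_one fun τ _ => ?_, mul_one]
    have := hodd h2 τ x
    simpa [hsv, hx] using this
  refine ⟨σ, fun x => Int.isUnit_iff.mp ?_, fun x a ha hx => ?_, fun τ hτ x hx => ?_, fun χ => ?_⟩
  · simp only [hσ]
    exact (hunit x).mul (IsUnit.prod_iff.mpr fun τ _ => (hunit x).mul (hunit _))
  · simp only [hσ, map_pow, hspow _ a ha]
  · rcases eq_or_ne p 2 with h2 | h2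
    · have hev : ∀ y, σ y = ∏ ρ : D.autE, s ((ρ : MulAut D.P) y) := fun y => by
        simp only [hσ]
        rw [Finset.prod_mul_distrib, Finset.prod_const, Finset.card_univ,
          ← Nat.card_eq_fintype_card, D.card_autE, ← mul_assoc, ← pow_succ']
        obtain ⟨k, hk⟩ := D.e_odd h2
        rw [show D.e + 1 = 2 * (k + 1) by omega, pow_mul]
        rcases hs y with h | h <;> simp [h]
      rw [hev, hev]
      exact Fintype.prod_equiv (Equiv.mulRight (⟨τ, hτ⟩ : D.autE)) _ _ fun ρ => rfl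
    · rw [hσodd h2 x hx, hσodd h2 _ (D.aut_ne hx)]
      have := hodd h2 ⟨τ, hτ⟩ x
      simp only [hsv, if_neg hx] at this
      rcases hs x with h | h <;> rcases hs (τ x) with h' | h' <;> simp [h, h'] at this ⊢
  · refine ⟨(D.gfun χ * fun x => F x ^ K) * ∏ τ : D.autE, Y τ,
      CT.isGen_mul (CT.isGen_mul (D.isGen_gfun χ) (isGen_pow hF K))
        (isGen_prod _ fun τ _ => hYG τ), fun x hx => ?_⟩
    rw [Pi.mul_apply, Pi.mul_apply, Finset.prod_apply]
    have h1 : Cong D.q (D.gfun χ x * F x ^ K) ((s x : ℂ) * D.dv χ x) := by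
      have h := (hNpow F hF cF hcF hpcF x).mul_left (c := (s x : ℂ) * D.dv χ x)
        ((CT.isIntegral_intCast _).mul (D.dv_integral χ x))
      rw [mul_one] at h
      convert h using 1
      rw [D.gfun_eq χ hx, hFs x hx]
      linear_combination (-((D.dv χ x) * (D.mS (D.zp x) : ℂ) ^ (K + 1) * (s x : ℂ) ^ K)) * hs2 x
    have h2 : Cong D.q (∏ τ : D.autE, Y τ x) (∏ τ : D.autE, (sv τ x : ℂ)) :=
      cong_prod _ _ _ (fun τ _ => hYsv τ x) fun τ _ => CT.isIntegral_intCast _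
    have h3 := h1.mul h2 ((CT.isIntegral_intCast _).mul (D.dv_integral χ x))
      (IsIntegral.prod _ fun τ _ => isIntegral_gen (hYG τ) x)
    convert h3 using 1
    simp only [hσ, hsv, if_neg hx]
    push_cast
    ring

/-- The stable sign of an element. -/
noncomputable def sgn : D.P → ℤ := D.exists_sign.choose

theorem sgn_sq (x : D.P) : (D.sgn x : ℂ) * (D.sgn x : ℂ) = 1 := by
  rcases D.exists_sign.choose_spec.1 x with h | h <;>
    rw [show D.sgn x = _ from h] <;> simp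

theorem sgn_pow {x : D.P} {a : ℕ} (ha : ¬ p ∣ a) (hx : x ≠ 1) : D.sgn (x ^ a) = D.sgn x :=
  D.exists_sign.choose_spec.2.1 x a ha hx

theorem sgn_aut {τ : MulAut D.P} (hτ : τ ∈ D.autE) {x : D.P} (hx : x ≠ 1) :
    D.sgn (τ x) = D.sgn x :=
  D.exists_sign.choose_spec.2.2.1 τ hτ x hx

theorem exists_sgn_gen (χ : IrrCharacter G) : ∃ H : D.P → ℂ, IsGeneralizedCharacter D.P H ∧
    ∀ x, x ≠ 1 → Cong D.q (H x) ((D.sgn x : ℂ) * D.dv χ x) :=
  D.exists_sign.choose_spec.2.2.2 χ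

/-- The stable generalized characters vanishing at the identity. -/
def IsStab (η : D.P → ℂ) : Prop :=
  IsGeneralizedCharacter D.P η ∧ η 1 = 0 ∧ ∀ τ ∈ D.autE, ∀ x, η (τ x) = η x

variable [Fintype G] [Fintype D.P] [DecidableEq D.P]

/-- The image of a stable generalized character. -/
noncomputable def vv (η : D.P → ℂ) (χ : IrrCharacter G) : ℂ :=
  ((D.e : ℂ) * (D.q : ℂ))⁻¹ *
    ∑ x ∈ Finset.univ.erase (1 : D.P), η x * conj (D.dv χ x) * (D.sgn x : ℂ)

/-- The images are integral. -/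
theorem vv_int {η : D.P → ℂ} (hη : D.IsStab η) (χ : IrrCharacter G) :
    ∃ z : ℤ, D.vv η χ = (z : ℂ) := by
  classical
  letI := D.commGrp
  obtain ⟨hgen, h1, hst⟩ := hη
  obtain ⟨S, hS⟩ : ∃ S : ℂ, S = ∑ x ∈ Finset.univ.erase (1 : D.P),
      η x * conj (D.dv χ x) * (D.sgn x : ℂ) := ⟨_, rfl⟩
  have hvv : D.vv η χ = ((D.e : ℂ) * (D.q : ℂ))⁻¹ * S := by rw [hS]; rfl
  have he : (D.e : ℂ) ≠ 0 := Nat.cast_ne_zero.mpr D.e_ne_zero
  have hq : (D.q : ℂ) ≠ 0 := Nat.cast_ne_zero.mpr (by have := D.one_lt_q; omega)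
  -- integrality
  obtain ⟨H, hH, hHc⟩ := D.exists_sgn_gen χ
  obtain ⟨Z, hZ⟩ : ∃ Z : D.P → ℂ,
      Z = fun x => if x = 1 then H x else (D.sgn x : ℂ) * D.dv χ x := ⟨_, rfl⟩
  have hmean := isIntegral_mean (n := D.q) (A := D.P) rfl
    (X := fun x => η x * conj (Z x)) (CT.isGen_mul hgen (isGen_conj hH)) fun x => by
      refine Cong.mul_left ?_ (isIntegral_gen hgen x)
      rcases eq_or_ne x 1 with hx | hx
      · simp only [hZ, if_pos hx]; exact Cong.refl _ _
      · simp only [hZ, if_neg hx]; exact ((hHc x hx).symm).conj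
  have hsum : ∑ x, η x * conj (Z x) = S := by
    rw [← Finset.add_sum_erase _ _ (Finset.mem_univ (1 : D.P)), h1, zero_mul, zero_add, hS]
    refine Finset.sum_congr rfl fun x hx => ?_
    simp only [hZ, if_neg (Finset.mem_erase.mp hx).1, map_mul, map_intCast]
    ring
  rw [hsum] at hmean
  have hev : IsIntegral ℤ ((D.e : ℂ) * D.vv η χ) := by
    rw [hvv]; convert hmean using 1; field_simp
  obtain ⟨R, hR1, hR⟩ := D.exists_reps
  have hqv : IsIntegral ℤ ((D.q : ℂ) * D.vv η χ) := by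
    have h := hR (fun x => η x * conj (D.dv χ x) * (D.sgn x : ℂ)) fun τ hτ x hx => by
      simp only [hst τ hτ x, D.dv_aut χ hτ hx, D.sgn_aut hτ hx]
    have hi : IsIntegral ℤ (∑ r ∈ R, η r * conj (D.dv χ r) * (D.sgn r : ℂ)) :=
      IsIntegral.sum _ fun r _ => ((isIntegral_gen hgen r).mul
        (CT.isIntegral_conj (D.dv_integral χ r))).mul (CT.isIntegral_intCast _)
    rw [hvv, hS, h]
    convert hi using 1
    field_simp
  have hint := isIntegral_of_coprime D.e_coprime hev hqv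
  -- rationality
  obtain ⟨d, hd, hrat⟩ := exists_rat_sum (A := D.P) hp.out D.defect_ne_zero D.card_pow
  obtain ⟨Pr, hPr⟩ : ∃ Pr : ℤ, Pr = ∏ y ∈ Finset.univ.erase (1 : D.P), D.mS (D.zp y) := ⟨_, rfl⟩
  have hPr0 : Pr ≠ 0 := by
    rw [hPr]
    exact Finset.prod_ne_zero_iff.mpr fun y hy =>
      D.mS_ne_zero (D.zp_le y) (D.zp_ne (Finset.mem_erase.mp hy).1)
  obtain ⟨h, hh⟩ : ∃ h : D.P → ℤ,
      h = fun x => if x = 1 then 0 else D.sgn x * (Pr / D.mS (D.zp x)) := ⟨_, rfl⟩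
  have hhm : ∀ x, x ≠ 1 → (h x : ℂ) * (D.mS (D.zp x) : ℂ) = (D.sgn x : ℂ) * (Pr : ℂ) := by
    intro x hx
    simp only [hh, if_neg hx]
    rw [← Int.cast_mul, mul_assoc, Int.ediv_mul_cancel (by
      rw [hPr]; exact Finset.dvd_prod_of_mem (fun y : D.P => D.mS (D.zp y))
        (Finset.mem_erase.mpr ⟨hx, Finset.mem_univ _⟩)), Int.cast_mul]
  obtain ⟨z, hz⟩ := hrat h (fun x a ha => by
      rcases eq_or_ne x 1 with rfl | hx
      · rw [one_pow]
      · have hxa : x ^ a ≠ 1 := by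
          intro h0
          refine D.zp_ne hx ?_
          rw [← D.zp_pow x ha, h0]
          simp [zp]
        simp only [hh, if_neg hx, if_neg hxa, D.zp_pow x ha, D.sgn_pow ha hx])
    (fun x => η x * conj (D.gfun χ x)) (CT.isGen_mul hgen (isGen_conj (D.isGen_gfun χ)))
  have hsum2 : ∑ x, (h x : ℂ) * (η x * conj (D.gfun χ x)) = (Pr : ℂ) * S := by
    rw [← Finset.add_sum_erase _ _ (Finset.mem_univ (1 : D.P)), h1, zero_mul, mul_zero, zero_add,
      hS, Finset.mul_sum]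
    refine Finset.sum_congr rfl fun x hx => ?_
    have hx1 := (Finset.mem_erase.mp hx).1
    rw [D.gfun_eq χ hx1, map_mul, map_intCast]
    linear_combination (η x * conj (D.dv χ x)) * hhm x hx1
  rw [hsum2] at hz
  have hSv : S = (D.e : ℂ) * (D.q : ℂ) * D.vv η χ := by rw [hvv]; field_simp
  refine int_of_rat (a := z * Pr) (c := d * Pr.natAbs * Pr.natAbs * (D.e * D.q)) ?_ hint ?_
  · have := D.e_ne_zero
    have := D.one_lt_q
    have := Int.natAbs_ne_zero.mpr hPr0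
    simp only [ne_eq, mul_eq_zero, not_or]
    omega
  · have hsq : ((Pr.natAbs : ℕ) : ℂ) * (Pr.natAbs : ℂ) = (Pr : ℂ) * (Pr : ℂ) := by
      have h1 : ((Pr.natAbs : ℤ) : ℂ) * ((Pr.natAbs : ℤ) : ℂ) = (Pr : ℂ) * (Pr : ℂ) := by
        rw [← Int.cast_mul, Int.natAbs_mul_self' Pr, Int.cast_mul]
      simpa using h1
    push_cast
    rw [← hz, hSv]
    linear_combination ((d : ℂ) * ((D.e : ℂ) * (D.q : ℂ)) * D.vv η χ) * hsq

/-- The real images. -/
theorem conj_vv {η : D.P → ℂ} (hη : D.IsStab η) (χ : IrrCharacter G) :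
    conj (D.vv η χ) = D.vv η χ := by
  obtain ⟨z, hz⟩ := D.vv_int hη χ
  rw [hz, map_intCast]

/-- The sum over the second point of a pairing of columns. -/
theorem sum_mul_colPair (φ : D.P → ℂ) (hφ : ∀ τ ∈ D.autE, ∀ x, x ≠ 1 → φ (τ x) = φ x) {x : D.P}
    (hx : x ≠ 1) :
    ∑ y ∈ Finset.univ.erase (1 : D.P), φ y * D.colPair x y =
      (D.e : ℂ) * (D.q : ℂ) * φ x := by
  classical
  haveI : Fintype D.autE := Fintype.ofFinite _
  have hinj : Function.Injective fun σ : D.autE => (σ : MulAut D.P) x := by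
    intro σ τ hστ
    replace hστ : (σ : MulAut D.P) x = (τ : MulAut D.P) x := hστ
    have h1 : ((τ⁻¹ * σ : D.autE) : MulAut D.P) x = x := by
      rw [Subgroup.coe_mul, MulAut.mul_apply, hστ, Subgroup.coe_inv, MulAut.inv_apply_self]
    exact (inv_mul_eq_one.mp (Subtype.ext (D.autE_free (τ⁻¹ * σ).2 hx h1) : τ⁻¹ * σ = 1)).symm
  have hsub : (Finset.univ.image fun σ : D.autE => (σ : MulAut D.P) x) ⊆
      Finset.univ.erase (1 : D.P) := fun b hb => by
    obtain ⟨σ, -, rfl⟩ := Finset.mem_image.mp hb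
    exact Finset.mem_erase.mpr ⟨D.aut_ne hx, Finset.mem_univ _⟩
  rw [← Finset.sum_subset hsub fun y hy hy' => by
      rw [D.colPair_eq_zero hx (Finset.mem_erase.mp hy).1 (fun σ hσ h0 => hy'
        (Finset.mem_image.mpr ⟨⟨σ, hσ⟩, Finset.mem_univ _, h0⟩)), mul_zero],
    Finset.sum_image fun a _ b _ h => hinj h,
    Finset.sum_congr rfl fun (σ : D.autE) _ => show φ ((σ : MulAut D.P) x) *
      D.colPair x ((σ : MulAut D.P) x) = φ x * (D.q : ℂ) by
      rw [hφ _ σ.2 x hx, ← D.column_self' hx, colPair]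
      exact congrArg _ (Finset.sum_congr rfl fun χ _ => by rw [D.dv_aut χ σ.2 hx]; ring),
    Finset.sum_const, Finset.card_univ, ← Nat.card_eq_fintype_card, D.card_autE, nsmul_eq_mul]
  ring

/-- The inner products of the images. -/
theorem gram {η η' : D.P → ℂ} (hη : D.IsStab η) (hη' : D.IsStab η') :
    ∑ χ ∈ D.Bs, D.vv η χ * D.vv η' χ = classInner η η' / (D.e : ℂ) := by
  classical
  rw [Finset.sum_congr rfl fun χ _ => by rw [← D.conj_vv hη' χ]]
  have he : (D.e : ℂ) ≠ 0 := Nat.cast_ne_zero.mpr D.e_ne_zero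
  have hq : (D.q : ℂ) ≠ 0 := Nat.cast_ne_zero.mpr (by have := D.one_lt_q; omega)
  have key : ∑ χ ∈ D.Bs, D.vv η χ * conj (D.vv η' χ) = ((D.e : ℂ) * (D.q : ℂ))⁻¹ ^ 2 *
      ∑ x ∈ Finset.univ.erase (1 : D.P), η x * (D.sgn x : ℂ) *
        ∑ y ∈ Finset.univ.erase (1 : D.P), conj (η' y) * (D.sgn y : ℂ) * D.colPair x y := by
    simp only [vv, colPair, map_mul, map_inv₀, map_natCast, map_sum, map_intCast,
      Complex.conj_conj, Finset.mul_sum, Finset.sum_mul]
    rw [Finset.sum_congr rfl fun χ _ => Finset.sum_comm, Finset.sum_comm]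
    refine Finset.sum_congr rfl fun x _ => ?_
    rw [Finset.sum_comm]
    refine Finset.sum_congr rfl fun y _ => Finset.sum_congr rfl fun χ _ => ?_
    ring
  rw [key, Finset.sum_congr rfl fun x hx => by
      rw [D.sum_mul_colPair _ (fun τ hτ w hw => by rw [hη'.2.2 τ hτ w, D.sgn_aut hτ hw])
        (Finset.mem_erase.mp hx).1]]
  have hsum : ∑ x, η x * conj (η' x) = ∑ x ∈ Finset.univ.erase (1 : D.P), η x * conj (η' x) := by
    rw [← Finset.add_sum_erase _ _ (Finset.mem_univ (1 : D.P)), hη.2.1, zero_mul, zero_add]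
  rw [classInner, hsum, show (Nat.card D.P : ℂ) = (D.q : ℂ) from rfl, Finset.mul_sum,
    Finset.mul_sum, Finset.sum_div]
  refine Finset.sum_congr rfl fun x _ => ?_
  field_simp
  linear_combination (η x * conj (η' x)) * D.sgn_sq x

/-- The degrees are orthogonal to the images. -/
theorem vv_degree (η : D.P → ℂ) : ∑ χ ∈ D.Bs, (χ : G → ℂ) 1 * D.vv η χ = 0 := by
  simp only [vv, Finset.mul_sum]
  rw [Finset.sum_comm]
  refine Finset.sum_eq_zero fun x hx => ?_
  have h := congrArg (starRingEnd ℂ) (D.degree_orth (Finset.mem_erase.mp hx).1)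
  rw [map_sum, map_zero] at h
  have h' : ∑ χ ∈ D.Bs, (χ : G → ℂ) 1 * conj (D.dv χ x) = 0 := by
    rw [← h]
    exact Finset.sum_congr rfl fun χ _ => by rw [map_mul, charDegree_cast, map_natCast]
  calc _ = (((D.e : ℂ) * (D.q : ℂ))⁻¹ * η x * (D.sgn x : ℂ)) *
        ∑ χ ∈ D.Bs, (χ : G → ℂ) 1 * conj (D.dv χ x) := by
        rw [Finset.mul_sum]; exact Finset.sum_congr rfl fun χ _ => by ring
    _ = 0 := by rw [h', mul_zero]

end Free

end Cfsg.Agent.FreeStar
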