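import Cfsg.Agent.Lib.FreeStar.Perfect
import Cfsg.Agent.Lib.FreeStar.Homocyclic
import Cfsg.Agent.Lib.Blocks.CycPerfectSetting
import Mathlib.GroupTheory.SpecificGroups.KleinFour

/-!
# Blocks with a Klein four defect group
-/

namespace Cfsg.Agent.FreeStar

open MonoidAlgebra BPairs Blocks
open scoped ComplexConjugate

universe u w

set_option linter.unusedSectionVars false

namespace Free

variable {M : Ideal AlgInt} [M.IsPrime] {G : Type u} [Group G] [Finite G]

theorem aut_trans {p : ℕ} [Fact p.Prime] (D : Free p M G) (he : D.e = D.q - 1) {x y : D.P}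
    (hx : x ≠ 1) (hy : y ≠ 1) : ∃ σ ∈ D.autE, σ x = y := by
  classical
  haveI := Fintype.ofFinite D.P
  haveI : Fintype D.autE := Fintype.ofFinite _
  have hinj : Function.Injective fun σ : D.autE => (σ : MulAut D.P) x := by
    intro σ τ hστ
    replace hστ : (σ : MulAut D.P) x = (τ : MulAut D.P) x := hστ
    have h1 : ((τ⁻¹ * σ : D.autE) : MulAut D.P) x = x := by
      rw [Subgroup.coe_mul, MulAut.mul_apply, hστ, Subgroup.coe_inv, MulAut.inv_apply_self]
    exact (inv_mul_eq_one.mp (Subtype.ext (D.autE_free (τ⁻¹ * σ).2 hx h1) : τ⁻¹ * σ = 1)).symm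
  have heq : (Finset.univ.image fun σ : D.autE => (σ : MulAut D.P) x) =
      Finset.univ.erase (1 : D.P) := by
    refine Finset.eq_of_subset_of_card_le (fun b hb => ?_) ?_
    · obtain ⟨σ, -, rfl⟩ := Finset.mem_image.mp hb
      exact Finset.mem_erase.mpr ⟨D.aut_ne hx, Finset.mem_univ _⟩
    · rw [Finset.card_image_of_injective _ hinj, Finset.card_univ, ← Nat.card_eq_fintype_card,
        D.card_autE, Finset.card_erase_of_mem (Finset.mem_univ _), Finset.card_univ,
        ← Nat.card_eq_fintype_card, he, q]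
  obtain ⟨σ, -, hσ⟩ := Finset.mem_image.mp
    (heq.symm ▸ Finset.mem_erase.mpr ⟨hy, Finset.mem_univ y⟩ : y ∈ Finset.univ.image _)
  exact ⟨σ, σ.2, hσ⟩

variable (D : Free 2 M G)

theorem klein_facts [Fact (Nat.Prime 2)] (hV : IsKleinFour D.P) :
    D.q = 4 ∧ (D.e = 1 ∨ D.e = 3) ∧ Nat.card D.B = 4 ∧ blockRank 2 D.B = D.e := by
  haveI := hV
  obtain ⟨iso⟩ : Nonempty (D.P ≃* Multiplicative (ZMod (2 ^ 1) × ZMod (2 ^ 1))) :=
    (IsKleinFour.nonempty_mulEquiv : Nonempty (D.P ≃* Multiplicative (ZMod 2 × ZMod 2)))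
  obtain ⟨-, -, -, he⟩ := homocyclic_free D.hM D.hB D.hmax le_rfl iso
  have hq : D.q = 4 := IsKleinFour.card_four
  obtain ⟨-, -, -, h3⟩ := D.counts
  have he' : D.e = 1 ∨ D.e = 3 := he
  obtain ⟨hk, hl⟩ := h3 (by rcases he' with h | h <;> omega)
  refine ⟨hq, he', ?_, hl⟩
  rcases he' with h | h <;> rw [h, hq] at hk <;> omega

theorem klein_sign [Fact (Nat.Prime 2)] (hV : IsKleinFour D.P) : D.SignDv := by
  classical
  haveI := hV
  haveI := Fintype.ofFinite G
  haveI := Fintype.ofFinite D.P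
  obtain ⟨hq, -, hk, -⟩ := D.klein_facts hV
  intro χ hχ v hv
  letI := Fintype.ofFinite (cz (v : G))
  have hint : ∀ θ : IrrCharacter G, ∃ z : ℤ, D.dv θ v = (z : ℂ) := fun θ => by
    have h : D.dv θ v ∈ Subring.closure {w : ℂ | w ^ 2 = 1} := by
      refine dVal_mem_closure _ (D.cel_center v) (Subtype.ext ?_)
      have h2 : v ^ 2 = 1 := by
        have h2 := Monoid.pow_exponent_eq_one v
        rwa [IsKleinFour.exponent_two] at h2
      have h3 := congrArg (fun x : D.P => (x : G)) h2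
      simpa [cel] using h3
    generalize D.dv θ v = z at h ⊢
    induction h using Subring.closure_induction with
    | mem w hw =>
      rcases mul_self_eq_one_iff.mp (show w * w = 1 by rw [← sq]; exact hw) with h | h
      · exact ⟨1, by simp [h]⟩
      · exact ⟨-1, by simp [h]⟩
    | zero => exact ⟨0, by simp⟩
    | one => exact ⟨1, by simp⟩
    | add x y _ _ hx hy =>
      obtain ⟨a, rfl⟩ := hx; obtain ⟨b, rfl⟩ := hy; exact ⟨a + b, by push_cast; rfl⟩
    | neg x _ hx => obtain ⟨a, rfl⟩ := hx; exact ⟨-a, by push_cast; rfl⟩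
    | mul x y _ _ hx hy =>
      obtain ⟨a, rfl⟩ := hx; obtain ⟨b, rfl⟩ := hy; exact ⟨a * b, by push_cast; rfl⟩
  choose z hz using hint
  have hsum : ∑ θ ∈ D.Bs, z θ ^ 2 = 4 := by
    apply Int.cast_injective (α := ℂ)
    push_cast
    rw [show (4 : ℂ) = (D.q : ℂ) by rw [hq]; norm_num, ← D.column_self' hv]
    exact Finset.sum_congr rfl fun θ _ => by rw [hz, map_intCast]; ring
  have hne : ∀ θ ∈ D.Bs, z θ ≠ 0 := fun θ hθ h0 =>
    D.dv_ne_zero (D.mem_Bs.mp hθ) hv (by rw [hz, h0, Int.cast_zero])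
  have hχs : χ ∈ D.Bs := D.mem_Bs.mpr hχ
  have hrest := card_le_sum_sq (K := D.Bs) Finset.univ (fun θ => z θ.1)
  rw [← Finset.add_sum_erase _ _ hχs] at hsum
  have hge : ((D.Bs.erase χ).card : ℤ) ≤ ∑ θ ∈ D.Bs.erase χ, z θ ^ 2 := by
    rw [Finset.card_eq_sum_ones, Nat.cast_sum, Nat.cast_one]
    exact Finset.sum_le_sum fun θ hθ => sq_one_le (hne θ (Finset.mem_of_mem_erase hθ))
  rw [Finset.card_erase_of_mem hχs, D.card_Bs, hk] at hge
  norm_num at hge
  have h1 : z χ ^ 2 ≤ 1 := by omega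
  have h2 := hne χ hχs
  have : z χ ≤ 1 := by nlinarith
  have : -1 ≤ z χ := by nlinarith
  rcases (show z χ = 1 ∨ z χ = -1 by omega) with h | h <;> simp [hz, h]

theorem klein_key [Fact (Nat.Prime 2)] [Fintype G] [Fintype D.P] [DecidableEq D.P]
    (hV : IsKleinFour D.P) (he : D.e = 1) {a b : D.P}
    (ha : a ≠ 1) (hb : b ≠ 1) (hab : a ≠ b) {s t : ℂ} (hs : s = 1 ∨ s = -1) (ht : t = 1 ∨ t = -1) :
    ∃! χ, χ ∈ D.B ∧ D.dv χ a * D.dv χ b = s ∧ D.dv χ a * D.dv χ (a * b) = t := by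
  classical
  haveI := hV
  have hsign := D.klein_sign hV
  obtain ⟨hq, -, hk, -⟩ := D.klein_facts hV
  have hinv : ∀ x : D.P, x⁻¹ = x := fun x => IsKleinFour.inv_eq_self x
  have hc : a * b ≠ 1 := fun h => hab (by rw [eq_inv_of_mul_eq_one_left h, hinv])
  have hca : a * b ≠ a := fun h => hb (mul_eq_left.mp h)
  have hcb : a * b ≠ b := fun h => ha (mul_eq_right.mp h)
  have horth : ∀ x y : D.P, x ≠ 1 → y ≠ 1 → x ≠ y →
      ∑ χ ∈ D.Bs, D.dv χ x * D.dv χ y = 0 := fun x y hx hy hxy => by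
    rw [← D.colPair_eq_zero hx hy fun σ hσ h => hxy ?_, colPair]
    · exact Finset.sum_congr rfl fun χ h => by rw [hsign.real (D.mem_Bs.mp h) hx]
    · have hsub : Subsingleton D.autE :=
        (Nat.card_eq_one_iff_unique.mp (D.card_autE.trans he)).1
      have h1 : (⟨σ, hσ⟩ : D.autE) = 1 := Subsingleton.elim _ _
      rw [← h, show σ = 1 from congrArg Subtype.val h1, MulAut.one_apply]
  have hsum : ∑ χ ∈ D.Bs, (1 + s * (D.dv χ a * D.dv χ b)) *
      (1 + t * (D.dv χ a * D.dv χ (a * b))) = 4 := by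
    rw [Finset.sum_congr rfl fun χ h => show
      (1 + s * (D.dv χ a * D.dv χ b)) * (1 + t * (D.dv χ a * D.dv χ (a * b))) =
        1 + s * (D.dv χ a * D.dv χ b) + t * (D.dv χ a * D.dv χ (a * b)) +
          s * t * (D.dv χ b * D.dv χ (a * b)) by
      linear_combination (s * t * (D.dv χ b * D.dv χ (a * b))) * hsign.sq (D.mem_Bs.mp h) ha]
    simp only [Finset.sum_add_distrib, ← Finset.mul_sum, horth a b ha hb hab,
      horth a (a * b) ha hc hca.symm, horth b (a * b) hb hc hcb.symm, mul_zero, add_zero,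
      Finset.sum_const, D.card_Bs, hk, nsmul_eq_mul, mul_one]
    norm_num
  have hterm : ∀ χ ∈ D.Bs, (1 + s * (D.dv χ a * D.dv χ b)) *
      (1 + t * (D.dv χ a * D.dv χ (a * b))) =
      if D.dv χ a * D.dv χ b = s ∧ D.dv χ a * D.dv χ (a * b) = t then 4 else 0 := fun χ h => by
    have h' := D.mem_Bs.mp h
    rcases hsign χ h' a ha with e1 | e1 <;> rcases hsign χ h' b hb with e2 | e2 <;>
      rcases hsign χ h' (a * b) hc with e3 | e3 <;> rcases hs with rfl | rfl <;>
      rcases ht with rfl | rfl <;> norm_num [e1, e2, e3]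
  rw [Finset.sum_congr rfl hterm, ← Finset.sum_filter, Finset.sum_const, nsmul_eq_mul] at hsum
  have hcard : (D.Bs.filter fun χ =>
      D.dv χ a * D.dv χ b = s ∧ D.dv χ a * D.dv χ (a * b) = t).card = 1 := by
    have h4 : ((D.Bs.filter fun χ =>
      D.dv χ a * D.dv χ b = s ∧ D.dv χ a * D.dv χ (a * b) = t).card : ℂ) * 4 = ((1 : ℕ) : ℂ) * 4 := by
      rw [hsum]; norm_num
    exact_mod_cast mul_right_cancel₀ (by norm_num : (4 : ℂ) ≠ 0) h4
  obtain ⟨χ, hχ⟩ := Finset.card_eq_one.mp hcard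
  refine ⟨χ, ?_, fun θ hθ => ?_⟩
  · have h := Finset.ext_iff.mp hχ χ
    simp only [Finset.mem_filter, Finset.mem_singleton, iff_true, mem_Bs] at h
    exact h
  · have h := Finset.ext_iff.mp hχ θ
    simp only [Finset.mem_filter, Finset.mem_singleton, mem_Bs] at h
    exact h.mp hθ

end Free

open Free in
/-- Two blocks with Klein four groups and the same inertial index are perfectly isometric. -/
theorem klein_isometry {M : Ideal AlgInt} [M.IsPrime] [Fact (Nat.Prime 2)] {G : Type u} [Group G]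
    [Fintype G] {H : Type w} [Group H] [Fintype H] (D : Free 2 M G) (D' : Free 2 M H)
    (hV : IsKleinFour D.P) (hV' : IsKleinFour D'.P) (he : D'.e = D.e) :
    ∃ (I : IrrCharacter H → IrrCharacter G) (σ : IrrCharacter H → ℤ),
      IsPerfectIsometry 2 M D'.B D.B I σ := by
  classical
  haveI := hV
  haveI := hV'
  haveI := Fintype.ofFinite D.P
  haveI := Fintype.ofFinite D'.P
  obtain ⟨hq, he13, hk, -⟩ := D.klein_facts hV
  obtain ⟨hq', -, hk', -⟩ := D'.klein_facts hV'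
  have hs := D.klein_sign hV
  have hs' := D'.klein_sign hV'
  obtain ⟨ψ⟩ : Nonempty (D'.P ≃* D.P) := IsKleinFour.nonempty_mulEquiv
  have hψ1 : ∀ v : D'.P, v ≠ 1 → ψ v ≠ 1 := fun v hv h => hv (EmbeddingLike.map_eq_one_iff.mp h)
  obtain ⟨a, ha⟩ := Subgroup.ne_bot_iff_exists_ne_one.mp D'.hP1
  have hsign2 : ∀ (s : IrrCharacter H → IrrCharacter G), (∀ η ∈ D'.B, s η ∈ D.B) →
      ∀ η ∈ D'.B, ∀ v : D'.P, v ≠ 1 → D'.dv η a * D'.dv η v = D.dv (s η) (ψ a) * D.dv (s η) (ψ v) →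
      (((if D'.dv η a = D.dv (s η) (ψ a) then 1 else -1 : ℤ)) : ℂ) * D.dv (s η) (ψ v) =
        D'.dv η v := by
    intro s hsB η hη v hv h
    rcases hs' η hη a ha with e1 | e1 <;> rcases hs _ (hsB η hη) _ (hψ1 a ha) with e2 | e2 <;>
      rw [e1, e2] at h ⊢ <;> norm_num at h ⊢ <;>
      first | linear_combination h | linear_combination -h | simp_all
  rcases he13 with h1 | h3
  · obtain ⟨b, hb, hab⟩ : ∃ b : D'.P, b ≠ 1 ∧ a ≠ b := by
      by_contra h
      push Not at h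
      have hle : Fintype.card D'.P ≤ ({1, a} : Finset D'.P).card := Finset.card_le_card (s := Finset.univ)
        fun x _ => by
          rcases eq_or_ne x 1 with rfl | hx
          · simp
          · simp [h x hx]
      rw [← Nat.card_eq_fintype_card, show Nat.card D'.P = D'.q from rfl, hq'] at hle
      exact absurd (hle.trans Finset.card_le_two) (by norm_num)
    have hab' : ψ a ≠ ψ b := fun h => hab (ψ.injective h)
    have hc : a * b ≠ 1 := fun h => hab (by
      rw [eq_inv_of_mul_eq_one_left h, IsKleinFour.inv_eq_self])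
    have hall : ∀ v : D'.P, v ≠ 1 → v = a ∨ v = b ∨ v = a * b := fun v hv => by
      have hsub : ({1, a, b, a * b} : Finset D'.P) = Finset.univ := by
        refine Finset.eq_univ_of_card _ ?_
        rw [← Nat.card_eq_fintype_card, show Nat.card D'.P = D'.q from rfl, hq']
        exact Finset.card_eq_four.mpr ⟨_, _, _, _, ha.symm, hb.symm, hc.symm, hab,
          fun h => hb (mul_eq_left.mp h.symm), fun h => ha (mul_eq_right.mp h.symm), rfl⟩
      have hmem : v ∈ ({1, a, b, a * b} : Finset D'.P) := hsub ▸ Finset.mem_univ v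
      simpa [hv] using hmem
    have hkey : ∀ η ∈ D'.B, ∃! χ, χ ∈ D.B ∧ D.dv χ (ψ a) * D.dv χ (ψ b) = D'.dv η a * D'.dv η b ∧
        D.dv χ (ψ a) * D.dv χ (ψ a * ψ b) = D'.dv η a * D'.dv η (a * b) := fun η hη => by
      refine D.klein_key hV h1 (hψ1 a ha) (hψ1 b hb) hab' ?_ ?_
      · rcases hs' η hη a ha with e1 | e1 <;> rcases hs' η hη b hb with e2 | e2 <;> simp [e1, e2]
      · rcases hs' η hη a ha with e1 | e1 <;> rcases hs' η hη (a * b) hc with e2 | e2 <;>
          simp [e1, e2]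
    obtain ⟨I, hI⟩ : ∃ I : IrrCharacter H → IrrCharacter G, I = fun η =>
        if h : η ∈ D'.B then (hkey η h).choose else CT.trivIrr G := ⟨_, rfl⟩
    have hIspec : ∀ η (h : η ∈ D'.B), I η ∈ D.B ∧
        D.dv (I η) (ψ a) * D.dv (I η) (ψ b) = D'.dv η a * D'.dv η b ∧
        D.dv (I η) (ψ a) * D.dv (I η) (ψ a * ψ b) = D'.dv η a * D'.dv η (a * b) := fun η h => by
      simp only [hI, dif_pos h]
      exact (hkey η h).choose_spec.1
    refine ⟨I, fun η => if D'.dv η a = D.dv (I η) (ψ a) then 1 else -1,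
      perfect_of_dv D D' hs hs' ψ.toEquiv (map_one ψ) ⟨fun η hη => (hIspec η hη).1, ?_, ?_⟩
        (fun η _ => by split_ifs <;> simp) fun η hη v hv => ?_⟩
    · intro η hη η' hη' h
      obtain ⟨χ, -, huniq⟩ := D'.klein_key hV' (he.trans h1) ha hb hab
        (s := D'.dv η a * D'.dv η b) (t := D'.dv η a * D'.dv η (a * b))
        (by rcases hs' η hη a ha with e1 | e1 <;> rcases hs' η hη b hb with e2 | e2 <;> simp [e1, e2])
        (by rcases hs' η hη a ha with e1 | e1 <;> rcases hs' η hη (a * b) hc with e2 | e2 <;>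
          simp [e1, e2])
      refine (huniq η ⟨hη, rfl, rfl⟩).trans (huniq η' ⟨hη', ?_, ?_⟩).symm
      · rw [← (hIspec η hη).2.1, h, (hIspec η' hη').2.1]
      · rw [← (hIspec η hη).2.2, h, (hIspec η' hη').2.2]
    · intro χ hχ
      have hc' : ψ a * ψ b ≠ 1 := by rw [← map_mul]; exact hψ1 _ hc
      obtain ⟨η, ⟨hη, e1, e2⟩, -⟩ := D'.klein_key hV' (he.trans h1) ha hb hab
        (s := D.dv χ (ψ a) * D.dv χ (ψ b)) (t := D.dv χ (ψ a) * D.dv χ (ψ a * ψ b))
        (by rcases hs χ hχ _ (hψ1 a ha) with e1 | e1 <;> rcases hs χ hχ _ (hψ1 b hb) with e2 | e2 <;>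
          simp [e1, e2])
        (by rcases hs χ hχ _ (hψ1 a ha) with e1 | e1 <;> rcases hs χ hχ _ hc' with e2 | e2 <;>
          simp [e1, e2])
      exact ⟨η, hη, (hkey η hη).unique (hIspec η hη) ⟨hχ, e1.symm, e2.symm⟩⟩
    · refine hsign2 I (fun θ hθ => (hIspec θ hθ).1) η hη v hv ?_
      obtain ⟨-, h2, h3⟩ := hIspec η hη
      rcases hall v hv with rfl | rfl | rfl
      · rw [hs'.sq hη ha, hs.sq (hIspec η hη).1 (hψ1 _ ha)]
      · exact h2.symm
      · rw [map_mul]; exact h3.symm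
  · obtain ⟨J⟩ : Nonempty (D'.B ≃ D.B) := Finite.card_eq.mp (hk'.trans hk.symm)
    obtain ⟨I, hI⟩ : ∃ I : IrrCharacter H → IrrCharacter G, I = fun η =>
        if h : η ∈ D'.B then (J ⟨η, h⟩ : IrrCharacter G) else CT.trivIrr G := ⟨_, rfl⟩
    have hIval : ∀ η (h : η ∈ D'.B), I η = J ⟨η, h⟩ := fun η h => by simp only [hI, dif_pos h]
    refine ⟨I, fun η => if D'.dv η a = D.dv (I η) (ψ a) then 1 else -1,
      perfect_of_dv D D' hs hs' ψ.toEquiv (map_one ψ)
        ⟨fun η hη => by rw [hIval η hη]; exact (J _).2, ?_, ?_⟩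
        (fun η _ => by split_ifs <;> simp) fun η hη v hv => ?_⟩
    · intro η hη η' hη' h
      rw [hIval η hη, hIval η' hη'] at h
      exact congrArg Subtype.val (J.injective (Subtype.ext h))
    · intro χ hχ
      refine ⟨(J.symm ⟨χ, hχ⟩).1, (J.symm ⟨χ, hχ⟩).2, ?_⟩
      rw [hIval _ (J.symm ⟨χ, hχ⟩).2]
      exact congrArg Subtype.val (J.apply_symm_apply _)
    · refine hsign2 I (fun θ hθ => by rw [hIval θ hθ]; exact (J _).2) η hη v hv ?_
      obtain ⟨σ, hσ, rfl⟩ := D'.aut_trans (by rw [he, h3, hq']) ha hv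
      obtain ⟨τ, hτ, hτa⟩ := D.aut_trans (by rw [h3, hq]) (hψ1 a ha) (hψ1 _ (D'.aut_ne ha : σ a ≠ 1))
      rw [← hτa, D'.dv_aut η hσ ha, D.dv_aut _ hτ (hψ1 a ha), hs'.sq hη ha,
        hs.sq (by rw [hIval η hη]; exact (J _).2) (hψ1 a ha)]

end Cfsg.Agent.FreeStar
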