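import Cfsg.Agent.Lib.Blocks.StarParts
import Cfsg.Agent.Lib.Blocks.StarInteg
import Cfsg.Agent.Lib.Blocks.NilMain

/-!
# A block whose characters agree on the regular elements, at an idempotent

The members of the block take one value at every idempotent of the local group algebra, and a
translate by a central `p`-element multiplies it by a sum of roots of unity.
-/

namespace Cfsg.Agent.FreeStar

open MonoidAlgebra BPairs Blocks
open scoped ComplexConjugate

universe u

variable {K : Type u} [Group K] [Finite K] {p : ℕ} {M : Ideal AlgInt} [M.IsPrime]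
  {b : Set (IrrCharacter K)} {ξ : IrrCharacter K} {j : MonoidAlgebra (Loc M) K}

set_option linter.unusedSectionVars false

/-- The value of a function at an element of the local group algebra. -/
noncomputable def evC (f : K → ℂ) (a : MonoidAlgebra (Loc M) K) : ℂ := ev f (toC M K a)

theorem evC_eq_sum [Fintype K] (f : K → ℂ) (a : MonoidAlgebra (Loc M) K) :
    evC f a = ∑ u, ((a.coeff u : Loc M) : ℂ) * f u := by
  rw [evC, ev_eq_sum]
  exact Finset.sum_congr rfl fun u _ => by simp

theorem evC_charL (χ : IrrCharacter K) (a : MonoidAlgebra (Loc M) K) :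
    evC (χ : K → ℂ) a = ((ev (charL M χ) a : Loc M) : ℂ) := (ev_charL_toC χ a).symm

theorem evC_finsum [Fintype K] {ι : Type*} [Fintype ι] (c : ι → ℂ) (f : ι → K → ℂ)
    (a : MonoidAlgebra (Loc M) K) :
    evC (fun u => ∑ i, c i * f i u) a = ∑ i, c i * evC (f i) a := by
  simp only [evC_eq_sum, Finset.mul_sum]
  rw [Finset.sum_comm]
  exact Finset.sum_congr rfl fun i _ => Finset.sum_congr rfl fun u _ => by ring

theorem evC_mul_single [Fintype K] (f : K → ℂ) (a : MonoidAlgebra (Loc M) K) (z : K) :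
    evC f (a * single z 1) = evC (fun u => f (u * z)) a := by
  rw [evC, map_mul, toC_single, ev_mul_single, one_mul]
  rfl

/-- A local class function vanishing on the regular elements vanishes at idempotents. -/
theorem ev_eq_zero_of_regular (hM : IsPModular p M) [Fact p.Prime] {T : K → Loc M}
    (hT : IsClassFn T) (hreg : ∀ g, ¬ p ∣ orderOf g → T g = 0) (hj : j * j = j) : ev T j = 0 := by
  haveI := Fintype.ofFinite K
  have h := ev_mul_single_eq_zero_of_ppart (p := p) hT j (z := 1)
    (by rw [← one_def]; exact Commute.one_right j) ⟨0, one_pow _⟩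
    (fun n₀ => ⟨n₀, le_rfl, IsIdempotentElem.pow_eq hj (pow_ne_zero _ (Fact.out : p.Prime).ne_zero)⟩)
    (fun g hg => hreg g (isPPart_one_iff.mp hg))
    (fun x hx => eq_zero_of_forall_pow_dvd hM hx)
  rwa [← one_def, mul_one] at h

/-- Characters agreeing on the regular elements agree at idempotents. -/
theorem evC_congr (hM : IsPModular p M) [Fact p.Prime] {η η' : IrrCharacter K}
    (h : ∀ y, ¬ p ∣ orderOf y → (η : K → ℂ) y = (η' : K → ℂ) y) (hj : j * j = j) :
    evC (η : K → ℂ) j = evC (η' : K → ℂ) j := by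
  haveI := Fintype.ofFinite K
  have h0 : ev (fun g => charL M η g - charL M η' g) j = 0 := by
    refine ev_eq_zero_of_regular hM (fun g c => ?_) (fun g hg => ?_) hj
    · simp only [isClassFn_charL η g c, isClassFn_charL η' g c]
    · rw [sub_eq_zero]
      exact Subtype.ext (by simpa using h g hg)
  rw [evC_charL, evC_charL]
  congr 1
  rw [← sub_eq_zero, ← h0, ev_eq_sum, ev_eq_sum, ev_eq_sum, ← Finset.sum_sub_distrib]
  exact Finset.sum_congr rfl fun u _ => (mul_sub _ _ _).symm

/-- The characters outside a block vanish at its idempotents. -/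
theorem evC_mul_bIdem (hb : IsPBlock M b) (η : IrrCharacter K) [Decidable (η ∈ b)]
    (a : MonoidAlgebra (Loc M) K) :
    evC (η : K → ℂ) ((bIdem M b : MonoidAlgebra (Loc M) K) * a) =
      if η ∈ b then evC (η : K → ℂ) a else 0 := by
  rw [evC, map_mul, toC_bIdem (blockCoeff_mem_loc hb), ev_idemC_mul]
  split_ifs <;> rfl

theorem evC_eq_zero_of_notMem (hM : IsPModular p M) [Fact p.Prime] (hb : IsPBlock M b)
    (hj : j * j = j)
    (hjb : redG M K j * (bBar M b : MonoidAlgebra (Res M) K) = redG M K j)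
    {η : IrrCharacter K} (hη : η ∉ b) : evC (η : K → ℂ) j = 0 := by
  classical
  haveI := Fintype.ofFinite K
  obtain ⟨E, hE⟩ : ∃ E : MonoidAlgebra (Loc M) K, E = (bIdem M b : MonoidAlgebra (Loc M) K) :=
    ⟨_, rfl⟩
  have hEc : ∀ z, Commute E z := fun z => hE ▸ (Subring.mem_center_iff.mp (bIdem M b).2 z).symm
  have hEE : E * E = E := by rw [hE, ← Subring.coe_mul, bIdem_mul_self (blockCoeff_mem_loc hb)]
  have h1 : (E * j) * (E * j) = E * j := by
    rw [mul_assoc, ← mul_assoc j, ← (hEc j).eq, mul_assoc E j j, hj, ← mul_assoc, hEE]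
  have hone : ∀ a : MonoidAlgebra (Loc M) K, Commute a (single 1 1) := fun a => by
    rw [← one_def]; exact Commute.one_right a
  have h2 : redG M K (E * j) = redG M K j := by
    rw [(hEc j).eq, map_mul, hE]
    exact hjb
  have e1 := phi_eq_of_red hM η hj (hone j) (g := 1) rfl
  have e2 := phi_eq_of_red hM η h1 (hone _) (g := 1) h2
  rw [← one_def, mul_one] at e1 e2
  rw [evC_charL, ← e1, e2, ← evC_charL, hE, evC_mul_bIdem hb, if_neg hη]

/-- The value of a member at an idempotent is an integer. -/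
theorem exists_int_evC (hM : IsPModular p M) [Fact p.Prime] (η : IrrCharacter K) (hj : j * j = j) :
    ∃ z : ℤ, evC (η : K → ℂ) j = (z : ℂ) := by
  haveI := Fintype.ofFinite K
  haveI := Fintype.ofFinite (⊥ : Subgroup K)
  have h := isGen_phi hM η (⊥ : Subgroup K) (e := redG M K j) (by rw [← map_mul, hj])
    (isInv_iff_commute.mpr fun q hq => by
      rw [Subgroup.mem_bot.mp hq, ← one_def]; exact Commute.one_right _)
  obtain ⟨z, hz⟩ := CT.isGen_inner_int h (CT.isGen_of_isIrr (CT.trivIrr (⊥ : Subgroup K)).2)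
  refine ⟨z, ?_⟩
  rw [← hz, classInner, Nat.card_eq_fintype_card, Fintype.card_unique, Fintype.sum_unique]
  have e1 := phi_eq_of_red hM η hj (g := 1) (by rw [← one_def]; exact Commute.one_right j) rfl
  rw [← one_def, mul_one, ← evC_charL] at e1
  simp [← e1, CT.trivIrr, Subgroup.mem_bot.mp (default : (⊥ : Subgroup K)).2]

/-- The factor of the translate of a class function at the block. -/
noncomputable def dVal [Fintype K] (b : Set (IrrCharacter K)) (ψ : K → ℂ) (z : K) : ℂ :=
  ∑ η : IrrCharacter K, open Classical in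
    if η ∈ b then (CT.mult ψ (η : K → ℂ) : ℂ) * ((η : K → ℂ) z / (η : K → ℂ) 1) else 0

theorem scal_spec {z : K} (hz : z ∈ Subgroup.center K) (η : IrrCharacter K) (c : K) :
    (η : K → ℂ) (z * c) = (η : K → ℂ) z / (η : K → ℂ) 1 * (η : K → ℂ) c := by
  obtain ⟨ω, hω⟩ := exists_scalar_central η hz
  have h1 := hω 1
  rw [mul_one] at h1
  rw [hω, h1, mul_div_assoc, div_self (CT.irr_one_ne_zero η.2), mul_one]

theorem conj_dVal [Fintype K] (ψ : K → ℂ) (z : K) :
    conj (dVal b ψ z) = dVal b ψ z⁻¹ := by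
  classical
  rw [dVal, dVal, map_sum]
  refine Finset.sum_congr rfl fun η _ => ?_
  split_ifs
  · rw [map_mul, map_div₀, map_natCast, ← CT.char_inv_eq_conj (CT.isCharacter_of_isIrr η.2),
      ← CT.char_inv_eq_conj (CT.isCharacter_of_isIrr η.2), inv_one]
  · rw [map_zero]

theorem dVal_mem_closure [Fintype K] (ψ : K → ℂ) {z : K} (hz : z ∈ Subgroup.center K) {n : ℕ}
    (hn : z ^ n = 1) : dVal b ψ z ∈ Subring.closure {w : ℂ | w ^ n = 1} := by
  classical
  refine Subring.sum_mem _ fun η _ => ?_
  split_ifs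
  · refine Subring.mul_mem _ (natCast_mem _ _) (Subring.subset_closure ?_)
    exact scalar_pow_eq_one η (fun c => scal_spec hz η c) hn
  · exact Subring.zero_mem _

/-- The translate of a character at an idempotent of the block. -/
theorem evC_translate (hM : IsPModular p M) [Fact p.Prime] [Fintype K] (hb : IsPBlock M b)
    (hall : ∀ η ∈ b, ∀ y, ¬ p ∣ orderOf y → (η : K → ℂ) y = (ξ : K → ℂ) y)
    {ψ : K → ℂ} (hψ : IsCharacter K ψ) {z : K} (hz : z ∈ Subgroup.center K) (hj : j * j = j)
    (hjb : redG M K j * (bBar M b : MonoidAlgebra (Res M) K) = redG M K j) :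
    evC ψ (j * single z 1) = dVal b ψ z * evC (ξ : K → ℂ) j := by
  classical
  have hexp : (fun u => ψ (u * z)) = fun u => ∑ η : IrrCharacter K,
      (CT.mult ψ (η : K → ℂ) : ℂ) * ((η : K → ℂ) z / (η : K → ℂ) 1) * (η : K → ℂ) u := by
    funext u
    conv_lhs => rw [CT.character_eq_sum hψ]
    rw [Finset.sum_apply]
    refine Finset.sum_congr rfl fun η _ => ?_
    rw [Pi.smul_apply, smul_eq_mul, Subgroup.mem_center_iff.mp hz u, scal_spec hz η u, mul_assoc]
  rw [evC_mul_single, hexp, evC_finsum, dVal, Finset.sum_mul]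
  refine Finset.sum_congr rfl fun η _ => ?_
  split_ifs with h
  · rw [evC_congr hM (hall η h) hj]
  · rw [evC_eq_zero_of_notMem hM hb hj hjb h, mul_zero, zero_mul]

/-- The block part of the translate of a character. -/
theorem evC_bIdem_translate (hM : IsPModular p M) [Fact p.Prime] [Fintype K] (hb : IsPBlock M b)
    (hall : ∀ η ∈ b, ∀ y, ¬ p ∣ orderOf y → (η : K → ℂ) y = (ξ : K → ℂ) y)
    {ψ : K → ℂ} (hψ : IsCharacter K ψ) {z : K} (hz : z ∈ Subgroup.center K) {y : K}
    (hy : ¬ p ∣ orderOf y) :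
    evC ψ ((bIdem M b : MonoidAlgebra (Loc M) K) * single (z * y) 1) =
      dVal b ψ z * (ξ : K → ℂ) y := by
  classical
  have hexp : ψ = fun u => ∑ η : IrrCharacter K, (CT.mult ψ (η : K → ℂ) : ℂ) * (η : K → ℂ) u := by
    funext u
    conv_lhs => rw [CT.character_eq_sum hψ]
    rw [Finset.sum_apply]
    rfl
  rw [hexp, evC_finsum, ← hexp, dVal, Finset.sum_mul]
  refine Finset.sum_congr rfl fun η _ => ?_
  rw [evC_mul_bIdem hb]
  split_ifs with h
  · rw [evC, toC_single, ev_single, one_mul, scal_spec hz η y, hall η h y hy]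
    ring
  · rw [mul_zero, zero_mul]

/-- The squares of the values of all characters at an idempotent of the block. -/
theorem sum_evC_sq (hM : IsPModular p M) [Fact p.Prime] [Fintype K] (hb : IsPBlock M b)
    (hall : ∀ η ∈ b, ∀ y, ¬ p ∣ orderOf y → (η : K → ℂ) y = (ξ : K → ℂ) y) (hj : j * j = j)
    (hjb : redG M K j * (bBar M b : MonoidAlgebra (Res M) K) = redG M K j) :
    ∑ η : IrrCharacter K, evC (η : K → ℂ) j * evC (η : K → ℂ) j =
      (Nat.card b : ℂ) * (evC (ξ : K → ℂ) j * evC (ξ : K → ℂ) j) := by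
  classical
  rw [Nat.card_coe_set_eq, Set.ncard_eq_toFinset_card b (Set.toFinite b), ← nsmul_eq_mul,
    ← Finset.sum_const, Finset.sum_subset (Finset.subset_univ _) (f := fun η : IrrCharacter K =>
      evC (η : K → ℂ) j * evC (η : K → ℂ) j) ?_ |>.symm]
  · refine Finset.sum_congr rfl fun η h => ?_
    rw [evC_congr hM (hall η ((Set.Finite.mem_toFinset _).mp h)) hj]
  · intro η _ h
    rw [evC_eq_zero_of_notMem hM hb hj hjb (fun h' => h ((Set.Finite.mem_toFinset _).mpr h')),
      mul_zero]

/-- A pairing of class functions vanishing on pairs of regular elements vanishes at idempotents. -/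
theorem double_vanish (hM : IsPModular p M) [Fact p.Prime] [Fintype K] (F : K → K → ℂ)
    (hint : ∀ a c, F a c ∈ Loc M) (h1 : ∀ a c t, F (t * a * t⁻¹) c = F a c)
    (h2 : ∀ a c t, F a (t * c * t⁻¹) = F a c)
    (hreg : ∀ a c, ¬ p ∣ orderOf a → ¬ p ∣ orderOf c → F a c = 0) (hj : j * j = j) :
    ∑ a, ∑ c, ((j.coeff a : Loc M) : ℂ) * ((j.coeff c : Loc M) : ℂ) * F a c = 0 := by
  classical
  obtain ⟨T, hT⟩ : ∃ T : K → Loc M, T = fun a => ∑ c, j.coeff c * ⟨F a c, hint a c⟩ := ⟨_, rfl⟩
  have hT0 : ev T j = 0 := by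
    refine ev_eq_zero_of_regular hM (fun a t => ?_) (fun a ha => ?_) hj
    · simp only [hT, h1]
    · have h := ev_eq_zero_of_regular hM (T := fun c => (⟨F a c, hint a c⟩ : Loc M))
        (fun c t => Subtype.ext (h2 a c t)) (fun c hc => Subtype.ext (hreg a c ha hc)) hj
      rw [ev_eq_sum] at h
      rw [hT]
      exact h
  have h := congrArg (fun x : Loc M => (x : ℂ)) hT0
  simp only [ev_eq_sum, hT, AddSubmonoidClass.coe_finsetSum, MulMemClass.coe_mul,
    ZeroMemClass.coe_zero, Finset.mul_sum] at h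
  refine Eq.trans ?_ h
  exact Finset.sum_congr rfl fun a _ => Finset.sum_congr rfl fun c _ => by ring

end Cfsg.Agent.FreeStar
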