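import Cfsg.Agent.Lib.FreeStar.Sign
import Cfsg.Agent.Lib.Blocks.HomocyclicMain
import Mathlib.RingTheory.RootsOfUnity.Minpoly

/-!
# The normalised sign

Modulo `p`, or modulo four when `p` is two, the normalised sign of an integer prime to `p` is
determined by congruences; for `p` equal to two the congruence class of a rational generalized
character is a linear character of exponent two.
-/

namespace Cfsg.Agent.FreeStar

open Blocks
open scoped ComplexConjugate

universe u

set_option linter.unusedSectionVars false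

variable {A : Type u} [CommGroup A] [Fintype A] {p n : ℕ}

/-- The normalised sign of `a` against the unit `r`. -/
def nz (p : ℕ) (r a : ℤ) : ℤ :=
  if p = 2 then (if a % 4 = 1 then a else -a) else if (p : ℤ) ∣ a - r then a else -a

theorem nz_cases (p : ℕ) (r a : ℤ) : nz p r a = a ∨ nz p r a = -a := by
  unfold nz; split_ifs <;> simp

/-- The values of a rational generalized character are constant on generators. -/
theorem int_pow_eq (hp : p.Prime) (hA : Nat.card A = p ^ n) {F : A → ℂ}
    (hF : IsGeneralizedCharacter A F) {a : A → ℤ} (hFa : ∀ x, F x = (a x : ℂ)) (x : A) {k : ℕ}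
    (hk : ¬ p ∣ k) : a (x ^ k) = a x := by
  obtain ⟨m, hm⟩ := exists_expansion hF
  haveI : NeZero (p ^ n) := ⟨pow_ne_zero _ hp.ne_zero⟩
  obtain ⟨ζ, hζ⟩ : ∃ ζ : ℂ, IsPrimitiveRoot ζ (p ^ n) :=
    ⟨_, Complex.isPrimitiveRoot_exp _ (pow_ne_zero _ hp.ne_zero)⟩
  choose ω hω hi using fun η : IrrCharacter A => irr_value η x
  choose e he hee using fun η => hζ.eq_pow_of_pow_eq_one (hA ▸ hω η)
  obtain ⟨P, hP⟩ : ∃ P : Polynomial ℤ, P = (∑ η : IrrCharacter A,
      Polynomial.C (m η * (charDegree (η : A → ℂ) : ℤ)) * Polynomial.X ^ e η) -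
        Polynomial.C (a x) := ⟨_, rfl⟩
  have hev : ∀ i : ℕ, Polynomial.aeval (ζ ^ i) P = F (x ^ i) - (a x : ℂ) := fun i => by
    simp only [hP, map_sub, map_sum, map_mul, Polynomial.aeval_C, Polynomial.aeval_X_pow,
      algebraMap_int_eq, Int.coe_castRingHom, hm (x ^ i)]
    congr 1
    refine Finset.sum_congr rfl fun η _ => ?_
    rw [hi η i, charDegree_cast, ← hee η, pow_right_comm]
    push_cast
    ring
  have h1 : Polynomial.aeval (ζ ^ 1) P = 0 := by rw [hev, pow_one, hFa, sub_self]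
  rw [pow_one] at h1
  have hint : IsIntegral ℤ ζ := hζ.isIntegral (NeZero.pos _)
  obtain ⟨Q, hQ⟩ := minpoly.isIntegrallyClosed_dvd hint h1
  have h2 : Polynomial.aeval (ζ ^ k) P = 0 := by
    rw [hQ, map_mul, hζ.minpoly_eq_pow_coprime
      (((Nat.Prime.coprime_iff_not_dvd hp).mpr hk).symm.pow_right n), minpoly.aeval, zero_mul]
  rw [hev, hFa, sub_eq_zero] at h2
  exact_mod_cast h2

/-- Evaluation of a root of unity at its rational part. -/
noncomputable def gval (ω : ℂˣ) : ℤ := open Classical in if ω = 1 then 1 else if ω = -1 then -1 else 0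

theorem sum_units_pow {j : ℕ} {q : ℕ} (hq : q = 2 ^ j) (hj : j ≠ 0) (ω : ℂˣ) (hω : ω ^ q = 1) :
    ∑ a ∈ (Finset.range q).filter (fun a => ¬ 2 ∣ a), (ω : ℂ) ^ a =
      ((Finset.range q).filter (fun a => ¬ 2 ∣ a)).card * (gval ω : ℂ) := by
  classical
  unfold gval
  split_ifs with h1 h2
  · simp [h1]
  · rw [Finset.sum_congr rfl fun a ha => show (ω : ℂ) ^ a = -1 by
      rw [h2, Units.val_neg, Units.val_one, Odd.neg_one_pow]
      rw [Nat.odd_iff]
      have := (Finset.mem_filter.mp ha).2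
      omega, Finset.sum_const, nsmul_eq_mul]
    simp
  · obtain ⟨k, rfl⟩ := Nat.exists_eq_succ_of_ne_zero hj
    have hset : (Finset.range q).filter (fun a => ¬ 2 ∣ a) =
        (Finset.range (2 ^ k)).image (fun b => 2 * b + 1) := by
      ext a
      simp only [Finset.mem_filter, Finset.mem_range, Finset.mem_image, hq, pow_succ]
      constructor
      · rintro ⟨ha, hodd⟩
        exact ⟨a / 2, by omega, by omega⟩
      · rintro ⟨b, hb, rfl⟩
        exact ⟨by omega, by omega⟩
    rw [hset, Finset.sum_image fun b _ b' _ e => by simpa using e,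
      Finset.sum_congr rfl fun b _ => show (ω : ℂ) ^ (2 * b + 1) = (ω : ℂ) * ((ω : ℂ) ^ 2) ^ b by
        rw [pow_succ', pow_mul]]
    have hne : (ω : ℂ) ^ 2 ≠ 1 := fun h => by
      rcases sq_eq_one_iff.mp h with h' | h'
      · exact h1 (Units.ext (by simpa using h'))
      · exact h2 (Units.ext (by simpa using h'))
    rw [← Finset.mul_sum, geom_sum_eq hne]
    have : ((ω : ℂ) ^ 2) ^ 2 ^ k = 1 := by
      rw [← pow_mul, ← Units.val_pow_eq_pow_val, show 2 * 2 ^ k = q by rw [hq, pow_succ'],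
        hω, Units.val_one]
    rw [this]
    simp

/-- A rational generalized character of an abelian two-group has a vanishing second difference
modulo four. -/
theorem four_dvd (hn : n ≠ 0) (hA : Nat.card A = 2 ^ n) {F : A → ℂ}
    (hF : IsGeneralizedCharacter A F) {a : A → ℤ} (hFa : ∀ x, F x = (a x : ℂ)) (x y : A) :
    (4 : ℤ) ∣ a (x * y) - a x - a y + a 1 := by
  classical
  haveI := Fintype.ofFinite (A →* ℂˣ)
  choose c hc using fun l : A →* ℂˣ => CT.isGen_inner_int hF (isGen_lin l)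
  have hexp : ∀ z, F z = ∑ l : A →* ℂˣ, (c l : ℂ) * (l z : ℂ) := fun z => by
    simp only [← hc, classInner, Finset.sum_mul, mul_assoc]
    rw [← Finset.mul_sum, Finset.sum_comm,
      Finset.sum_congr rfl fun w _ => show ∑ l : A →* ℂˣ, F w * (conj (l w : ℂ) * (l z : ℂ)) =
        F w * ∑ l : A →* ℂˣ, (l (w⁻¹ * z) : ℂ) by
          rw [Finset.mul_sum]
          exact Finset.sum_congr rfl fun l _ => by rw [HC.conj_hom, map_mul, Units.val_mul],
      Finset.sum_eq_single z]
    · rw [HC.sum_dual, if_pos (inv_mul_cancel z), Nat.card_eq_fintype_card, mul_comm (F z),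
        ← mul_assoc, inv_mul_cancel₀ (Nat.cast_ne_zero.mpr Fintype.card_ne_zero), one_mul]
    · intro w _ hw
      rw [HC.sum_dual, if_neg (fun h => hw (inv_mul_eq_one.mp h)), mul_zero]
    · exact fun h => absurd (Finset.mem_univ _) h
  have hpow : ∀ (l : A →* ℂˣ) (k : ℕ), ¬ 2 ∣ k → c (l ^ k) = c l := by
    intro l k hk
    have hb : Function.Bijective fun z : A => z ^ k := (powCoprime (G := A) (n := k)
      (by rw [hA]; exact ((Nat.Prime.coprime_iff_not_dvd Nat.prime_two).mpr hk).pow_left n)).bijective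
    have : (c (l ^ k) : ℂ) = (c l : ℂ) := by
      rw [← hc, ← hc, classInner, classInner]
      refine congrArg _ (Fintype.sum_bijective _ hb _ _ fun z => ?_)
      rw [hFa, hFa, int_pow_eq Nat.prime_two hA hF hFa z hk]
      simp [map_pow]
    exact_mod_cast this
  have hlq : ∀ (l : A →* ℂˣ) (z : A), l z ^ (2 ^ n) = 1 := fun l z => by
    rw [← map_pow, ← hA, pow_card_eq_one', map_one]
  have hval : ∀ z, a z = ∑ l : A →* ℂˣ, c l * gval (l z) := by
    intro z
    obtain ⟨S, hS⟩ : ∃ S, S = (Finset.range (2 ^ n)).filter fun k => ¬ 2 ∣ k := ⟨_, rfl⟩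
    have hS0 : (S.card : ℂ) ≠ 0 := Nat.cast_ne_zero.mpr (Finset.card_ne_zero.mpr ⟨1, by
      rw [hS, Finset.mem_filter, Finset.mem_range]
      exact ⟨Nat.one_lt_pow hn (by norm_num), by norm_num⟩⟩)
    have h : (S.card : ℂ) * (a z : ℂ) = (S.card : ℂ) * ((∑ l, c l * gval (l z) : ℤ) : ℂ) := by
      rw [← nsmul_eq_mul, ← Finset.sum_const]
      rw [Finset.sum_congr rfl fun k hk => show (a z : ℂ) = ∑ l : A →* ℂˣ, (c l : ℂ) * (l z : ℂ) ^ k by
        rw [hS, Finset.mem_filter] at hk
        rw [← int_pow_eq Nat.prime_two hA hF hFa z hk.2, ← hFa, hexp]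
        simp [map_pow], Finset.sum_comm]
      push_cast
      rw [Finset.mul_sum]
      refine Finset.sum_congr rfl fun l _ => ?_
      rw [← Finset.mul_sum, hS, sum_units_pow rfl hn _ (hlq l z)]
      ring
    exact_mod_cast mul_left_cancel₀ hS0 h
  obtain ⟨τ, hτ⟩ : ∃ τ : (A →* ℂˣ) → ℤ, τ = fun l =>
      gval (l (x * y)) - gval (l x) - gval (l y) + gval (l 1) := ⟨_, rfl⟩
  rw [hval, hval, hval, hval, ← Finset.sum_sub_distrib, ← Finset.sum_sub_distrib,
    ← Finset.sum_add_distrib, Finset.sum_congr rfl fun l _ => show c l * gval (l (x * y)) -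
      c l * gval (l x) - c l * gval (l y) + c l * gval (l 1) = c l * τ l by rw [hτ]; ring]
  have hdual : ∀ l : A →* ℂˣ, l ^ (2 ^ n) = 1 := fun l => MonoidHom.ext fun z => by
    rw [MonoidHom.pow_apply, hlq, MonoidHom.one_apply]
  letI : MulAction (ZMod (2 ^ n))ˣ (A →* ℂˣ) :=
    { smul := fun t l => l ^ (t : ZMod (2 ^ n)).val
      one_smul := fun l => MonoidHom.ext fun z => by
        show (l ^ (1 : ZMod (2 ^ n)).val) z = l z
        haveI : Fact (1 < 2 ^ n) := ⟨Nat.one_lt_pow hn (by norm_num)⟩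
        rw [ZMod.val_one, MonoidHom.pow_apply, pow_one]
      mul_smul := fun t t' l => MonoidHom.ext fun z => by
        show (l ^ ((t * t' : (ZMod (2 ^ n))ˣ) : ZMod (2 ^ n)).val) z =
          ((l ^ (t' : ZMod (2 ^ n)).val) ^ (t : ZMod (2 ^ n)).val) z
        simp only [MonoidHom.pow_apply]
        rw [← pow_mul, mul_comm (t' : ZMod (2 ^ n)).val, Units.val_mul, ZMod.val_mul,
          ← pow_mod_orderOf (l z) (_ % _), Nat.mod_mod_of_dvd _ (orderOf_dvd_of_pow_eq_one (hlq l z)),
          pow_mod_orderOf] }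
  have hunit : ∀ t : (ZMod (2 ^ n))ˣ, ¬ 2 ∣ (t : ZMod (2 ^ n)).val := fun t h => by
    have h2 := Nat.Coprime.coprime_dvd_left h (ZMod.val_coe_unit_coprime t)
    rw [Nat.coprime_pow_right_iff (Nat.pos_of_ne_zero hn)] at h2
    norm_num at h2
  have hg : ∀ (w : ℂˣ) (k : ℕ), ¬ 2 ∣ k → w ^ (2 ^ n) = 1 → gval (w ^ k) = gval w := by
    intro w k hk hw
    have hodd : Odd k := Nat.odd_iff.mpr (by omega)
    have hinj : ∀ w' : ℂˣ, w' ^ (2 ^ n) = 1 → w ^ k = w' ^ k → w = w' := by
      intro w' hw' he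
      have h1 : (w / w') ^ k = 1 := by rw [div_pow, he, div_self']
      have h2 : (w / w') ^ (2 ^ n) = 1 := by rw [div_pow, hw, hw', div_one]
      have h3 : orderOf (w / w') = 1 := Nat.eq_one_of_dvd_coprimes
        ((Nat.Prime.coprime_iff_not_dvd Nat.prime_two).mpr hk |>.pow_left n)
        (orderOf_dvd_of_pow_eq_one h2) (orderOf_dvd_of_pow_eq_one h1)
      exact div_eq_one.mp (orderOf_eq_one_iff.mp h3)
    unfold gval
    by_cases h1 : w = 1
    · simp [h1]
    by_cases h2 : w = -1
    · simp [h2, hodd.neg_one_pow]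
    rw [if_neg h1, if_neg h2, if_neg, if_neg]
    · intro h
      exact h2 (hinj (-1) (by rw [neg_one_pow_eq_one_iff_even (by
        intro e; exact absurd (congrArg Units.val e) (by norm_num))]; exact
          (Nat.even_pow.mpr ⟨even_two, hn⟩)) (by rw [h, hodd.neg_one_pow]))
    · intro h
      exact h1 (hinj 1 (one_pow _) (by rw [h, one_pow]))
  have hN : IsPGroup 2 (ZMod (2 ^ n))ˣ := IsPGroup.of_card (n := n - 1) (by
    rw [Nat.card_eq_fintype_card, ZMod.card_units_eq_totient,
      Nat.totient_prime_pow Nat.prime_two (Nat.pos_of_ne_zero hn)]; simp)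
  haveI : Fact (Nat.Prime 2) := ⟨Nat.prime_two⟩
  have hone : ∀ l : A →* ℂˣ, l ^ 1 = l := fun l => MonoidHom.ext fun z => by
    rw [MonoidHom.pow_apply, pow_one]
  have hneg : (-1 : ℂˣ) ≠ 1 := fun h => by
    have := congrArg Units.val h
    norm_num at this
  have hsmall : ∀ l : A →* ℂˣ, (∀ z, l z ^ 2 = 1) → (4 : ℤ) ∣ τ l := by
    intro l h2
    have h2' : ∀ z, l z = 1 ∨ l z = -1 := fun z => by
      have h' := congrArg Units.val (h2 z)
      rw [Units.val_pow_eq_pow_val, Units.val_one] at h'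
      rcases sq_eq_one_iff.mp h' with e | e
      · exact Or.inl (Units.ext (by simpa using e))
      · exact Or.inr (Units.ext (by simpa using e))
    rw [hτ]
    simp only [map_one, map_mul]
    rcases h2' x with ex | ex <;> rcases h2' y with ey | ey <;> simp [ex, ey, gval, hneg]
  have heven : ∀ l : A →* ℂˣ, (∀ z, l z ^ 4 = 1) → (2 : ℤ) ∣ τ l := by
    intro l hl4
    have hpar : ∀ w : ℂˣ, (gval w % 2 = if w ^ 2 = 1 then 1 else 0) := by
      intro w
      unfold gval
      by_cases e : w ^ 2 = 1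
      · rw [if_pos e]
        have e' := congrArg Units.val e
        rw [Units.val_pow_eq_pow_val, Units.val_one] at e'
        rcases sq_eq_one_iff.mp e' with a | a
        · rw [if_pos (Units.ext (by simpa using a))]; norm_num
        · rw [show w = -1 from Units.ext (by simpa using a), if_neg hneg, if_pos rfl]; norm_num
      · rw [if_neg e, if_neg (fun h => e (by rw [h, one_pow])),
          if_neg (fun h => e (by rw [h, neg_one_sq]))]; norm_num
    have hsq : ∀ z, (l z) ^ 2 ≠ 1 → (l z) ^ 2 = -1 := fun z hz => by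
      have h := congrArg Units.val (hl4 z)
      rw [show 4 = 2 * 2 by norm_num, pow_mul, Units.val_pow_eq_pow_val, Units.val_one] at h
      rcases sq_eq_one_iff.mp h with e | e
      · exact absurd (Units.ext (by simpa using e)) hz
      · exact Units.ext (by simpa using e)
    have p1 := hpar (l (x * y))
    have p2 := hpar (l x)
    have p3 := hpar (l y)
    have p4 := hpar (l 1)
    rw [map_one, one_pow, if_pos rfl] at p4
    rw [hτ]
    simp only [map_one]
    rw [map_mul, mul_pow] at p1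
    by_cases ex : (l x) ^ 2 = 1 <;> by_cases ey : (l y) ^ 2 = 1 <;>
      simp only [map_mul, ex, ey, if_true, if_false, one_mul, mul_one] at p1 p2 p3 ⊢
    · omega
    · omega
    · omega
    · rw [hsq x ex, hsq y ey, neg_mul_neg, one_mul, if_pos rfl] at p1
      omega
  obtain ⟨F₁, hF₁⟩ : ∃ F₁ : (A →* ℂˣ) → ℤ, F₁ = fun l =>
      if l ^ 4 = 1 then c l * (τ l / 2) else 0 := ⟨_, rfl⟩
  obtain ⟨F₂, hF₂⟩ : ∃ F₂ : (A →* ℂˣ) → ℤ, F₂ = fun l =>
      if l ^ 4 = 1 then 0 else c l * τ l := ⟨_, rfl⟩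
  have hap : ∀ l : A →* ℂˣ, l ^ 4 = 1 → ∀ z, l z ^ 4 = 1 := fun l h z => by
    rw [← MonoidHom.pow_apply, h, MonoidHom.one_apply]
  rw [Finset.sum_congr rfl fun l _ => show c l * τ l = 2 * F₁ l + F₂ l by
    simp only [hF₁, hF₂]
    by_cases h : l ^ 4 = 1
    · rw [if_pos h, if_pos h, add_zero, mul_left_comm, Int.mul_ediv_cancel' (heven l (hap l h))]
    · rw [if_neg h, if_neg h, mul_zero, zero_add], Finset.sum_add_distrib, ← Finset.mul_sum]
  have hsmul : ∀ (t : (ZMod (2 ^ n))ˣ) (l : A →* ℂˣ), τ (t • l) = τ l ∧ c (t • l) = c l ∧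
      ((t • l) ^ 4 = 1 ↔ l ^ 4 = 1) := by
    intro t l
    refine ⟨?_, hpow l _ (hunit t), ?_, ?_⟩
    · show τ (l ^ (t : ZMod (2 ^ n)).val) = τ l
      rw [hτ]
      simp only [MonoidHom.pow_apply, hg _ _ (hunit t) (hlq l _)]
    · intro h
      refine MonoidHom.ext fun z => ?_
      have h1 : ((l ^ (t : ZMod (2 ^ n)).val) ^ 4) z = 1 := by
        rw [show l ^ (t : ZMod (2 ^ n)).val = t • l from rfl, h]; rfl
      simp only [MonoidHom.pow_apply, ← pow_mul] at h1 ⊢
      rw [mul_comm, pow_mul] at h1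
      refine orderOf_eq_one_iff.mp (Nat.eq_one_of_dvd_coprimes
        (((Nat.Prime.coprime_iff_not_dvd Nat.prime_two).mpr (hunit t)).pow_left n)
        (orderOf_dvd_of_pow_eq_one (by rw [← pow_mul, mul_comm, pow_mul, hlq l z, one_pow]))
        (orderOf_dvd_of_pow_eq_one h1))
    · intro h
      refine MonoidHom.ext fun z => ?_
      show ((l ^ (t : ZMod (2 ^ n)).val) ^ 4) z = 1
      simp only [MonoidHom.pow_apply]
      rw [← pow_mul, mul_comm, pow_mul, hap l h z, one_pow]
  have hmem : ∀ (l : A →* ℂˣ) (k : ℕ), ¬ 2 ∣ k → l ^ k ∈ MulAction.orbit (ZMod (2 ^ n))ˣ l := by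
    intro l k hk
    refine ⟨ZMod.unitOfCoprime k
      (((Nat.Prime.coprime_iff_not_dvd Nat.prime_two).mpr hk).symm.pow_right n), ?_⟩
    refine MonoidHom.ext fun z => ?_
    show (l ^ ((ZMod.unitOfCoprime k _ : (ZMod (2 ^ n))ˣ) : ZMod (2 ^ n)).val) z = (l ^ k) z
    simp only [MonoidHom.pow_apply]
    rw [ZMod.coe_unitOfCoprime, ZMod.val_natCast, ← pow_mod_orderOf (l z) (_ % _),
      Nat.mod_mod_of_dvd _ (orderOf_dvd_of_pow_eq_one (hlq l z)), pow_mod_orderOf]
  have hlow : ∀ (l : A →* ℂˣ) (i k : ℕ), i ≤ k → l ^ i = l ^ k → ∀ z, l z ^ (k - i) = 1 := by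
    intro l i k hik h z
    have h' := DFunLike.congr_fun h z
    simp only [MonoidHom.pow_apply] at h'
    have e := pow_mul_pow_sub (l z) hik
    rw [← h'] at e
    exact mul_eq_left.mp e
  refine dvd_add (mul_dvd_mul (dvd_refl (2 : ℤ)) (?_ : (2 : ℤ) ∣ _)) ?_
  · rw [show (2 : ℤ) = ((2 : ℕ) : ℤ) from rfl]
    refine dvd_sum_of_orbits (H := (ZMod (2 ^ n))ˣ) _ (fun t l => ?_) 2 fun l => ?_
    · simp only [hF₁, (hsmul t l).1, (hsmul t l).2.1, (hsmul t l).2.2]
    · by_cases h : l ^ 3 = l
      · left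
        simp only [hF₁]
        split_ifs
        · refine Dvd.dvd.mul_left ?_ _
          obtain ⟨k, hk⟩ := hsmall l (hlow l 1 3 (by norm_num) (by rw [hone]; exact h.symm))
          exact ⟨k, by push_cast; omega⟩
        · exact dvd_zero _
      · right
        obtain ⟨j, hj⟩ := hN.card_orbit (a := l)
        rw [hj]
        refine dvd_pow_self 2 fun h0 => h ?_
        rw [h0, pow_zero, Nat.card_coe_set_eq, Set.ncard_eq_one] at hj
        obtain ⟨w, hw⟩ := hj
        have h1 := hmem l 3 (by norm_num)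
        have h2 := MulAction.mem_orbit_self (M := (ZMod (2 ^ n))ˣ) l
        rw [hw, Set.mem_singleton_iff] at h1 h2
        rw [h1, ← h2]
  · rw [show (4 : ℤ) = ((4 : ℕ) : ℤ) from rfl]
    refine dvd_sum_of_orbits (H := (ZMod (2 ^ n))ˣ) _ (fun t l => ?_) 4 fun l => ?_
    · simp only [hF₂, (hsmul t l).1, (hsmul t l).2.1, (hsmul t l).2.2]
    · by_cases h : l ^ 4 = 1
      · left
        simp only [hF₂, if_pos h]
        exact dvd_zero _
      · right
        obtain ⟨j, hj⟩ := hN.card_orbit (a := l)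
        rw [hj]
        rcases Nat.lt_or_ge j 2 with hj2 | hj2
        swap
        · rw [show (4 : ℕ) = 2 ^ 2 by norm_num]; exact pow_dvd_pow 2 hj2
        exfalso
        have d1 : l ≠ l ^ 3 := fun e => h (MonoidHom.ext fun z => by
          rw [MonoidHom.pow_apply, show 4 = 2 * 2 by norm_num, pow_mul,
            hlow l 1 3 (by norm_num) (by rw [hone]; exact e) z, one_pow, MonoidHom.one_apply])
        have d2 : l ≠ l ^ 5 := fun e => h (MonoidHom.ext fun z => by
          rw [MonoidHom.pow_apply, MonoidHom.one_apply]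
          exact hlow l 1 5 (by norm_num) (by rw [hone]; exact e) z)
        have d3 : l ^ 3 ≠ l ^ 5 := fun e => h (MonoidHom.ext fun z => by
          rw [MonoidHom.pow_apply, show 4 = 2 * 2 by norm_num, pow_mul,
            hlow l 3 5 (by norm_num) e z, one_pow, MonoidHom.one_apply])
        have hfin := Set.toFinite (MulAction.orbit (ZMod (2 ^ n))ˣ l)
        have hcard : (({l, l ^ 3, l ^ 5} : Finset (A →* ℂˣ))).card ≤ 2 ^ j := by
          rw [← hj, Nat.card_coe_set_eq, Set.ncard_eq_toFinset_card _ hfin]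
          refine Finset.card_le_card fun z hz => ?_
          simp only [Finset.mem_insert, Finset.mem_singleton] at hz
          rw [Set.Finite.mem_toFinset]
          rcases hz with rfl | rfl | rfl
          · exact MulAction.mem_orbit_self _
          · exact hmem l 3 (by norm_num)
          · exact hmem l 5 (by norm_num)
        rw [Finset.card_eq_three.mpr ⟨_, _, _, d1, d2, d3, rfl⟩] at hcard
        have := Nat.pow_le_pow_right (show 0 < 2 by norm_num) (show j ≤ 1 by omega)
        omega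

/-- A signed version of a generalized character with rational absolute values. -/
theorem exists_signed (hp : p.Prime) (hn : n ≠ 0) (hA : Nat.card A = p ^ n) {f d : A → ℂ}
    (hf : IsGeneralizedCharacter A f) {m : A → ℤ} (hfm : ∀ x, f x = (m x : ℂ) * d x)
    (hd : ∀ x, IsIntegral ℤ (d x)) (hd1 : ∀ x, d x * conj (d x) = 1)
    (hm : ∀ x, ¬ (p : ℤ) ∣ m x) (hm0 : d 1 = 1)
    (hrat : ∀ (x : A) (a : ℕ), ¬ p ∣ a → m (x ^ a) = m x) {r : ℤ} (hr : ¬ (p : ℤ) ∣ r)
    (hr2 : (p : ℤ) ∣ m 1 ^ 2 - r ^ 2) :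
    ∃ F : A → ℂ, IsGeneralizedCharacter A F ∧ ∀ x, F x = (nz p r (m x) : ℂ) := by
  classical
  obtain ⟨F, s, hF, hs, hs1, hFs⟩ := exists_real hp hn hA hf hfm hd hd1 hm hm0 hrat
  obtain ⟨c, hc, hc1⟩ : ∃ c : ℤ, (c = 1 ∨ c = -1) ∧ c * nz p r (m 1) = m 1 := by
    rcases nz_cases p r (m 1) with h | h
    · exact ⟨1, Or.inl rfl, by rw [h, one_mul]⟩
    · exact ⟨-1, Or.inr rfl, by rw [h]; ring⟩
  rcases eq_or_ne p 2 with h2 | h2
  · subst h2
    have hodd : ∀ x, (s x * m x) % 2 = 1 := fun x => by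
      have := hm x
      rcases hs x with h | h <;> rw [h] <;> push_cast at this <;> omega
    have hfour := four_dvd hn hA hF hFs
    obtain ⟨σ, hσ⟩ : ∃ σ : A → ℤ, σ = fun x =>
        if (4 : ℤ) ∣ s x * m x - s 1 * m 1 then 1 else -1 := ⟨_, rfl⟩
    have hσm : ∀ x y, σ (x * y) = σ x * σ y := fun x y => by
      have h4 := hfour x y
      have := hodd x
      have := hodd y
      have := hodd 1
      have := hodd (x * y)
      simp only [hσ]
      split_ifs <;> omega
    have hσ1 : σ 1 = 1 := by simp [hσ]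
    obtain ⟨l, hl⟩ : ∃ l : A →* ℂˣ, ∀ x, ((l x : ℂˣ) : ℂ) = (σ x : ℂ) :=
      ⟨MonoidHom.toHomUnits
        { toFun := fun x => (σ x : ℂ), map_one' := by simp [hσ1],
          map_mul' := fun x y => by rw [hσm]; push_cast; rfl }, fun x => rfl⟩
    refine ⟨fun x => (c : ℂ) * (F x * (l x : ℂ)),
      CT.isGen_zsmul c (CT.isGen_mul hF (isGen_lin l)), fun x => ?_⟩
    show (c : ℂ) * (F x * ((l x : ℂˣ) : ℂ)) = _
    rw [hl, hFs]
    have key : c * (s x * m x * σ x) = nz 2 r (m x) := by
      have ho := hodd x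
      have ho1 := hodd 1
      have e : σ x = if (4 : ℤ) ∣ s x * m x - s 1 * m 1 then 1 else -1 := by rw [hσ]
      rw [hs1, one_mul] at ho1 e
      rw [e]
      unfold nz at hc1 ⊢
      rw [if_pos rfl] at hc1 ⊢
      rcases hs x with h | h <;> rw [h] at ho ⊢ <;> rcases hc with rfl | rfl <;>
        split_ifs at hc1 ⊢ <;> omega
    rw [← key]
    push_cast
    ring
  · refine ⟨fun x => (c : ℂ) * F x, CT.isGen_zsmul c hF, fun x => ?_⟩
    show (c : ℂ) * F x = _
    rw [hFs]
    have hd' := dvd_sub_of_int hp hA hF (hFs x) (hFs 1)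
    rw [hs1, one_mul] at hd'
    have key : c * (s x * m x) = nz p r (m x) := by
      haveI := Fact.mk hp
      have hP := Nat.prime_iff_prime_int.mp hp
      have hdiv : (p : ℤ) ∣ m 1 - r ∨ (p : ℤ) ∣ m 1 + r := by
        rw [show m 1 ^ 2 - r ^ 2 = (m 1 - r) * (m 1 + r) by ring] at hr2
        exact hP.dvd_mul.mp hr2
      have hnot : ∀ z : ℤ, (p : ℤ) ∣ z - r → ¬ (p : ℤ) ∣ -z - r := fun z a b => by
        have h := dvd_add a b
        rw [show (z - r) + (-z - r) = -(2 * r) by ring, dvd_neg] at h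
        rcases hP.dvd_mul.mp h with e | e
        · rcases (Nat.prime_dvd_prime_iff_eq hp Nat.prime_two).mp (by exact_mod_cast e) with rfl
          exact h2 rfl
        · exact hr e
      have huniq : ∀ v : ℤ, (v = m x ∨ v = -m x) → (p : ℤ) ∣ v - r → v = nz p r (m x) := by
        intro v hv hvr
        unfold nz
        rw [if_neg h2]
        rcases hv with rfl | rfl
        · rw [if_pos hvr]
        · rw [if_neg fun h => hnot _ h hvr]
      have hn1 : (p : ℤ) ∣ c * m 1 - r := by
        unfold nz at hc1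
        rw [if_neg h2] at hc1
        by_cases h : (p : ℤ) ∣ m 1 - r
        · rw [if_pos h] at hc1
          have h' : c = 1 := by
            rcases hc with rfl | rfl
            · rfl
            · exact absurd (by omega : m 1 = 0) fun e => hm 1 (by rw [e]; exact dvd_zero _)
          rw [h', one_mul]; exact h
        · rw [if_neg h] at hc1
          have h' : c = -1 := by
            rcases hc with rfl | rfl
            · exact absurd (by omega : m 1 = 0) fun e => hm 1 (by rw [e]; exact dvd_zero _)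
            · rfl
          have hplus := hdiv.resolve_left h
          rw [h', show -1 * m 1 - r = -(m 1 + r) by ring, dvd_neg]
          exact hplus
      refine huniq _ ?_ ?_
      · rcases hs x with h | h <;> rcases hc with rfl | rfl <;> rw [h] <;> simp
      · have h := dvd_add (hd'.mul_left c) hn1
        rwa [show c * (s x * m x - m 1) + (c * m 1 - r) = c * (s x * m x) - r by ring] at h
    rw [← key]
    push_cast
    ring

end Cfsg.Agent.FreeStar
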