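import Cfsg.Agent.Lib.FreeStar.Setting
import Cfsg.Agent.Lib.FreeStar.Norm

/-!
# Passing from a subgroup of the defect group to one more element

The values at the invariant idempotent of the members of the block below `R` form generalized
characters of the defect group whose absolute values at `v` are the rank at `R ⟨v⟩`.
-/

namespace Cfsg.Agent.FreeStar

open MonoidAlgebra BPairs Blocks
open scoped ComplexConjugate

universe u

set_option linter.unusedSectionVars false

theorem evC_map {K H : Type u} [Group K] [Group H] {M : Ideal AlgInt} [M.IsPrime] (ι : K →* H)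
    (f : H → ℂ) (a : MonoidAlgebra (Loc M) K) :
    evC f (mapDomainRingHom (Loc M) ι a) = evC (fun k => f (ι k)) a := by
  induction a using MonoidAlgebra.induction_linear with
  | zero => simp [evC]
  | add x y hx hy =>
    simp only [evC, map_add, ev_add] at hx hy ⊢
    rw [hx, hy]
  | single k r => simp [evC, toC]

theorem coeff_map_of_inclusion {G : Type u} [Group G] {K H : Subgroup G} (h : K ≤ H) {R : Type*}
    [CommRing R] (a : MonoidAlgebra R K) (k : K) :
    (mapDomainRingHom R (Subgroup.inclusion h) a).coeff ⟨(k : G), h k.2⟩ = a.coeff k :=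
  Finsupp.mapDomain_apply (Subgroup.inclusion_injective h) a.coeff k

/-- The sum over a subgroup of column orthogonality below a central element. -/
theorem column_below {H : Type u} [Group H] [Fintype H] {K : Type u} [Group K] [Fintype K] {p : ℕ}
    [Fact p.Prime] (ι : K →* H) (hι : Function.Injective ι) (z : K) (hz : z ∈ Subgroup.center K)
    (hzp : ∃ k : ℕ, z ^ p ^ k = 1) (hK : ∀ h : H, Commute h (ι z) → h ∈ ι.range) {a c : K}
    (ha : ¬ p ∣ orderOf a) (hc : ¬ p ∣ orderOf c) :
    ∑ η : IrrCharacter H, (η : H → ℂ) (ι (a * z)) * (η : H → ℂ) (ι (c * z⁻¹)) =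
      ∑ η : IrrCharacter K, (η : K → ℂ) a * (η : K → ℂ) c := by
  classical
  obtain ⟨k, hk⟩ := hzp
  have hzp' : ∃ k : ℕ, ι z ^ p ^ k = 1 := ⟨k, by rw [← map_pow, hk, map_one]⟩
  have hcomm : ∀ b : K, Commute (ι z) (ι b) := fun b =>
    (Commute.map (show Commute z b from (Subgroup.mem_center_iff.mp hz b).symm) ι)
  have horde : ∀ b : K, ¬ p ∣ orderOf b → ¬ p ∣ orderOf (ι b) := fun b hb => by
    rwa [orderOf_injective ι hι]
  have hc' : ¬ p ∣ orderOf c⁻¹ := by rwa [orderOf_inv]
  have hpp : ∀ b : K, ¬ p ∣ orderOf b → IsPPart p (ι (z * b)) (ι z) := fun b hb => by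
    rw [map_mul]
    exact isPPart_mk (hcomm b) hzp' (horde b hb)
  have e1 : ∀ η : IrrCharacter H, (η : H → ℂ) (ι (a * z)) * (η : H → ℂ) (ι (c * z⁻¹)) =
      (η : H → ℂ) (ι (z * a)) * conj ((η : H → ℂ) (ι (z * c⁻¹))) := fun η => by
    rw [← CT.char_inv_eq_conj (CT.isCharacter_of_isIrr η.2), ← map_inv, mul_inv_rev, inv_inv,
      Subgroup.mem_center_iff.mp hz a]
  have e2 : ∀ η : IrrCharacter K, (η : K → ℂ) a * (η : K → ℂ) c =
      (η : K → ℂ) a * conj ((η : K → ℂ) c⁻¹) := fun η => by
    rw [← CT.char_inv_eq_conj (CT.isCharacter_of_isIrr η.2), inv_inv]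
  rw [Finset.sum_congr rfl fun η _ => e1 η, Finset.sum_congr rfl fun η _ => e2 η,
    CT.column_orthogonality, CT.column_orthogonality]
  have hiff : IsConj (ι (z * a)) (ι (z * c⁻¹)) ↔ IsConj a c⁻¹ := by
    constructor
    · intro h
      obtain ⟨t, ht⟩ := isConj_iff.mp h
      have hfix : t * ι z * t⁻¹ = ι z := by
        have h1 := ppart_conj (hpp a ha) t
        rw [ht] at h1
        exact ppart_unique h1 (hpp c⁻¹ hc')
      have hct : Commute t (ι z) := by
        show t * ι z = ι z * t
        conv_rhs => rw [← hfix]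
        group
      obtain ⟨s, rfl⟩ := hK t hct
      rw [← map_inv, ← map_mul, ← map_mul] at ht
      have h2 := hι ht
      refine isConj_iff.mpr ⟨s, mul_left_cancel (a := z) ?_⟩
      rw [← h2, ← mul_assoc z, ← mul_assoc z, Subgroup.mem_center_iff.mp hz s |>.symm]
      group
    · intro h
      obtain ⟨s, hs⟩ := isConj_iff.mp h
      refine isConj_iff.mpr ⟨ι s, ?_⟩
      rw [← map_inv, ← map_mul, ← map_mul, ← hs, ← mul_assoc s z a,
        Subgroup.mem_center_iff.mp hz s]
      congr 1
      group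
  by_cases h : IsConj a c⁻¹
  · rw [if_pos (hiff.mpr h), if_pos h]
    congr 1
    have hset : Subgroup.centralizer ({ι (z * a)} : Set H) =
        (Subgroup.centralizer ({a} : Set K)).map ι := by
      rw [map_mul, centralizer_mul_eq (p := p) (hcomm a) hzp' (horde a ha)]
      ext t
      constructor
      · intro hmem
        obtain ⟨h1, h2⟩ := Subgroup.mem_inf.mp hmem
        rw [Subgroup.mem_centralizer_singleton_iff] at h1 h2
        obtain ⟨s, rfl⟩ := hK t h1
        refine ⟨s, Subgroup.mem_centralizer_singleton_iff.mpr (hι ?_), rfl⟩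
        rw [map_mul, map_mul]; exact h2
      · rintro ⟨s, hs, rfl⟩
        rw [SetLike.mem_coe, Subgroup.mem_centralizer_singleton_iff] at hs
        refine Subgroup.mem_inf.mpr ⟨?_, ?_⟩ <;> rw [Subgroup.mem_centralizer_singleton_iff,
          ← map_mul, ← map_mul]
        · rw [Subgroup.mem_center_iff.mp hz s]
        · rw [hs]
    rw [hset, Subgroup.card_map_of_injective hι]
  · rw [if_neg (mt hiff.mp h), if_neg h]

/-- Column orthogonality below a central element, at an idempotent. -/
theorem sum_pair_idem {H : Type u} [Group H] [Fintype H] {K : Type u} [Group K] [Fintype K] {p : ℕ}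
    [Fact p.Prime] {M : Ideal AlgInt} [M.IsPrime] (hM : IsPModular p M) (ι : K →* H)
    (hι : Function.Injective ι) (z : K) (hz : z ∈ Subgroup.center K)
    (hzp : ∃ k : ℕ, z ^ p ^ k = 1) (hK : ∀ h : H, Commute h (ι z) → h ∈ ι.range)
    {j : MonoidAlgebra (Loc M) K} (hj : j * j = j) :
    ∑ η : IrrCharacter H, evC (fun k => (η : H → ℂ) (ι (k * z))) j *
        evC (fun k => (η : H → ℂ) (ι (k * z⁻¹))) j =
      ∑ η : IrrCharacter K, evC (η : K → ℂ) j * evC (η : K → ℂ) j := by
  classical
  obtain ⟨F, hF⟩ : ∃ F : K → K → ℂ, F = fun a c =>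
      (∑ η : IrrCharacter H, (η : H → ℂ) (ι (a * z)) * (η : H → ℂ) (ι (c * z⁻¹))) -
        ∑ η' : IrrCharacter K, (η' : K → ℂ) a * (η' : K → ℂ) c := ⟨_, rfl⟩
  have hcl : ∀ (η : IrrCharacter H) (w : K), w ∈ Subgroup.center K → ∀ a t : K,
      (η : H → ℂ) (ι (t * a * t⁻¹ * w)) = (η : H → ℂ) (ι (a * w)) := by
    intro η w hw a t
    rw [mul_assoc (t * a), Subgroup.mem_center_iff.mp hw t⁻¹, ← mul_assoc, mul_assoc t a w,
      map_mul, map_mul, map_inv]
    exact isClassFn_irr η _ _
  have hvanish := double_vanish hM (j := j) F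
    (fun a c => by
      rw [hF]
      exact integral_mem_loc ((IsIntegral.sum _ fun η _ =>
        (isIntegral_irr η.2 _).mul (isIntegral_irr η.2 _)).sub (IsIntegral.sum _ fun η _ =>
        (isIntegral_irr η.2 _).mul (isIntegral_irr η.2 _))))
    (fun a c t => by
      simp only [hF, hcl _ z hz]
      simp only [isClassFn_irr _ a t])
    (fun a c t => by
      simp only [hF, hcl _ z⁻¹ (inv_mem hz)]
      simp only [isClassFn_irr _ c t])
    (fun a c ha hc => by
      rw [hF, sub_eq_zero]
      exact column_below (p := p) ι hι z hz hzp hK ha hc) hj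
  simp only [hF, mul_sub, Finset.sum_sub_distrib, sub_eq_zero] at hvanish
  simp only [Finset.mul_sum] at hvanish
  have expand : ∀ (f g : K → ℂ), evC f j * evC g j =
      ∑ a, ∑ c, ((j.coeff a : Loc M) : ℂ) * ((j.coeff c : Loc M) : ℂ) * (f a * g c) :=
    fun f g => by
      rw [evC_eq_sum, evC_eq_sum, Finset.sum_mul_sum]
      exact Finset.sum_congr rfl fun a _ => Finset.sum_congr rfl fun c _ => by ring
  simp only [expand]
  rw [Finset.sum_comm, Finset.sum_congr rfl fun a _ => Finset.sum_comm, hvanish]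
  conv_rhs => rw [Finset.sum_comm, Finset.sum_congr rfl fun a _ => Finset.sum_comm]

theorem mem_range_inclusion {G : Type u} [Group G] {R : Subgroup G} {v : G}
    (hKH : Subgroup.centralizer ((R ⊔ Subgroup.zpowers v : Subgroup G) : Set G) ≤
      Subgroup.centralizer (R : Set G))
    (h : Subgroup.centralizer (R : Set G)) (hh : Commute (h : G) v) :
    ∃ k : Subgroup.centralizer ((R ⊔ Subgroup.zpowers v : Subgroup G) : Set G),
      Subgroup.inclusion hKH k = h := by
  have hmem : (h : G) ∈ Subgroup.centralizer ((R ⊔ Subgroup.zpowers v : Subgroup G) : Set G) := by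
    refine Subgroup.mem_centralizer_iff.mpr fun x hx => ?_
    have hle : R ⊔ Subgroup.zpowers v ≤ Subgroup.centralizer ({(h : G)} : Set G) := by
      refine sup_le (fun r hr => ?_) (Subgroup.zpowers_le.mpr ?_)
      · exact Subgroup.mem_centralizer_singleton_iff.mpr
          (Subgroup.mem_centralizer_iff.mp h.2 r hr)
      · exact Subgroup.mem_centralizer_singleton_iff.mpr hh.eq.symm
    exact Subgroup.mem_centralizer_singleton_iff.mp (hle hx)
  exact ⟨⟨(h : G), hmem⟩, Subtype.ext rfl⟩

namespace Free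

variable {p : ℕ} [hp : Fact p.Prime] {M : Ideal AlgInt} [M.IsPrime] {G : Type u} [Group G]
  [Finite G] (D : Free p M G)

/-- The subgroup generated by `R` and `v`. -/
abbrev step (R : Subgroup G) (v : D.P) : Subgroup G := R ⊔ Subgroup.zpowers (v : G)

theorem step_le {R : Subgroup G} (hR : R ≤ D.P) (v : D.P) : D.step R v ≤ D.P :=
  sup_le hR (Subgroup.zpowers_le.mpr v.2)

theorem cent_step_le (R : Subgroup G) (v : D.P) :
    Subgroup.centralizer (D.step R v : Set G) ≤ Subgroup.centralizer (R : Set G) :=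
  Subgroup.centralizer_le (le_sup_left : R ≤ D.step R v)

theorem step_one (R : Subgroup G) : D.step R 1 = R := by
  simp [step]

theorem step_ne_bot {R : Subgroup G} (hR1 : R ≠ ⊥) (v : D.P) : D.step R v ≠ ⊥ :=
  fun h => hR1 (eq_bot_iff.mpr (h ▸ le_sup_left))

/-- The values of a member of a block of `C(R)` at the idempotent. -/
noncomputable def fval (R : Subgroup G) (η : IrrCharacter (Subgroup.centralizer (R : Set G)))
    (v : D.P) : ℂ :=
  open Classical in
  if h : R ≤ D.P then phi p η (⟨(v : G), D.le_cent h v.2⟩ : Subgroup.centralizer (R : Set G))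
    (D.jbar R)
  else 0

theorem isGen_fval {R : Subgroup G} (hR : R ≤ D.P)
    (η : IrrCharacter (Subgroup.centralizer (R : Set G))) :
    IsGeneralizedCharacter D.P (D.fval R η) := by
  have hgen := isGen_phi D.hM η (D.P.subgroupOf (Subgroup.centralizer (R : Set G)))
    (D.jbar_facts hR).1 (D.jbar_facts hR).2.2
  have h := CT.isGen_comp (Subgroup.subgroupOfEquivOfLe (D.le_cent hR)).symm.toMonoidHom hgen
  convert h using 1
  funext v
  rw [fval, dif_pos hR]
  rfl

theorem fval_eq_zero {R : Subgroup G} (hR : R ≤ D.P)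
    {η : IrrCharacter (Subgroup.centralizer (R : Set G))} (hη : η ∉ D.blk R) (v : D.P) :
    D.fval R η v = 0 := by
  classical
  haveI := Fintype.ofFinite (Subgroup.centralizer (R : Set G))
  obtain ⟨hj, hred, hinv⟩ := D.jlift_spec hR
  obtain ⟨hb, -⟩ := D.blk_spec hR
  obtain ⟨E, hE⟩ : ∃ E : MonoidAlgebra (Loc M) (Subgroup.centralizer (R : Set G)),
      E = (bIdem M (D.blk R) : MonoidAlgebra (Loc M) (Subgroup.centralizer (R : Set G))) := ⟨_, rfl⟩
  have hEc : ∀ z, Commute E z := fun z => hE ▸ (Subring.mem_center_iff.mp (bIdem M _).2 z).symm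
  have hEE : E * E = E := by rw [hE, ← Subring.coe_mul, bIdem_mul_self (blockCoeff_mem_loc hb)]
  have h1 : (E * D.jlift R) * (E * D.jlift R) = E * D.jlift R := by
    rw [mul_assoc, ← mul_assoc (D.jlift R), ← (hEc (D.jlift R)).eq,
      mul_assoc E (D.jlift R) (D.jlift R), hj, ← mul_assoc, hEE]
  have hcomm := isInv_iff_commute.mp hinv (⟨(v : G), D.le_cent hR v.2⟩ :
    Subgroup.centralizer (R : Set G)) (Subgroup.mem_subgroupOf.mpr v.2)
  have h2 : redG M _ (E * D.jlift R) = D.jbar R := by
    rw [(hEc (D.jlift R)).eq, map_mul, hE, hred]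
    exact (D.jbar_facts hR).2.1
  rw [fval, dif_pos hR, phi_eq_of_red D.hM η h1 ((hEc _).mul_left hcomm) h2, ← evC_charL, hE,
    mul_assoc, evC_mul_bIdem hb, if_neg hη]

/-- The factor of a member below `R` at `v`. -/
noncomputable def dR (R : Subgroup G) (η : IrrCharacter (Subgroup.centralizer (R : Set G)))
    (v : D.P) : ℂ :=
  open Classical in
  if h : R ≤ D.P then
    letI := Fintype.ofFinite (Subgroup.centralizer (D.step R v : Set G))
    dVal (D.blk (D.step R v))
      (fun k => (η : Subgroup.centralizer (R : Set G) → ℂ)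
        (Subgroup.inclusion (D.cent_step_le R v) k))
      ⟨(v : G), D.le_cent (D.step_le h v) v.2⟩
  else 0

theorem center_elt {R : Subgroup G} (hR : R ≤ D.P) (v : D.P) :
    (⟨(v : G), D.le_cent (D.step_le hR v) v.2⟩ :
      Subgroup.centralizer (D.step R v : Set G)) ∈ Subgroup.center _ :=
  Subgroup.mem_center_iff.mpr fun w => Subtype.ext
    (Subgroup.mem_centralizer_iff.mp w.2 (v : G)
      (Subgroup.mem_sup_right (Subgroup.mem_zpowers (v : G)))).symm

theorem pow_card_elt {R : Subgroup G} (hR : R ≤ D.P) (v : D.P) :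
    (⟨(v : G), D.le_cent (D.step_le hR v) v.2⟩ :
      Subgroup.centralizer (D.step R v : Set G)) ^ D.q = 1 := by
  apply Subtype.ext
  have h : (((v ^ Nat.card D.P : D.P)) : G) = 1 := by rw [pow_card_eq_one']; rfl
  rw [SubmonoidClass.coe_pow] at h
  rw [SubmonoidClass.coe_pow, OneMemClass.coe_one]
  exact h

/-- The element `v` in the centralizer of `R ⟨v⟩`. -/
def zel {R : Subgroup G} (hR : R ≤ D.P) (v : D.P) :
    Subgroup.centralizer (D.step R v : Set G) :=
  ⟨(v : G), D.le_cent (D.step_le hR v) v.2⟩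

theorem zel_center {R : Subgroup G} (hR : R ≤ D.P) (v : D.P) :
    D.zel hR v ∈ Subgroup.center _ := D.center_elt hR v

theorem zel_pow {R : Subgroup G} (hR : R ≤ D.P) (v : D.P) :
    ∃ k : ℕ, D.zel hR v ^ p ^ k = 1 := by
  obtain ⟨k, hk⟩ := exists_pow_eq_one_of_isPGroup D.hPp v.2
  exact ⟨k, Subtype.ext (by rw [SubmonoidClass.coe_pow, OneMemClass.coe_one]; exact hk)⟩

set_option maxHeartbeats 1000000 in
/-- The value as the value of a translate at the lift below. -/
theorem fval_evC {R : Subgroup G} (hR : R ≤ D.P)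
    (η : IrrCharacter (Subgroup.centralizer (R : Set G))) (v : D.P) :
    D.fval R η v = evC (fun k => (η : Subgroup.centralizer (R : Set G) → ℂ)
        (Subgroup.inclusion (D.cent_step_le R v) k))
      (D.jlift (D.step R v) * single (D.zel hR v) 1) := by
  classical
  haveI := Fintype.ofFinite (Subgroup.centralizer (R : Set G))
  have hS := D.step_le hR v
  have hKH := D.cent_step_le R v
  obtain ⟨hj, hred, -⟩ := D.jlift_spec hS
  obtain ⟨ε, hε⟩ : ∃ ε, ε = mapDomainRingHom (Loc M) (Subgroup.inclusion hKH)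
      (D.jlift (D.step R v)) := ⟨_, rfl⟩
  have hsingle : single (⟨(v : G), D.le_cent hR v.2⟩ : Subgroup.centralizer (R : Set G))
      (1 : Loc M) =
      mapDomainRingHom (Loc M) (Subgroup.inclusion hKH) (single (D.zel hR v) 1) := by
    rw [mapDomainRingHom_apply, mapDomain_single]
    rfl
  have hcomm : Commute (D.jlift (D.step R v)) (single (D.zel hR v) 1) := by
    rw [commute_single_iff]
    intro w
    congr 1
    rw [← Subgroup.mem_center_iff.mp (D.zel_center hR v) w, mul_inv_cancel_right]
  have hcong : ∀ w : Subgroup.centralizer (R : Set G),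
      Commute w (pPart p (⟨(v : G), D.le_cent hR v.2⟩ : Subgroup.centralizer (R : Set G))) →
      red M (ε.coeff w) = (D.jbar R).coeff w := by
    intro w hw
    have hvp : ∃ k : ℕ,
        (⟨(v : G), D.le_cent hR v.2⟩ : Subgroup.centralizer (R : Set G)) ^ p ^ k = 1 := by
      obtain ⟨k, hk⟩ := exists_pow_eq_one_of_isPGroup D.hPp v.2
      exact ⟨k, Subtype.ext (by rw [SubmonoidClass.coe_pow, OneMemClass.coe_one]; exact hk)⟩
    rw [pPart_self hvp] at hw
    obtain ⟨k, rfl⟩ := mem_range_inclusion hKH w (congrArg Subtype.val hw.eq)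
    have hc := coeff_map_of_inclusion hKH (D.jlift (D.step R v)) k
    rw [show Subgroup.inclusion hKH k =
      (⟨(k : G), hKH k.2⟩ : Subgroup.centralizer (R : Set G)) from rfl, hε, hc,
      ← coeff_map', show redG M _ (D.jlift (D.step R v)) = D.jbar (D.step R v) from hred]
    simp only [jbar, coeff_resH]
  rw [fval, dif_pos hR, phi_eq D.hM η (ε := ε) (by rw [hε, ← map_mul, hj])
      (by rw [hε, hsingle]; exact hcomm.map _) hcong, ← evC_charL, hε, hsingle, ← map_mul,
    evC_map]

/-- The value at `v` through the block below `R ⟨v⟩`. -/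
theorem fval_eq {R : Subgroup G} (hR : R ≤ D.P) (hR1 : R ≠ ⊥)
    (η : IrrCharacter (Subgroup.centralizer (R : Set G))) (v : D.P) :
    D.fval R η v = D.dR R η v * (D.mS (D.step R v) : ℂ) := by
  letI := Fintype.ofFinite (Subgroup.centralizer (D.step R v : Set G))
  have hS := D.step_le hR v
  obtain ⟨hj, hred, -⟩ := D.jlift_spec hS
  obtain ⟨hcard, hxi, hall⟩ := D.xi_spec hS (D.step_ne_bot hR1 v)
  rw [D.fval_evC hR η v, evC_translate D.hM (D.blk_spec hS).1 hall
      (CT.isCharacter_comp _ (CT.isCharacter_of_isIrr η.2)) (D.zel_center hR v) hj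
      (by rw [hred]; exact (D.jbar_facts hS).2.1), D.mS_spec hS, dR, dif_pos hR]
  rfl

theorem dR_mem {R : Subgroup G} (hR : R ≤ D.P)
    (η : IrrCharacter (Subgroup.centralizer (R : Set G))) (v : D.P) :
    D.dR R η v ∈ Subring.closure {w : ℂ | w ^ D.q = 1} := by
  letI := Fintype.ofFinite (Subgroup.centralizer (D.step R v : Set G))
  rw [dR, dif_pos hR]
  exact dVal_mem_closure _ (D.center_elt hR v) (D.pow_card_elt hR v)

/-- The squared absolute values sum to those of the block below `R ⟨v⟩`. -/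
theorem sum_fval {R : Subgroup G} (hR : R ≤ D.P) (hR1 : R ≠ ⊥) (v : D.P)
    [Fintype (Subgroup.centralizer (R : Set G))] :
    ∑ η : IrrCharacter (Subgroup.centralizer (R : Set G)), D.fval R η v * conj (D.fval R η v) =
      (D.q : ℂ) * ((D.mS (D.step R v) : ℂ) * (D.mS (D.step R v) : ℂ)) := by
  classical
  letI := Fintype.ofFinite (Subgroup.centralizer (D.step R v : Set G))
  have hS := D.step_le hR v
  obtain ⟨hj, hred, -⟩ := D.jlift_spec hS
  obtain ⟨hcard, hxi, hall⟩ := D.xi_spec hS (D.step_ne_bot hR1 v)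
  have hjb : redG M _ (D.jlift (D.step R v)) * (bBar M (D.blk (D.step R v)) :
      MonoidAlgebra (Res M) (Subgroup.centralizer (D.step R v : Set G))) =
      redG M _ (D.jlift (D.step R v)) := by
    rw [hred]; exact (D.jbar_facts hS).2.1
  have hb := (D.blk_spec hS).1
  have hsq := sum_evC_sq D.hM hb hall hj hjb
  rw [hcard, D.mS_spec hS] at hsq
  rw [← hsq, ← sum_pair_idem D.hM (Subgroup.inclusion (D.cent_step_le R v))
    (Subgroup.inclusion_injective _) (D.zel hR v) (D.zel_center hR v) (D.zel_pow hR v)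
    (fun h hh => mem_range_inclusion (D.cent_step_le R v) h (congrArg Subtype.val hh.eq)) hj]
  refine Finset.sum_congr rfl fun η _ => ?_
  have hψ := CT.isCharacter_comp (Subgroup.inclusion (D.cent_step_le R v))
    (CT.isCharacter_of_isIrr η.2)
  congr 1
  · rw [D.fval_evC hR η v, evC_mul_single]
  · have t2 := evC_translate D.hM hb hall hψ (inv_mem (D.zel_center hR v)) hj hjb
    rw [evC_mul_single, D.mS_spec hS] at t2
    rw [D.fval_eq hR hR1 η v, map_mul, map_intCast, t2, dR, dif_pos hR, conj_dVal]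
    rfl

end Free

end Cfsg.Agent.FreeStar
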