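import Cfsg.Agent.Lib.FreeStar.Row
import Cfsg.Agent.Lib.Blocks.CycPerfectLocal

/-!
# Perfect isometries between blocks with free inertial action and signs as factors

When the factors at the nontrivial elements are signs, a signed bijection carrying the factors of
one block to those of the other is a perfect isometry.
-/

namespace Cfsg.Agent.FreeStar

open MonoidAlgebra BPairs Blocks CycPerf
open scoped ComplexConjugate

universe u w

set_option linter.unusedSectionVars false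

namespace Free

variable {p : ℕ} [hp : Fact p.Prime] {M : Ideal AlgInt} [M.IsPrime] {G : Type u} [Group G]
  [Finite G] (D : Free p M G)

/-- The factors are signs. -/
def SignDv : Prop := ∀ χ ∈ D.B, ∀ v : D.P, v ≠ 1 → D.dv χ v = 1 ∨ D.dv χ v = -1

variable {D}

theorem SignDv.sq (h : D.SignDv) {χ : IrrCharacter G} (hχ : χ ∈ D.B) {v : D.P} (hv : v ≠ 1) :
    D.dv χ v * D.dv χ v = 1 := by
  rcases h χ hχ v hv with e | e <;> simp [e]

theorem SignDv.real (h : D.SignDv) {χ : IrrCharacter G} (hχ : χ ∈ D.B) {v : D.P} (hv : v ≠ 1) :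
    conj (D.dv χ v) = D.dv χ v := by
  rcases h χ hχ v hv with e | e <;> simp [e]

theorem SignDv.mem_loc (h : D.SignDv) {χ : IrrCharacter G} (hχ : χ ∈ D.B) {v : D.P} (hv : v ≠ 1) :
    D.dv χ v ∈ Loc M := by
  rcases h χ hχ v hv with e | e <;> rw [e]
  · exact one_mem _
  · exact neg_mem (one_mem _)

variable (D)

/-- The form of the values at the singular elements. -/
theorem sing [Fintype G] (hs : D.SignDv) {x : G} (hx : p ∣ orderOf x) :
    ∃ (S : Finset (MonoidAlgebra (Res M) G)) (v : MonoidAlgebra (Res M) G → D.P)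
      (W : MonoidAlgebra (Res M) G → ℂ), (∀ a ∈ S, v a ≠ 1 ∧ W a ∈ Loc M ∧
        (D.q : ℂ) * W a / (Nat.card (Subgroup.centralizer ({x} : Set G)) : ℂ) ∈ Loc M) ∧
      ∀ χ ∈ D.B, (χ : G → ℂ) x = ∑ a ∈ S, D.dv χ (v a) * W a := by
  classical
  obtain ⟨y, hxy, hcom, hpow, hy⟩ := id (pPart_spec (p := p) x)
  obtain ⟨uu, huu⟩ : ∃ uu, uu = pPart p x := ⟨_, rfl⟩
  have hup : ∃ k : ℕ, uu ^ p ^ k = 1 := huu ▸ ppart_pow_eq_one (pPart_spec x)
  have hu1 : uu ≠ 1 := fun h => hy (by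
    rw [← huu, h, one_mul] at hxy
    rw [hxy]; exact hx)
  obtain ⟨χ₀, hχ₀, -⟩ := exists_height_zero (p := p) D.hB
  have key : ∀ a : MonoidAlgebra (Res M) G, ∃ w : D.P,
      a ∈ blkIdem M uu → InB M D.B uu a → w ≠ 1 ∧
        ∀ χ ∈ D.B, phi p χ x a = D.dv χ w * (D.dv χ₀ w * phi p χ₀ x a) := by
    intro a
    by_cases ha : a ∈ blkIdem M uu ∧ InB M D.B uu a
    swap
    · exact ⟨1, fun h1 h2 => absurd ⟨h1, h2⟩ ha⟩
    obtain ⟨g, hg⟩ := exists_belAt_of_inB D.hM D.hmax hup ha.1 ha.2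
    obtain ⟨w, hw⟩ : ∃ w : D.P, (w : G) = g * uu * g⁻¹ := ⟨⟨_, belAt_mem hg⟩, rfl⟩
    have hw1 : w ≠ 1 := fun h => hu1 (by
      rw [h, OneMemClass.coe_one, eq_comm, conj_eq_one_iff] at hw; exact hw)
    refine ⟨w, fun _ _ => ⟨hw1, fun χ hχ => ?_⟩⟩
    have hgy : g * y * g⁻¹ ∈ cz (w : G) := by
      rw [hw]
      refine mem_cz.mpr ?_
      have hcom' : Commute y uu := huu ▸ hcom.symm
      show g * y * g⁻¹ * (g * uu * g⁻¹) = g * uu * g⁻¹ * (g * y * g⁻¹)
      calc g * y * g⁻¹ * (g * uu * g⁻¹) = g * (y * uu) * g⁻¹ := by group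
        _ = g * (uu * y) * g⁻¹ := by rw [hcom'.eq]
        _ = _ := by group
    have hreg : ¬ p ∣ orderOf (⟨g * y * g⁻¹, hgy⟩ : cz (w : G)) := by
      rw [Subgroup.orderOf_mk, show g * y * g⁻¹ = MulAut.conj g y from rfl, MulEquiv.orderOf_eq]
      exact hy
    rw [← hw] at hg
    have hbel := belAt_unique D.hM D.hmax hg (D.belAt_blk w)
    have hval : ∀ θ : IrrCharacter G, phi p θ x a = D.dv θ w *
        (D.xi (D.zp w) : cz (w : G) → ℂ) ⟨g * y * g⁻¹, hgy⟩ := fun θ => by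
      have h1 : phi p θ (g * x * g⁻¹) (conjA g a) = phi p θ x a :=
        phi_conjA D.hM θ g (blkIdem_mul_self ha.1) (blk_commute (huu ▸ ha.1))
      rw [← h1, hbel, show g * x * g⁻¹ = (w : G) * ((⟨g * y * g⁻¹, hgy⟩ : cz (w : G)) : G) by
        show g * x * g⁻¹ = (w : G) * (g * y * g⁻¹)
        rw [hw]
        calc g * x * g⁻¹ = g * (uu * y) * g⁻¹ := by rw [huu, hxy]
          _ = _ := by group]
      exact D.phi_blk θ hw1 _ hreg
    rw [hval χ, hval χ₀]
    linear_combination (-(D.dv χ w * (D.xi (D.zp w) : cz (w : G) → ℂ) ⟨g * y * g⁻¹, hgy⟩)) *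
      hs.sq hχ₀ hw1
  choose v hv using key
  refine ⟨(blkIdem M uu).filter (fun a => InB M D.B uu a), v,
    fun a => D.dv χ₀ (v a) * phi p χ₀ x a, fun a ha => ?_, fun χ hχ => ?_⟩
  · obtain ⟨ha1, ha2⟩ := Finset.mem_filter.mp ha
    have hw1 := (hv a ha1 ha2).1
    refine ⟨hw1, mul_mem (hs.mem_loc hχ₀ hw1) (phi_mem_loc _ _ _), ?_⟩
    rw [show (D.q : ℂ) * (D.dv χ₀ (v a) * phi p χ₀ x a) /
        (Nat.card (Subgroup.centralizer ({x} : Set G)) : ℂ) = D.dv χ₀ (v a) *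
        ((D.q : ℂ) * phi p χ₀ x a / (Nat.card (Subgroup.centralizer ({x} : Set G)) : ℂ)) by ring,
      D.q_eq, Nat.cast_pow]
    exact mul_mem (hs.mem_loc hχ₀ hw1) (phi_div_centralizer D.hM D.hB hχ₀ (huu ▸ ha1))
  · rw [← sum_phi (M := M) (p := p) D.hM χ x, ← huu, Finset.sum_filter]
    refine Finset.sum_congr rfl fun a ha => ?_
    split_ifs with hi
    · exact (hv a ha hi).2 χ hχ
    · exact phi_eq_zero_of_not_inB D.hM D.hB hχ (huu ▸ ha) (huu ▸ hi)

/-- The values at a regular element are orthogonal to every column. -/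
theorem reg_orth [Fintype G] [Fintype D.P] [DecidableEq D.P] {x : D.P} (hx : x ≠ 1) {y : G}
    (hy : ¬ p ∣ orderOf y) : ∑ χ ∈ D.Bs, (χ : G → ℂ) y * D.dv χ x = 0 := by
  classical
  have hbf : ∀ χ ∈ D.Bs, ∑ χ' ∈ D.Bs, bfPair p χ χ' * (χ' : G → ℂ) y = (χ : G → ℂ) y := by
    intro χ hχ
    have hreg : regFun p χ y = (χ : G → ℂ) y := by simp [regFun, hy]
    have h1 := congrFun (CT.classFunction_eq_sum (regFun_class (p := p) χ)) y
    rw [hreg] at h1
    conv_rhs => rw [h1]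
    rw [Finset.sum_apply]
    simp only [Pi.smul_apply, smul_eq_mul]
    exact Finset.sum_subset (Finset.subset_univ _) fun η _ h => by
      show bfPair p χ η * _ = 0
      rw [bfPair_zero_of_mem D.hM D.hB (D.mem_Bs.mp hχ) (fun h' => h (D.mem_Bs.mpr h')), zero_mul]
  have hA : ∀ χ ∈ D.Bs, ∑ χ' ∈ D.Bs, D.compl χ χ' * conj ((χ' : G → ℂ) y) = 0 := fun χ hχ => by
    have h2 : ∑ χ' ∈ D.Bs, bfPair p χ χ' * conj ((χ' : G → ℂ) y) = conj ((χ : G → ℂ) y) := by
      rw [← hbf χ hχ, map_sum]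
      exact Finset.sum_congr rfl fun χ' _ => by rw [map_mul, conj_bfPair]
    rw [Finset.sum_congr rfl fun χ' h => by
        rw [D.compl_eq (D.mem_Bs.mp hχ) (D.mem_Bs.mp h), sub_mul],
      Finset.sum_sub_distrib, h2,
      Finset.sum_eq_single_of_mem χ hχ fun b _ hb => by rw [if_neg (Ne.symm hb), zero_mul],
      if_pos rfl, one_mul, sub_self]
  have h0 : ∑ v ∈ Finset.univ.erase (1 : D.P),
      Complex.normSq (∑ χ ∈ D.Bs, (χ : G → ℂ) y * D.dv χ v) = 0 := by
    apply Complex.ofReal_injective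
    push_cast
    have key : ∑ χ ∈ D.Bs, ∑ χ' ∈ D.Bs, (χ : G → ℂ) y * ((D.e : ℂ) * D.q * D.compl χ χ') *
        conj ((χ' : G → ℂ) y) = 0 := by
      refine Finset.sum_eq_zero fun χ hχ => ?_
      rw [← mul_eq_zero_of_right ((χ : G → ℂ) y * ((D.e : ℂ) * D.q)) (hA χ hχ), Finset.mul_sum]
      exact Finset.sum_congr rfl fun χ' _ => by ring
    rw [← key]
    simp only [compl, ← mul_assoc, mul_inv_cancel₀ D.eq_ne_zero, one_mul, Finset.mul_sum,
      Finset.sum_mul]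
    conv_rhs => rw [Finset.sum_congr rfl fun χ _ => Finset.sum_comm, Finset.sum_comm]
    refine Finset.sum_congr rfl fun v _ => ?_
    rw [← Complex.mul_conj, map_sum, Finset.sum_mul_sum]
    refine Finset.sum_congr rfl fun χ _ => Finset.sum_congr rfl fun χ' _ => ?_
    rw [map_mul]
    ring
  exact Complex.normSq_eq_zero.mp ((Finset.sum_eq_zero_iff_of_nonneg fun v _ =>
    Complex.normSq_nonneg _).mp h0 x (Finset.mem_erase.mpr ⟨hx, Finset.mem_univ _⟩))

end Free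

open Free in
open Classical in
/-- The criterion. -/
theorem perfect_of_dv {p : ℕ} [hp : Fact p.Prime] {M : Ideal AlgInt} [M.IsPrime] {G : Type u}
    [Group G] [Fintype G] {H : Type w} [Group H] [Fintype H] (D : Free p M G) (D' : Free p M H)
    (hs : D.SignDv) (hs' : D'.SignDv) (φ : D'.P ≃ D.P) (hφ : φ 1 = 1)
    {I : IrrCharacter H → IrrCharacter G} {σ : IrrCharacter H → ℤ} (hI : Set.BijOn I D'.B D.B)
    (hσ : ∀ η ∈ D'.B, σ η = 1 ∨ σ η = -1)
    (hrel : ∀ η ∈ D'.B, ∀ v : D'.P, v ≠ 1 → (σ η : ℂ) * D.dv (I η) (φ v) = D'.dv η v) :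
    IsPerfectIsometry p M D'.B D.B I σ := by
  haveI := Fintype.ofFinite D.P
  haveI := Fintype.ofFinite D'.P
  have hφ1 : ∀ v : D'.P, v ≠ 1 → φ v ≠ 1 := fun v hv h => hv (φ.injective (h.trans hφ.symm))
  have hφ2 : ∀ v : D.P, v ≠ 1 → φ.symm v ≠ 1 := fun v hv h => hv (by
    rw [← φ.apply_symm_apply v, h, hφ])
  have hσσ : ∀ η ∈ D'.B, (σ η : ℂ) * σ η = 1 := fun η hη => by
    rcases hσ η hη with h | h <;> simp [h]
  obtain ⟨μ, hμdef⟩ : ∃ μ, μ = signedBijectionKernel D'.B I σ := ⟨_, rfl⟩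
  have hμ : ∀ x y, μ x y = ∑ η ∈ D'.Bs, (σ η : ℂ) * (I η : G → ℂ) x * (η : H → ℂ) y :=
    fun x y => by
      rw [hμdef, signedBijectionKernel]
      exact finsum_mem_eq_finite_toFinset_sum _ (Set.toFinite D'.B)
  have hsumB : ∀ F : IrrCharacter G → ℂ, ∑ η ∈ D'.Bs, F (I η) = ∑ χ ∈ D.Bs, F χ := fun F =>
    Finset.sum_nbij I (fun η hη => D.mem_Bs.mpr (hI.mapsTo (D'.mem_Bs.mp hη)))
      (fun a ha b hb e => hI.injOn (D'.mem_Bs.mp ha) (D'.mem_Bs.mp hb) e)
      (fun χ hχ => by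
        obtain ⟨η, hη, e⟩ := hI.surjOn (D.mem_Bs.mp hχ)
        exact ⟨η, D'.mem_Bs.mpr hη, e⟩) fun _ _ => rfl
  have hcol : ∀ v w : D'.P, v ≠ 1 → w ≠ 1 →
      ∑ η ∈ D'.Bs, D'.dv η v * D'.dv η w = (D'.q : ℂ) ∨
        ∑ η ∈ D'.Bs, D'.dv η v * D'.dv η w = 0 := by
    intro v w hv hw
    have hpair : ∑ η ∈ D'.Bs, D'.dv η v * D'.dv η w = D'.colPair v w :=
      Finset.sum_congr rfl fun η h => by rw [hs'.real (D'.mem_Bs.mp h) hv]
    by_cases horb : ∃ τ ∈ D'.autE, τ v = w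
    · left
      obtain ⟨τ, hτ, rfl⟩ := horb
      rw [Finset.sum_congr rfl fun η _ => by rw [D'.dv_aut η hτ hv], ← D'.column_self' hv]
      exact Finset.sum_congr rfl fun η h => by rw [hs'.real (D'.mem_Bs.mp h) hv]
    · right
      push Not at horb
      rw [hpair, D'.colPair_eq_zero hv hw horb]
  have hqq : D.q = D'.q := (Nat.card_congr φ).symm
  have hmix1 : ∀ x y, p ∣ orderOf x → ¬ p ∣ orderOf y → μ x y = 0 := by
    intro x y hx hy
    obtain ⟨S, v, W, hW, hval⟩ := D.sing hs hx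
    rw [hμ, Finset.sum_congr rfl fun η hη => show (σ η : ℂ) * (I η : G → ℂ) x * (η : H → ℂ) y =
        ∑ a ∈ S, (η : H → ℂ) y * D'.dv η (φ.symm (v a)) * W a by
      rw [hval _ (hI.mapsTo (D'.mem_Bs.mp hη)), Finset.mul_sum, Finset.sum_mul]
      refine Finset.sum_congr rfl fun a ha => ?_
      rw [← hrel η (D'.mem_Bs.mp hη) _ (hφ2 _ (hW a ha).1), φ.apply_symm_apply]
      ring, Finset.sum_comm]
    refine Finset.sum_eq_zero fun a ha => ?_
    rw [← Finset.sum_mul, D'.reg_orth (hφ2 _ (hW a ha).1) hy, zero_mul]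
  have hmix2 : ∀ x y, ¬ p ∣ orderOf x → p ∣ orderOf y → μ x y = 0 := by
    intro x y hx hy
    obtain ⟨S, v, W, hW, hval⟩ := D'.sing hs' hy
    rw [hμ, Finset.sum_congr rfl fun η hη => show (σ η : ℂ) * (I η : G → ℂ) x * (η : H → ℂ) y =
        ∑ a ∈ S, (I η : G → ℂ) x * D.dv (I η) (φ (v a)) * W a by
      rw [hval _ (D'.mem_Bs.mp hη), Finset.mul_sum]
      refine Finset.sum_congr rfl fun a ha => ?_
      rw [← hrel η (D'.mem_Bs.mp hη) _ (hW a ha).1]
      linear_combination ((I η : G → ℂ) x * D.dv (I η) (φ (v a)) * W a) *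
        hσσ η (D'.mem_Bs.mp hη), Finset.sum_comm]
    refine Finset.sum_eq_zero fun a ha => ?_
    rw [← Finset.sum_mul, hsumB (fun χ => (χ : G → ℂ) x * D.dv χ (φ (v a))),
      D.reg_orth (hφ1 _ (hW a ha).1) hx, zero_mul]
  have hσL : ∀ η, (σ η : ℂ) ∈ Loc M := fun η => intCast_mem _ _
  refine ⟨hI, hσ, fun x y => ?_⟩
  simp only [← mem_loc_iff, ← hμdef, IsPRegular]
  by_cases hx : p ∣ orderOf x <;> by_cases hy : p ∣ orderOf y
  · obtain ⟨S, v, W, hW, hval⟩ := D.sing hs hx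
    obtain ⟨S', v', W', hW', hval'⟩ := D'.sing hs' hy
    have e : μ x y = ∑ a ∈ S, ∑ b ∈ S',
        W a * W' b * ∑ η ∈ D'.Bs, D'.dv η (φ.symm (v a)) * D'.dv η (v' b) := by
      rw [hμ, Finset.sum_congr rfl fun η hη => show (σ η : ℂ) * (I η : G → ℂ) x * (η : H → ℂ) y =
          ∑ a ∈ S, ∑ b ∈ S', W a * W' b * (D'.dv η (φ.symm (v a)) * D'.dv η (v' b)) by
        rw [hval _ (hI.mapsTo (D'.mem_Bs.mp hη)), hval' _ (D'.mem_Bs.mp hη), mul_assoc,
          Finset.sum_mul_sum, Finset.mul_sum]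
        refine Finset.sum_congr rfl fun a ha => ?_
        rw [Finset.mul_sum]
        refine Finset.sum_congr rfl fun b _ => ?_
        rw [← hrel η (D'.mem_Bs.mp hη) _ (hφ2 _ (hW a ha).1), φ.apply_symm_apply]
        ring, Finset.sum_comm]
      refine Finset.sum_congr rfl fun a _ => ?_
      rw [Finset.sum_comm]
      exact Finset.sum_congr rfl fun b _ => (Finset.mul_sum _ _ _).symm
    refine ⟨?_, ?_, Or.inl ⟨fun h => absurd hx h, fun h => absurd hy h⟩⟩
    · rw [e, Finset.sum_div]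
      refine sum_mem fun a ha => ?_
      rw [Finset.sum_div]
      refine sum_mem fun b hb => ?_
      rcases hcol _ _ (hφ2 _ (hW a ha).1) (hW' b hb).1 with h | h <;> rw [h]
      · rw [← hqq, show W a * W' b * (D.q : ℂ) /
            (Nat.card (Subgroup.centralizer ({x} : Set G)) : ℂ) = W' b * ((D.q : ℂ) * W a /
            (Nat.card (Subgroup.centralizer ({x} : Set G)) : ℂ)) by ring]
        exact mul_mem (hW' b hb).2.1 (hW a ha).2.2
      · rw [mul_zero, zero_div]; exact zero_mem _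
    · rw [e, Finset.sum_div]
      refine sum_mem fun a ha => ?_
      rw [Finset.sum_div]
      refine sum_mem fun b hb => ?_
      rcases hcol _ _ (hφ2 _ (hW a ha).1) (hW' b hb).1 with h | h <;> rw [h]
      · rw [show W a * W' b * (D'.q : ℂ) /
            (Nat.card (Subgroup.centralizer ({y} : Set H)) : ℂ) = W a * ((D'.q : ℂ) * W' b /
            (Nat.card (Subgroup.centralizer ({y} : Set H)) : ℂ)) by ring]
        exact mul_mem (hW a ha).2.1 (hW' b hb).2.2
      · rw [mul_zero, zero_div]; exact zero_mem _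
  · have h0 := hmix1 x y hx hy
    rw [h0, zero_div, zero_div]
    exact ⟨zero_mem _, zero_mem _, Or.inr rfl⟩
  · have h0 := hmix2 x y hx hy
    rw [h0, zero_div, zero_div]
    exact ⟨zero_mem _, zero_mem _, Or.inr rfl⟩
  · refine ⟨?_, ?_, Or.inl ⟨fun _ => hy, fun _ => hx⟩⟩
    · obtain ⟨c, hc⟩ : ∃ c : IrrCharacter G → ℂ, c = fun χ =>
          ∑ η ∈ D'.Bs.filter (fun η => I η = χ), (σ η : ℂ) * (η : H → ℂ) y := ⟨_, rfl⟩
      have hsum : ∀ v, ∑ χ, c χ * (χ : G → ℂ) v = μ v y := fun v => by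
        rw [hμ, ← Finset.sum_fiberwise D'.Bs I]
        refine Finset.sum_congr rfl fun χ _ => ?_
        simp only [hc, Finset.sum_mul]
        refine Finset.sum_congr rfl fun η hη => ?_
        rw [(Finset.mem_filter.mp hη).2]; ring
      rw [← hsum]
      exact div_centralizer_of_vanish D.hM c
        (fun χ => by
          rw [hc]; exact sum_mem fun η _ => mul_mem (hσL η) (irr_mem_loc η y))
        (fun v hv => by rw [hsum]; exact hmix1 v y hv hy) hx
    · obtain ⟨c, hc⟩ : ∃ c : IrrCharacter H → ℂ, c = fun η =>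
          if η ∈ D'.Bs then (σ η : ℂ) * (I η : G → ℂ) x else 0 := ⟨_, rfl⟩
      have hsum : ∀ v, ∑ η, c η * (η : H → ℂ) v = μ x v := fun v => by
        rw [hμ, ← Finset.sum_subset (Finset.subset_univ D'.Bs) fun η _ h => by
          simp only [hc, if_neg h, zero_mul]]
        exact Finset.sum_congr rfl fun η h => by simp only [hc, if_pos h]
      rw [← hsum]
      exact div_centralizer_of_vanish D.hM c
        (fun η => by
          rw [hc]; dsimp only
          split_ifs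
          · exact mul_mem (hσL η) (irr_mem_loc _ _)
          · exact zero_mem _)
        (fun v hv => by rw [hsum]; exact hmix2 x v hx hv) hy

end Cfsg.Agent.FreeStar
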