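import Cfsg.Agent.Lib.FreeStar.Column
import Cfsg.Agent.Lib.Blocks.AbelianTrace

/-!
# The rows of a block with free inertial action

The factors at the nontrivial elements of the defect group describe the complement of the
Brauer–Feit pairing in the identity matrix of the block.
-/

namespace Cfsg.Agent.FreeStar

open MonoidAlgebra BPairs Blocks
open scoped ComplexConjugate

universe u

set_option linter.unusedSectionVars false

namespace Free

variable {p : ℕ} [hp : Fact p.Prime] {M : Ideal AlgInt} [M.IsPrime] {G : Type u} [Group G]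
  [Finite G] (D : Free p M G)

/-- The order of the inertial quotient. -/
noncomputable def e : ℕ :=
  (Subgroup.centralizer (D.P : Set G)).relIndex (stabSub M D.P D.c)

/-- The action of the stabilizer of the pair on the defect group. -/
noncomputable def act : stabSub M D.P D.c →* MulAut D.P where
  toFun t :=
    { toFun := D.tw t
      invFun := D.tw t⁻¹
      left_inv := fun v => Subtype.ext (by simp only [tw]; push_cast; group)
      right_inv := fun v => Subtype.ext (by simp only [tw]; push_cast; group)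
      map_mul' := fun a b => Subtype.ext (by simp only [tw]; push_cast; group) }
  map_one' := MulEquiv.ext fun v => Subtype.ext (by
    show ((1 : stabSub M D.P D.c) : G) * (v : G) * ((1 : stabSub M D.P D.c) : G)⁻¹ = (v : G)
    simp)
  map_mul' s t := MulEquiv.ext fun v => Subtype.ext (by
    show ((s * t : stabSub M D.P D.c) : G) * (v : G) * ((s * t : stabSub M D.P D.c) : G)⁻¹ =
      (s : G) * ((t : G) * (v : G) * (t : G)⁻¹) * (s : G)⁻¹
    push_cast
    group)

/-- The inertial quotient as a group of automorphisms of the defect group. -/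
noncomputable def autE : Subgroup (MulAut D.P) := D.act.range

theorem act_ker :
    D.act.ker = (Subgroup.centralizer (D.P : Set G)).subgroupOf (stabSub M D.P D.c) := by
  ext t
  rw [Subgroup.mem_subgroupOf, MonoidHom.mem_ker]
  constructor
  · intro h
    rw [Subgroup.mem_centralizer_iff]
    intro x hx
    have h1 : (t : G) * x * (t : G)⁻¹ = x :=
      congrArg (fun σ : MulAut D.P => ((σ ⟨x, hx⟩ : D.P) : G)) h
    calc x * (t : G) = (t : G) * x * (t : G)⁻¹ * (t : G) := by rw [h1]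
      _ = (t : G) * x := by group
  · intro h
    refine MulEquiv.ext fun v => Subtype.ext ?_
    show (t : G) * (v : G) * (t : G)⁻¹ = (v : G)
    rw [← Subgroup.mem_centralizer_iff.mp h (v : G) v.2, mul_inv_cancel_right]

theorem card_autE : Nat.card D.autE = D.e := by
  rw [autE, ← Subgroup.index_ker, act_ker, e, Subgroup.relIndex]

theorem e_ne_zero : D.e ≠ 0 := by
  rw [← card_autE]; exact Nat.card_pos.ne'

theorem autE_free {σ : MulAut D.P} (hσ : σ ∈ D.autE) {x : D.P} (hx : x ≠ 1) (h : σ x = x) :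
    σ = 1 := by
  obtain ⟨t, rfl⟩ := hσ
  rw [← MonoidHom.mem_ker, act_ker, Subgroup.mem_subgroupOf]
  exact D.hfree (t : G) t.2 (x : G) x.2 (fun h' => hx (Subtype.ext h')) (congrArg Subtype.val h)

theorem dv_aut (χ : IrrCharacter G) {σ : MulAut D.P} (hσ : σ ∈ D.autE) {x : D.P} (hx : x ≠ 1) :
    D.dv χ (σ x) = D.dv χ x := by
  obtain ⟨t, rfl⟩ := hσ
  exact D.dv_conj χ t hx

theorem card_inf_cz {v : D.P} (hv : v ≠ 1) :
    stabSub M D.P D.c ⊓ cz (v : G) = Subgroup.centralizer (D.P : Set G) := by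
  refine le_antisymm (fun g hg => ?_) (le_inf (centralizer_le_stabSub (M := M) D.c) fun g hg => ?_)
  · obtain ⟨h1, h2⟩ := Subgroup.mem_inf.mp hg
    exact D.hfree g h1 (v : G) v.2 (fun h' => hv (Subtype.ext h'))
      (by rw [(mem_cz.mp h2).eq, mul_inv_cancel_right])
  · exact mem_cz.mpr (Subgroup.mem_centralizer_iff.mp hg (v : G) v.2).symm

theorem card_stab :
    Nat.card (stabSub M D.P D.c) = D.e * Nat.card (Subgroup.centralizer (D.P : Set G)) := by
  rw [← D.card_autE, autE,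
    ← Nat.card_congr (Subgroup.subgroupOfEquivOfLe (centralizer_le_stabSub (M := M) D.c)).toEquiv,
    ← D.act_ker, ← Subgroup.index_ker, Subgroup.index_mul_card]

theorem cross_conj (hM : IsPModular p M) (χ χ' : IrrCharacter G) (g x : G) {a : MonoidAlgebra (Res M) G}
    (ha : a ∈ blkIdem M x) :
    cross (p := p) χ χ' (g * x * g⁻¹) (conjA g a) = cross (p := p) χ χ' x a := by
  classical
  haveI := Fintype.ofFinite G
  rw [cross, cross, finsum_eq_sum_of_fintype, finsum_eq_sum_of_fintype]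
  refine (Fintype.sum_equiv (MulAut.conj g).toEquiv _ _ fun y => ?_).symm
  simp only [MulEquiv.toEquiv_eq_coe, EquivLike.coe_coe, MulAut.conj_apply, pPart_conj,
    mul_left_inj, mul_right_inj]
  by_cases h : pPart p y = x
  · rw [if_pos h, if_pos h, phi_conjA hM χ g (blkIdem_mul_self ha) (blk_commute (h ▸ ha)),
      phi_conjA hM χ' g (blkIdem_mul_self ha) (blk_commute (h ▸ ha))]
  · rw [if_neg h, if_neg h]

theorem cross_one [Fintype G] {χ χ' : IrrCharacter G} (hχ : χ ∈ D.B) (hχ' : χ' ∈ D.B) :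
    cross (p := p) χ χ' ((1 : D.P) : G) (bel M (cz ((1 : D.P) : G)) (D.blk (D.zp 1))) =
      (Nat.card G : ℂ) * bfPair p χ χ' := by
  classical
  have hz : ((1 : D.P) : G) ∈ Subgroup.center G := by simp [Subgroup.mem_center_iff]
  have hx := D.v_pow (1 : D.P)
  have htop : cz ((1 : D.P) : G) = ⊤ := eq_top_iff.mpr fun v _ =>
    mem_cz.mpr (Subgroup.mem_center_iff.mp hz v)
  obtain ⟨hfb, -⟩ := D.blk_spec (D.zp_le (1 : D.P))
  have ha := D.belAt_blk (1 : D.P)
  have hamem : bel M (cz ((1 : D.P) : G)) (D.blk (D.zp 1)) ∈ blkIdem M ((1 : D.P) : G) :=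
    mem_blkIdemS.mpr ⟨_, hfb, rfl⟩
  have hphi : ∀ θ ∈ D.B, ∀ g : G, pPart p g = ((1 : D.P) : G) →
      phi p θ g (bel M (cz ((1 : D.P) : G)) (D.blk (D.zp 1))) = (θ : G → ℂ) g := by
    intro θ hθ g hg
    have hamem' : bel M (cz ((1 : D.P) : G)) (D.blk (D.zp 1)) ∈ blkIdem M (pPart p g) := by
      rw [hg]; exact hamem
    rw [← sum_phi (M := M) (p := p) D.hM θ g]
    refine (Finset.sum_eq_single_of_mem _ hamem' fun a' ha' hne =>
      phi_eq_zero_of_not_inB D.hM D.hB hθ ha' fun hi => hne ?_).symm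
    rw [hg] at ha' hi
    obtain ⟨c, hc⟩ := exists_belAt_of_inB D.hM D.hmax hx ha' hi
    rw [show c * ((1 : D.P) : G) * c⁻¹ = ((1 : D.P) : G) by simp,
      isInv_iff_conjA.mp (blkIdem_isInv ha') c (htop ▸ Subgroup.mem_top c)] at hc
    exact belAt_unique D.hM D.hmax hc ha
  rw [cross, finsum_eq_sum_of_fintype, ← Finset.sum_filter,
    Finset.sum_congr rfl (g := fun g => (χ : G → ℂ) g * conj ((χ' : G → ℂ) g))
      fun g hg => by
        rw [hphi χ hχ g (Finset.mem_filter.mp hg).2, hphi χ' hχ' g (Finset.mem_filter.mp hg).2],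
    sum_fiber hx, ← sum_regFun_mul]
  refine Fintype.sum_equiv
    ((MulEquiv.subgroupCongr htop).trans Subgroup.topEquiv).toEquiv _ _ fun y => ?_
  show _ = regFun p χ (y : G) * conj (regFun p χ' (y : G))
  simp only [regFun, Subgroup.orderOf_coe]
  split_ifs with hy
  · simp
  · simp

/-- The row relation. -/
theorem row [Fintype G] [Fintype D.P] [DecidableEq D.P] {χ χ' : IrrCharacter G} (hχ : χ ∈ D.B)
    (hχ' : χ' ∈ D.B) [Decidable (χ = χ')] :
    (if χ = χ' then (1 : ℂ) else 0) = bfPair p χ χ' + ((D.e : ℂ) * (D.q : ℂ))⁻¹ *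
      ∑ v ∈ Finset.univ.erase (1 : D.P), D.dv χ v * conj (D.dv χ' v) := by
  classical
  obtain ⟨A, hA⟩ : ∃ A : D.P → MonoidAlgebra (Res M) G,
      A = fun (v : D.P) => bel M (cz (v : G)) (D.blk (D.zp v)) := ⟨_, rfl⟩
  have hA' : ∀ v : D.P, BelAt p M D.P D.c (v : G) (A v) := fun v => by
    rw [hA]; exact D.belAt_blk v
  obtain ⟨N, hN⟩ : ∃ N : G → MonoidAlgebra (Res M) G → ℕ, N = fun x a =>
      (Finset.univ.filter fun g : G =>
        BelAt p M D.P D.c (g * x * g⁻¹) (conjA g a)).card := ⟨_, rfl⟩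
  have hNconj : ∀ c x a, N (c * x * c⁻¹) (conjA c a) = N x a := fun c x a => by
    simp only [hN]
    refine Finset.card_equiv (Equiv.mulRight c) fun g => ?_
    simp only [Finset.mem_filter, Finset.mem_univ, true_and, Equiv.coe_mulRight, conjA_conjA]
    rw [show g * (c * x * c⁻¹) * g⁻¹ = g * c * x * (g * c)⁻¹ by group]
  obtain ⟨X, hX⟩ : ∃ X : G → MonoidAlgebra (Res M) G → ℂ, X = fun x a =>
      cross (p := p) χ χ' x a / (N x a : ℂ) := ⟨_, rfl⟩
  have hterm : ∀ x, ∀ a ∈ blkIdem M x, cross (p := p) χ χ' x a =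
      ∑ g : G, if BelAt p M D.P D.c (g * x * g⁻¹) (conjA g a) then X x a else 0 := by
    intro x a ha
    rw [← Finset.sum_filter, Finset.sum_const, nsmul_eq_mul, hX]
    rcases eq_or_ne (N x a) 0 with h0 | h0
    · have hzero : cross (p := p) χ χ' x a = 0 := by
        rw [cross]
        refine finsum_eq_zero_of_forall_eq_zero fun g => ?_
        split_ifs with hg
        · have hni : ¬ InB M D.B (pPart p g) a := by
            intro hi
            rw [hg] at hi
            obtain ⟨c, hc⟩ := exists_belAt_of_inB D.hM D.hmax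
              (hg ▸ ppart_pow_eq_one (pPart_spec g)) ha hi
            simp only [hN, Finset.card_eq_zero, Finset.filter_eq_empty_iff] at h0
            exact h0 (Finset.mem_univ c) hc
          rw [phi_eq_zero_of_not_inB D.hM D.hB hχ (hg ▸ ha) hni, zero_mul]
        · rfl
      simp [hzero]
    · simp only [hN] at h0 ⊢
      field_simp
  have hshift : ∀ g : G, ∑ x, ∑ a ∈ blkIdem M x,
      (if BelAt p M D.P D.c (g * x * g⁻¹) (conjA g a) then X x a else 0) =
      ∑ v : D.P, X v (A v) := by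
    intro g
    have e1 : ∑ x, ∑ a ∈ blkIdem M x,
        (if BelAt p M D.P D.c (g * x * g⁻¹) (conjA g a) then X x a else 0) =
        ∑ x, ∑ a ∈ blkIdem M x, (if BelAt p M D.P D.c x a then X x a else 0) := by
      refine Fintype.sum_equiv (MulAut.conj g).toEquiv _ _ fun x => ?_
      simp only [MulEquiv.toEquiv_eq_coe, EquivLike.coe_coe, MulAut.conj_apply]
      rw [sum_blkIdem_conj g x]
      refine Finset.sum_congr rfl fun a ha => ?_
      simp only [hX]
      rw [hNconj g x a, cross_conj D.hM χ χ' g x ha]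
    rw [e1, ← Finset.sum_filter_add_sum_filter_not Finset.univ (fun x : G => x ∈ D.P),
      Finset.sum_eq_zero (s := Finset.univ.filter fun x : G => ¬ x ∈ D.P) fun x hx =>
        Finset.sum_eq_zero fun a _ => if_neg fun h => (Finset.mem_filter.mp hx).2 (belAt_mem h),
      add_zero, Finset.sum_subtype (p := fun x : G => x ∈ D.P) _ (fun x => by simp)]
    refine Finset.sum_congr rfl fun v _ => ?_
    have hmem : A v ∈ blkIdem M (v : G) := by
      rw [hA]; exact mem_blkIdemS.mpr ⟨_, (D.blk_spec (D.zp_le v)).1, rfl⟩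
    rw [Finset.sum_eq_single_of_mem _ hmem fun a _ hne =>
      if_neg fun h => hne (belAt_unique D.hM D.hmax h (hA' v)), if_pos (hA' v)]
  have htot : ∑ g : G, (χ : G → ℂ) g * conj ((χ' : G → ℂ) g) =
      (Nat.card G : ℂ) * ∑ v : D.P, X v (A v) := by
    rw [← psi_one (M := M) (p := p) D.hM χ, ← psi_one (M := M) (p := p) D.hM χ',
      sum_psi_mul D.hM χ χ', ← Finset.sum_fiberwise Finset.univ (pPart p)]
    have e2 : ∀ x : G, ∑ g ∈ Finset.univ.filter (fun g : G => pPart p g = x),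
        ∑ a ∈ blkIdem M (pPart p g), (1 : ℂ) * conj 1 * (phi p χ g a * conj (phi p χ' g a)) =
        ∑ a ∈ blkIdem M x, cross (p := p) χ χ' x a := fun x => by
      rw [Finset.sum_congr rfl (g := fun g => ∑ a ∈ blkIdem M x,
        phi p χ g a * conj (phi p χ' g a)) fun g hg => by
          simp only [(Finset.mem_filter.mp hg).2, map_one, one_mul], Finset.sum_comm]
      refine Finset.sum_congr rfl fun a _ => ?_
      rw [cross, finsum_eq_sum_of_fintype, ← Finset.sum_filter]
    rw [Finset.sum_congr rfl fun x _ => e2 x,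
      Finset.sum_congr rfl fun x _ => Finset.sum_congr rfl (hterm x),
      Finset.sum_congr rfl fun x _ => Finset.sum_comm, Finset.sum_comm,
      Finset.sum_congr rfl fun g _ => hshift g, Finset.sum_const, Finset.card_univ,
      ← Nat.card_eq_fintype_card, nsmul_eq_mul]
  have horth : (if χ = χ' then (1 : ℂ) else 0) = ∑ v : D.P, X v (A v) := by
    have h1 : classInner (χ : G → ℂ) (χ' : G → ℂ) = ∑ v : D.P, X v (A v) := by
      rw [classInner, htot, ← mul_assoc, inv_mul_cancel₀ CT.card_ne_zero, one_mul]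
    rw [← h1]
    split_ifs with h
    · rw [h, CT.irr_inner_self χ'.2]
    · rw [CT.irr_inner_of_ne χ.2 χ'.2 fun h' => h (Subtype.ext h')]
  rw [horth, ← Finset.add_sum_erase _ _ (Finset.mem_univ (1 : D.P)), Finset.mul_sum]
  have hc : ∀ v : D.P, (N v (A v) : ℂ) *
      (Nat.card (stabSub M D.P D.c ⊓ cz (v : G) : Subgroup G) : ℂ) =
      (Nat.card (stabSub M D.P D.c) : ℂ) * (Nat.card (cz (v : G)) : ℂ) := fun v => by
    have := card_belAt_abelian D.hM D.hmax D.hP (hA' v)
    rw [Nat.card_eq_fintype_card, Fintype.card_subtype] at this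
    simp only [hN]
    exact_mod_cast this
  congr 1
  · have h1 := hc 1
    have htop : cz ((1 : D.P) : G) = ⊤ := eq_top_iff.mpr fun v _ => mem_cz.mpr (by simp)
    rw [htop, inf_top_eq, Subgroup.card_top, mul_comm] at h1
    have h2 : (N ((1 : D.P) : G) (A 1) : ℂ) = (Nat.card G : ℂ) :=
      mul_left_cancel₀ (Nat.cast_ne_zero.mpr Nat.card_pos.ne') h1
    simp only [hX]
    rw [h2, hA, D.cross_one hχ hχ', mul_div_cancel_left₀]
    exact CT.card_ne_zero
  · refine Finset.sum_congr rfl fun v hv => ?_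
    have hv1 : v ≠ 1 := (Finset.mem_erase.mp hv).1
    have h1 := hc v
    rw [D.card_inf_cz hv1, D.card_stab, Nat.cast_mul,
      show (D.e : ℂ) * (Nat.card (Subgroup.centralizer (D.P : Set G)) : ℂ) *
        (Nat.card (cz (v : G)) : ℂ) = (D.e : ℂ) * (Nat.card (cz (v : G)) : ℂ) *
        (Nat.card (Subgroup.centralizer (D.P : Set G)) : ℂ) by ring] at h1
    have h2 := mul_right_cancel₀ (Nat.cast_ne_zero.mpr Nat.card_pos.ne') h1
    simp only [hX]
    rw [h2, hA, D.cross_eq hv1]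
    have hK : (Nat.card (cz (v : G)) : ℂ) ≠ 0 := Nat.cast_ne_zero.mpr Nat.card_pos.ne'
    have hq : (D.q : ℂ) ≠ 0 := Nat.cast_ne_zero.mpr (by have := D.one_lt_q; omega)
    have he : (D.e : ℂ) ≠ 0 := Nat.cast_ne_zero.mpr D.e_ne_zero
    field_simp

section Complement

variable [Fintype G] [Fintype D.P] [DecidableEq D.P]

/-- The complement of the Brauer–Feit pairing. -/
noncomputable def compl (χ χ' : IrrCharacter G) : ℂ :=
  ((D.e : ℂ) * (D.q : ℂ))⁻¹ *
    ∑ v ∈ Finset.univ.erase (1 : D.P), D.dv χ v * conj (D.dv χ' v)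

theorem eq_ne_zero : (D.e : ℂ) * (D.q : ℂ) ≠ 0 :=
  mul_ne_zero (Nat.cast_ne_zero.mpr D.e_ne_zero)
    (Nat.cast_ne_zero.mpr (by have := D.one_lt_q; omega))

open Classical in
theorem compl_eq {χ χ' : IrrCharacter G} (hχ : χ ∈ D.B) (hχ' : χ' ∈ D.B) :
    D.compl χ χ' = (if χ = χ' then (1 : ℂ) else 0) - bfPair p χ χ' := by
  rw [D.row hχ hχ', compl]; ring

theorem conj_compl (χ χ' : IrrCharacter G) : conj (D.compl χ χ') = D.compl χ' χ := by
  simp only [compl, map_mul, map_inv₀, map_natCast, map_sum, Complex.conj_conj]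
  congr 1
  exact Finset.sum_congr rfl fun v _ => mul_comm _ _

/-- The members of the block as a finite set. -/
noncomputable def Bs : Finset (IrrCharacter G) := (Set.toFinite D.B).toFinset

theorem mem_Bs {χ : IrrCharacter G} : χ ∈ D.Bs ↔ χ ∈ D.B := Set.Finite.mem_toFinset _

theorem card_Bs : D.Bs.card = Nat.card D.B := by
  rw [Bs, ← Set.ncard_eq_toFinset_card, ← Nat.card_coe_set_eq]

theorem bf_sum_mem (χ χ'' : IrrCharacter G) (hχ : χ ∈ D.B) :
    ∑ χ' ∈ D.Bs, bfPair p χ χ' * bfPair p χ' χ'' = bfPair p χ χ'' := by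
  rw [← bfPair_idem χ χ'']
  exact Finset.sum_subset (Finset.subset_univ _) fun η _ h => by
    rw [bfPair_zero_of_mem D.hM D.hB hχ (fun h' => h (D.mem_Bs.mpr h')), zero_mul]

open Classical in
theorem compl_idem {χ χ'' : IrrCharacter G} (hχ : χ ∈ D.B) (hχ'' : χ'' ∈ D.B) :
    ∑ χ' ∈ D.Bs, D.compl χ χ' * D.compl χ' χ'' = D.compl χ χ'' := by
  rw [D.compl_eq hχ hχ'', Finset.sum_congr rfl fun χ' h => by
    rw [D.compl_eq hχ (D.mem_Bs.mp h), D.compl_eq (D.mem_Bs.mp h) hχ'']]
  simp only [sub_mul, mul_sub, Finset.sum_sub_distrib, D.bf_sum_mem χ χ'' hχ]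
  simp only [ite_mul, mul_ite, one_mul, mul_one, zero_mul, mul_zero, Finset.sum_ite_eq,
    Finset.sum_ite_eq', D.mem_Bs.mpr hχ, D.mem_Bs.mpr hχ'', if_true]
  ring

theorem column_self' {v : D.P} (hv : v ≠ 1) :
    ∑ χ ∈ D.Bs, D.dv χ v * conj (D.dv χ v) = (D.q : ℂ) := by
  rw [Bs, ← finsum_mem_eq_finite_toFinset_sum]
  exact D.column_self hv

theorem trace_compl : ∑ χ ∈ D.Bs, D.compl χ χ * (D.e : ℂ) = (D.q : ℂ) - 1 := by
  rw [← Finset.sum_mul]
  simp only [compl, ← Finset.mul_sum]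
  rw [Finset.sum_comm, Finset.sum_congr rfl fun v hv => D.column_self' (Finset.mem_erase.mp hv).1,
    Finset.sum_const, Finset.card_erase_of_mem (Finset.mem_univ _), Finset.card_univ,
    ← Nat.card_eq_fintype_card, nsmul_eq_mul, Nat.cast_sub (Nat.card_pos (α := D.P))]
  have hq : (D.q : ℂ) ≠ 0 := Nat.cast_ne_zero.mpr (by have := D.one_lt_q; omega)
  have he : (D.e : ℂ) ≠ 0 := Nat.cast_ne_zero.mpr D.e_ne_zero
  rw [show (Nat.card D.P : ℂ) = (D.q : ℂ) from rfl, Nat.cast_one]
  field_simp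

/-- The number of members of the block. -/
theorem card_B : Nat.card D.B * D.e = blockRank p D.B * D.e + (D.q - 1) := by
  classical
  have h := D.trace_compl
  rw [Finset.sum_congr rfl fun χ hχ => by
    rw [D.compl_eq (D.mem_Bs.mp hχ) (D.mem_Bs.mp hχ), if_pos rfl]] at h
  have hr : ∑ χ ∈ D.Bs, bfPair p χ χ = (blockRank p D.B : ℂ) := by
    rw [← sum_bfPair_self D.hM D.hB, ← Finset.sum_filter]
    exact Finset.sum_congr (by ext χ; simp [mem_Bs]) fun _ _ => rfl
  simp only [sub_mul, Finset.sum_sub_distrib, one_mul, Finset.sum_const, nsmul_eq_mul] at h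
  rw [← Finset.sum_mul, hr, card_Bs, sub_eq_iff_eq_add] at h
  have h1 : 1 ≤ D.q := D.one_lt_q.le
  rw [← Nat.cast_inj (R := ℂ), Nat.cast_mul, h, Nat.cast_add, Nat.cast_sub h1]
  push_cast
  ring

/-- The pairing of two columns. -/
noncomputable def colPair (x y : D.P) : ℂ := ∑ χ ∈ D.Bs, conj (D.dv χ x) * D.dv χ y

theorem sum_sq_colPair :
    ∑ x ∈ Finset.univ.erase (1 : D.P), ∑ y ∈ Finset.univ.erase (1 : D.P),
      D.colPair x y * conj (D.colPair x y) =
      (D.e : ℂ) * (D.q : ℂ) ^ 2 * ((D.q : ℂ) - 1) := by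
  have e1 : ∀ χ ∈ D.Bs, ∀ χ' ∈ D.Bs, ∑ x ∈ Finset.univ.erase (1 : D.P),
      ∑ y ∈ Finset.univ.erase (1 : D.P), conj (D.dv χ x) * D.dv χ y *
        (D.dv χ' x * conj (D.dv χ' y)) =
      ((D.e : ℂ) * (D.q : ℂ)) ^ 2 * (D.compl χ' χ * D.compl χ χ') := fun χ _ χ' _ => by
    simp only [compl]
    have := D.eq_ne_zero
    have hcan : ∀ a b : ℂ, ((D.e : ℂ) * D.q) ^ 2 *
        (((D.e : ℂ) * D.q)⁻¹ * a * (((D.e : ℂ) * D.q)⁻¹ * b)) = a * b := fun a b => by
      rw [show ((D.e : ℂ) * D.q) ^ 2 * (((D.e : ℂ) * D.q)⁻¹ * a * (((D.e : ℂ) * D.q)⁻¹ * b)) =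
        (((D.e : ℂ) * D.q) * ((D.e : ℂ) * D.q)⁻¹) ^ 2 * (a * b) by ring,
        mul_inv_cancel₀ this, one_pow, one_mul]
    rw [hcan, Finset.sum_mul_sum]
    exact Finset.sum_congr rfl fun x _ => Finset.sum_congr rfl fun y _ => by ring
  calc ∑ x ∈ Finset.univ.erase (1 : D.P), ∑ y ∈ Finset.univ.erase (1 : D.P),
        D.colPair x y * conj (D.colPair x y)
      = ∑ χ ∈ D.Bs, ∑ χ' ∈ D.Bs, ∑ x ∈ Finset.univ.erase (1 : D.P),
        ∑ y ∈ Finset.univ.erase (1 : D.P), conj (D.dv χ x) * D.dv χ y *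
          (D.dv χ' x * conj (D.dv χ' y)) := by
        simp only [colPair, map_sum, map_mul, Complex.conj_conj, Finset.sum_mul_sum]
        rw [Finset.sum_comm_cycle]
        refine Finset.sum_congr rfl fun χ _ => ?_
        rw [Finset.sum_comm_cycle]
    _ = ∑ χ ∈ D.Bs, ((D.e : ℂ) * (D.q : ℂ)) ^ 2 *
          ∑ χ' ∈ D.Bs, D.compl χ χ' * D.compl χ' χ := by
        refine Finset.sum_congr rfl fun χ h => ?_
        rw [Finset.mul_sum]
        exact Finset.sum_congr rfl fun χ' h' => by rw [e1 χ h χ' h']; ring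
    _ = _ := by
        rw [Finset.sum_congr rfl fun χ h => by
          rw [D.compl_idem (D.mem_Bs.mp h) (D.mem_Bs.mp h)], ← Finset.mul_sum]
        have := D.trace_compl
        rw [← Finset.sum_mul] at this
        linear_combination ((D.e : ℂ) * (D.q : ℂ) ^ 2) * this

/-- Columns of different orbits are orthogonal. -/
theorem colPair_eq_zero {x y : D.P} (hx : x ≠ 1) (hy : y ≠ 1)
    (h : ∀ σ ∈ D.autE, σ x ≠ y) : D.colPair x y = 0 := by
  classical
  haveI : Fintype D.autE := Fintype.ofFinite _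
  obtain ⟨X, hX⟩ : ∃ X : Finset D.P, X = Finset.univ.erase (1 : D.P) := ⟨_, rfl⟩
  have horb : ∀ a ∈ X, ∀ σ : D.autE, (σ : MulAut D.P) a ∈ X ∧
      Complex.normSq (D.colPair a ((σ : MulAut D.P) a)) = (D.q : ℝ) ^ 2 := by
    intro a ha σ
    rw [hX] at ha ⊢
    have ha1 : a ≠ 1 := (Finset.mem_erase.mp ha).1
    refine ⟨Finset.mem_erase.mpr ⟨fun h' => ha1 ((EmbeddingLike.map_eq_one_iff).mp h'),
      Finset.mem_univ _⟩, ?_⟩
    rw [show D.colPair a ((σ : MulAut D.P) a) = (D.q : ℂ) by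
      rw [← D.column_self' ha1, colPair]
      exact Finset.sum_congr rfl fun χ _ => by rw [D.dv_aut χ σ.2 ha1]; ring]
    rw [Complex.normSq_natCast]; ring
  have hinj : ∀ a ∈ X, Function.Injective fun σ : D.autE => (σ : MulAut D.P) a := by
    intro a ha σ τ hστ
    replace hστ : (σ : MulAut D.P) a = (τ : MulAut D.P) a := hστ
    rw [hX] at ha
    have h1 : ((τ⁻¹ * σ : D.autE) : MulAut D.P) a = a := by
      rw [Subgroup.coe_mul, MulAut.mul_apply, hστ, Subgroup.coe_inv, MulAut.inv_apply_self]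
    have h2 := D.autE_free (τ⁻¹ * σ).2 (Finset.mem_erase.mp ha).1 h1
    exact (inv_mul_eq_one.mp (Subtype.ext h2 : τ⁻¹ * σ = 1)).symm
  have hlow : ∀ a ∈ X, ∀ S : Finset D.P,
      S = X \ (Finset.univ.image fun σ : D.autE => (σ : MulAut D.P) a) →
      ∑ b ∈ X, Complex.normSq (D.colPair a b) =
        (D.e : ℝ) * (D.q : ℝ) ^ 2 + ∑ b ∈ S, Complex.normSq (D.colPair a b) := by
    rintro a ha S rfl
    have hsub : (Finset.univ.image fun σ : D.autE => (σ : MulAut D.P) a) ⊆ X := by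
      intro b hb
      obtain ⟨σ, -, rfl⟩ := Finset.mem_image.mp hb
      exact (horb a ha σ).1
    rw [← Finset.sum_sdiff hsub, add_comm, Finset.sum_image fun σ _ τ _ h => hinj a ha h,
      Finset.sum_congr rfl fun σ _ => (horb a ha σ).2, Finset.sum_const, Finset.card_univ,
      ← Nat.card_eq_fintype_card, D.card_autE, nsmul_eq_mul]
  have htot : ∑ a ∈ X, ∑ b ∈ X, Complex.normSq (D.colPair a b) =
      (D.e : ℝ) * (D.q : ℝ) ^ 2 * ((D.q : ℝ) - 1) := by
    apply Complex.ofReal_injective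
    push_cast
    rw [hX, ← D.sum_sq_colPair]
    exact Finset.sum_congr rfl fun a _ => Finset.sum_congr rfl fun b _ =>
      (Complex.mul_conj _).symm
  have hcard : (X.card : ℝ) = (D.q : ℝ) - 1 := by
    rw [hX, Finset.card_erase_of_mem (Finset.mem_univ _), Finset.card_univ,
      ← Nat.card_eq_fintype_card, Nat.cast_sub (Nat.card_pos (α := D.P)), Nat.cast_one]
    rfl
  rw [Finset.sum_congr rfl fun a ha => hlow a ha _ rfl, Finset.sum_add_distrib, Finset.sum_const,
    nsmul_eq_mul, hcard] at htot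
  have h0 : ∑ a ∈ X, ∑ b ∈ X \ (Finset.univ.image fun σ : D.autE => (σ : MulAut D.P) a),
      Complex.normSq (D.colPair a b) = 0 := by linarith
  have hxX : x ∈ X := by rw [hX]; exact Finset.mem_erase.mpr ⟨hx, Finset.mem_univ _⟩
  have hyX : y ∈ X \ (Finset.univ.image fun σ : D.autE => (σ : MulAut D.P) x) := by
    refine Finset.mem_sdiff.mpr ⟨by rw [hX]; exact Finset.mem_erase.mpr ⟨hy, Finset.mem_univ _⟩,
      fun hy' => ?_⟩
    obtain ⟨σ, -, hσ⟩ := Finset.mem_image.mp hy'
    exact h σ σ.2 hσ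
  have h1 := (Finset.sum_eq_zero_iff_of_nonneg fun a _ => Finset.sum_nonneg fun b _ =>
    Complex.normSq_nonneg _).mp h0 x hxX
  exact Complex.normSq_eq_zero.mp
    ((Finset.sum_eq_zero_iff_of_nonneg fun b _ => Complex.normSq_nonneg _).mp h1 y hyX)

/-- The degrees are orthogonal to every column. -/
theorem degree_orth {x : D.P} (hx : x ≠ 1) :
    ∑ χ ∈ D.Bs, (χ : G → ℂ) 1 * D.dv χ x = 0 := by
  classical
  have hdeg : ∀ χ ∈ D.Bs, ∑ χ' ∈ D.Bs, bfPair p χ χ' * (χ' : G → ℂ) 1 = (χ : G → ℂ) 1 := by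
    intro χ hχ
    have hreg : regFun p χ 1 = (χ : G → ℂ) 1 := by simp [regFun, hp.out.not_dvd_one]
    have h1 := congrFun (CT.classFunction_eq_sum (regFun_class (p := p) χ)) 1
    rw [hreg] at h1
    conv_rhs => rw [h1]
    rw [Finset.sum_apply]
    simp only [Pi.smul_apply, smul_eq_mul]
    exact Finset.sum_subset (Finset.subset_univ _) fun η _ h => by
      show bfPair p χ η * _ = 0
      rw [bfPair_zero_of_mem D.hM D.hB (D.mem_Bs.mp hχ) (fun h' => h (D.mem_Bs.mpr h')), zero_mul]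
  have hA : ∀ χ ∈ D.Bs, ∑ χ' ∈ D.Bs, D.compl χ χ' * (χ' : G → ℂ) 1 = 0 := fun χ hχ => by
    rw [Finset.sum_congr rfl fun χ' h => by
        rw [D.compl_eq (D.mem_Bs.mp hχ) (D.mem_Bs.mp h), sub_mul],
      Finset.sum_sub_distrib, hdeg χ hχ,
      Finset.sum_eq_single_of_mem χ hχ fun b _ hb => by rw [if_neg (Ne.symm hb), zero_mul],
      if_pos rfl, one_mul, sub_self]
  have h0 : ∑ v ∈ Finset.univ.erase (1 : D.P),
      Complex.normSq (∑ χ ∈ D.Bs, (χ : G → ℂ) 1 * D.dv χ v) = 0 := by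
    apply Complex.ofReal_injective
    push_cast
    have key : ∑ χ ∈ D.Bs, ∑ χ' ∈ D.Bs, (χ : G → ℂ) 1 * ((D.e : ℂ) * D.q * D.compl χ χ') *
        (χ' : G → ℂ) 1 = 0 := by
      refine Finset.sum_eq_zero fun χ hχ => ?_
      rw [← mul_eq_zero_of_right ((χ : G → ℂ) 1 * ((D.e : ℂ) * D.q)) (hA χ hχ), Finset.mul_sum]
      exact Finset.sum_congr rfl fun χ' _ => by ring
    rw [← key]
    simp only [compl, ← mul_assoc, mul_inv_cancel₀ D.eq_ne_zero, one_mul, Finset.mul_sum,
      Finset.sum_mul]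
    conv_rhs => rw [Finset.sum_congr rfl fun χ _ => Finset.sum_comm, Finset.sum_comm]
    refine Finset.sum_congr rfl fun v _ => ?_
    rw [← Complex.mul_conj, map_sum, Finset.sum_mul_sum]
    refine Finset.sum_congr rfl fun χ _ => Finset.sum_congr rfl fun χ' _ => ?_
    rw [map_mul, charDegree_cast, charDegree_cast, map_natCast]
    ring
  exact Complex.normSq_eq_zero.mp ((Finset.sum_eq_zero_iff_of_nonneg fun v _ =>
    Complex.normSq_nonneg _).mp h0 x (Finset.mem_erase.mpr ⟨hx, Finset.mem_univ _⟩))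

end Complement

end Free

end Cfsg.Agent.FreeStar
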