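import Cfsg.Agent.Lib.FreeStar.Source
import Cfsg.Agent.Lib.Blocks.BelowRank

/-!
# A block with abelian defect group and free inertial action: the blocks below

Every block below the maximal pair at a nontrivial subgroup has all its members of the same
regular restriction, as many of them as the order of the defect group.
-/

namespace Cfsg.Agent.FreeStar

open MonoidAlgebra BPairs Blocks
open scoped ComplexConjugate

universe u

set_option linter.unusedSectionVars false

/-- A block with a maximal pair of nontrivial abelian group on which the inertial quotient acts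
freely. -/
structure Free (p : ℕ) (M : Ideal AlgInt) [M.IsPrime] (G : Type u) [Group G] [Finite G] where
  hM : IsPModular p M
  B : Set (IrrCharacter G)
  P : Subgroup G
  c : Set (IrrCharacter (Subgroup.centralizer (P : Set G)))
  hmax : IsMaximalBrauerPair p M B P c
  hP : P ≤ Subgroup.centralizer (P : Set G)
  hP1 : P ≠ ⊥
  hfree : ∀ g ∈ stabSub M P c, ∀ x ∈ P, x ≠ 1 → g * x * g⁻¹ = x →
    g ∈ Subgroup.centralizer (P : Set G)

theorem irr_one_of_comm {A : Type u} [Group A] [Fintype A] (hA : ∀ a b : A, a * b = b * a)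
    (η : IrrCharacter A) : (η : A → ℂ) 1 = 1 := by
  have hval : ∀ x : A, (η : A → ℂ) x * conj ((η : A → ℂ) x) = (η : A → ℂ) 1 ^ 2 := by
    intro x
    obtain ⟨ω, hω⟩ := exists_scalar_central η (z := x)
      (Subgroup.mem_center_iff.mpr fun g => hA g x)
    have h1 := hω 1
    rw [mul_one] at h1
    have hw : ω * conj ω = 1 := by
      rw [Complex.mul_conj', Complex.norm_eq_one_of_pow_eq_one
        (scalar_pow_eq_one η hω (pow_card_eq_one' (x := x))) Nat.card_pos.ne']
      simp
    rw [h1, map_mul, charDegree_cast, map_natCast]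
    linear_combination ((charDegree (η : A → ℂ) : ℂ) ^ 2) * hw
  have h := CT.irr_inner_self η.2
  rw [classInner, Finset.sum_congr rfl fun x _ => hval x, Finset.sum_const, Finset.card_univ,
    nsmul_eq_mul, ← Nat.card_eq_fintype_card, ← mul_assoc, inv_mul_cancel₀ CT.card_ne_zero,
    one_mul, charDegree_cast] at h
  rw [charDegree_cast]
  have h' : charDegree (η : A → ℂ) ^ 2 = 1 := by exact_mod_cast h
  rw [Nat.pow_eq_one.mp h' |>.resolve_right (by norm_num)]
  norm_num

theorem card_irr_of_comm {A : Type u} [Group A] [Fintype A] (hA : ∀ a b : A, a * b = b * a) :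
    Nat.card (IrrCharacter A) = Nat.card A := by
  classical
  have h := CT.column_orthogonality (1 : A) 1
  rw [if_pos (IsConj.refl _), show ∑ η : IrrCharacter A,
      (η : A → ℂ) 1 * conj ((η : A → ℂ) 1) = ∑ _η : IrrCharacter A, (1 : ℂ) from
        Finset.sum_congr rfl fun η _ => by rw [irr_one_of_comm hA η]; simp,
    Finset.sum_const, Finset.card_univ, nsmul_one,
    show Subgroup.centralizer ({(1 : A)} : Set A) = ⊤ from eq_top_iff.mpr fun w _ =>
      Subgroup.mem_centralizer_singleton_iff.mpr (by simp), Subgroup.card_top] at h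
  rw [Nat.card_eq_fintype_card]
  exact_mod_cast h

namespace Free

variable {p : ℕ} [hp : Fact p.Prime] {M : Ideal AlgInt} [M.IsPrime] {G : Type u} [Group G]
  [Finite G] (D : Free p M G)

theorem hB : IsPBlock M D.B := D.hmax.1.2.1

theorem hc : IsPBlock M D.c := D.hmax.1.1.2

theorem hPp : IsPGroup p D.P := D.hmax.1.1.1

/-- The order of the defect group. -/
noncomputable def q : ℕ := Nat.card D.P

theorem q_eq : D.q = p ^ blockDefect p D.B :=
  card_defectGroup D.hM D.hB (isDefectGroup_of_maximal D.hM D.hmax)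

theorem one_lt_q : 1 < D.q := Subgroup.one_lt_card_iff_ne_bot D.P |>.mpr D.hP1

theorem defect_ne_zero : blockDefect p D.B ≠ 0 := fun h => by
  have := D.one_lt_q
  rw [D.q_eq, h, pow_zero] at this
  exact lt_irrefl _ this

theorem le_cent {S : Subgroup G} (hS : S ≤ D.P) : D.P ≤ Subgroup.centralizer (S : Set G) :=
  D.hP.trans (Subgroup.centralizer_le hS)

theorem defect_below {S : Subgroup G} (hS : S ≤ D.P)
    {b : Set (IrrCharacter (Subgroup.centralizer (S : Set G)))} (hle : SubpairLE p M S b D.P D.c) :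
    IsDefectGroup p M b (D.P.subgroupOf (Subgroup.centralizer (S : Set G))) := by
  have heq : D.P ⊓ Subgroup.centralizer (S : Set G) = D.P := inf_eq_left.mpr (D.le_cent hS)
  have h1 := centralizer_defect_of_fullyCentralized D.hM D.hmax hle fun g _ => by
    rw [heq]; exact Subgroup.card_le_of_le inf_le_left
  rwa [heq] at h1

theorem blockDefect_below {S : Subgroup G} (hS : S ≤ D.P)
    {b : Set (IrrCharacter (Subgroup.centralizer (S : Set G)))} (hb : IsPBlock M b)
    (hle : SubpairLE p M S b D.P D.c) : blockDefect p b = blockDefect p D.B := by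
  have h2 := card_defectGroup D.hM hb (D.defect_below hS hle)
  rw [Nat.card_congr (Subgroup.subgroupOfEquivOfLe (D.le_cent hS)).toEquiv,
    show Nat.card D.P = D.q from rfl, D.q_eq] at h2
  exact (Nat.pow_right_injective hp.out.two_le h2).symm

/-- The block below at `S` has a maximal pair with abelian group of order `q`. -/
theorem exists_maximal_below {S : Subgroup G} (hS : S ≤ D.P)
    {f : Set (IrrCharacter (Subgroup.centralizer (S : Set G)))} (hf : IsPBlock M f)
    (hle : SubpairLE p M S f D.P D.c) :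
    ∃ (P' : Subgroup (Subgroup.centralizer (S : Set G)))
      (c' : Set (IrrCharacter (Subgroup.centralizer
        (P' : Set (Subgroup.centralizer (S : Set G)))))),
      IsMaximalBrauerPair p M f P' c' ∧ (∀ a b : P', a * b = b * a) ∧ Nat.card P' = D.q := by
  have hPx := D.le_cent hS
  have hC : Subgroup.centralizer (D.P : Set G) ≤ Subgroup.centralizer (S : Set G) :=
    Subgroup.centralizer_le hS
  obtain ⟨⟨P', c'⟩, hpush⟩ := exists_pull (⟨D.P, D.c⟩ : BrauerPairIdx G) D.hc hPx hC
  have hpush' := hpush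
  obtain ⟨hc', -, hsub, hbel⟩ := hpush
  dsimp only at hc' hsub hbel
  have hP'p : IsPGroup p P' := (isPGroup_push hsub).mpr D.hPp
  have hpair : IsBrauerPairOf p M f P' c' := by
    refine isBrauerPairOf_iff.mpr ⟨hP'p, hc', hf, ?_⟩
    refine (occ_push D.hM hpush' hC hP'p (inv2_center P' (bBar M f).2) (by
      rw [← Subring.coe_mul, bBar_mul_self (blockCoeff_mem_loc hf)])).mp ?_
    exact (isNormalSubpair_iff.mp (rel_of_below D.hM D.hmax.1.1 hle hS
      (hPx.trans (Subgroup.centralizer_le_normalizer _))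
      Relation.ReflTransGen.refl)).2.2.2.2.2
  have hcard : Nat.card P' = D.q := by
    rw [q, ← hsub, Subgroup.card_map_of_injective (Subgroup.centralizer (S : Set G)).subtype_injective]
  refine ⟨P', c', ⟨hpair, fun R g hR hle' => ?_⟩, fun a b => ?_, hcard⟩
  · obtain ⟨⟨R', g'⟩, hle'', hmax'⟩ := exists_maximal D.hM hR
    have hcd := card_defect_eq D.hM hf (isDefectGroup_of_maximal D.hM hmax') (D.defect_below hS hle)
    refine (Subgroup.eq_of_le_of_card_ge (subpair_le hle') ?_).symm
    refine (Subgroup.card_le_of_le (subpair_le hle'')).trans (hcd.le.trans ?_)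
    rw [Nat.card_congr (Subgroup.subgroupOfEquivOfLe hPx).toEquiv, hcard, q]
  · refine Subtype.ext (Subtype.ext ?_)
    exact Subgroup.mem_centralizer_iff.mp
      (D.hP (hsub ▸ ⟨(b : Subgroup.centralizer (S : Set G)), b.2, rfl⟩)) _
      (hsub ▸ ⟨(a : Subgroup.centralizer (S : Set G)), a.2, rfl⟩)

/-- The members of the block below at a nontrivial subgroup. -/
theorem exists_xi {S : Subgroup G} (hS : S ≤ D.P) (hS1 : S ≠ ⊥)
    {f : Set (IrrCharacter (Subgroup.centralizer (S : Set G)))} (hf : IsPBlock M f)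
    (hle : SubpairLE p M S f D.P D.c) :
    Nat.card f = D.q ∧ ∃ ξ ∈ f, ∀ η ∈ f, ∀ y : Subgroup.centralizer (S : Set G), ¬ p ∣ orderOf y →
      (η : Subgroup.centralizer (S : Set G) → ℂ) y = (ξ : Subgroup.centralizer (S : Set G) → ℂ) y := by
  haveI := Fintype.ofFinite G
  letI := Fintype.ofFinite (Subgroup.centralizer (S : Set G))
  have hnil := nilpotent_of_free D.hM D.hmax D.hP D.hfree hS1 hf hle
  obtain ⟨P', c', hmax', hcomm, hcard⟩ := D.exists_maximal_below hS hf hle
  obtain ⟨χ₀, hχ₀, -, Φ, hΦ, -⟩ := exists_nilpotent_equiv D.hM hnil hmax'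
  haveI := Fintype.ofFinite P'
  refine ⟨by rw [← Nat.card_congr Φ, card_irr_of_comm hcomm, hcard], χ₀, hχ₀, fun η hη y hy => ?_⟩
  have := hΦ (Φ.symm ⟨η, hη⟩) y hy
  rw [Equiv.apply_symm_apply, irr_one_of_comm hcomm, one_mul] at this
  exact this

/-- The block below at `S`. -/
noncomputable def blk (S : Subgroup G) : Set (IrrCharacter (Subgroup.centralizer (S : Set G))) :=
  open Classical in if h : S ≤ D.P then (existsUnique_below D.hM D.hmax.1.1 h).choose else ∅

theorem blk_spec {S : Subgroup G} (hS : S ≤ D.P) :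
    IsPBlock M (D.blk S) ∧ SubpairLE p M S (D.blk S) D.P D.c := by
  rw [blk, dif_pos hS]
  exact (existsUnique_below D.hM D.hmax.1.1 hS).choose_spec.1

theorem blk_unique {S : Subgroup G} (hS : S ≤ D.P)
    {f : Set (IrrCharacter (Subgroup.centralizer (S : Set G)))} (hf : IsPBlock M f)
    (hle : SubpairLE p M S f D.P D.c) : f = D.blk S :=
  (existsUnique_below D.hM D.hmax.1.1 hS).unique ⟨hf, hle⟩ (D.blk_spec hS)

theorem blk_self : D.blk D.P = D.c :=
  (D.blk_unique le_rfl D.hc Relation.ReflTransGen.refl).symm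

theorem exists_xiP : ∃ ξ ∈ D.c, blockHeight p D.c
    (ξ : Subgroup.centralizer (D.P : Set G) → ℂ) = 0 := exists_height_zero D.hc

/-- The invariant idempotent. -/
noncomputable def src : MonoidAlgebra (Res M) G :=
  (exists_source D.hM D.hPp D.hc D.exists_xiP.choose_spec.1 D.exists_xiP.choose_spec.2).choose

theorem src_spec :
    D.src * D.src = D.src ∧ IsInv D.P D.src ∧
      tauH D.exists_xiP.choose (trunc (Subgroup.centralizer (D.P : Set G) : Set G) D.src) ≠ 0 ∧
      ∀ (R : Subgroup G) (b : Set (IrrCharacter _)), SubpairLE p M R b D.P D.c →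
        trunc (Subgroup.centralizer (R : Set G) : Set G) D.src * bel M _ b =
          trunc (Subgroup.centralizer (R : Set G) : Set G) D.src :=
  (exists_source D.hM D.hPp D.hc D.exists_xiP.choose_spec.1 D.exists_xiP.choose_spec.2).choose_spec

/-- The Brauer image of the idempotent at `S`. -/
noncomputable def jbar (S : Subgroup G) :
    MonoidAlgebra (Res M) (Subgroup.centralizer (S : Set G)) :=
  resH _ D.src

theorem embH_jbar (S : Subgroup G) :
    embH (Subgroup.centralizer (S : Set G)) (D.jbar S) =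
      trunc (Subgroup.centralizer (S : Set G) : Set G) D.src := by
  ext u
  by_cases hu : u ∈ Subgroup.centralizer (S : Set G)
  · rw [coeff_trunc_of_mem _ hu,
      show u = ((⟨u, hu⟩ : Subgroup.centralizer (S : Set G)) : G) from rfl, coeff_embH, jbar, coeff_resH]
  · rw [coeff_trunc_of_notMem _ hu, coeff_embH_of_notMem _ _ hu]

theorem jbar_facts {S : Subgroup G} (hS : S ≤ D.P) :
    D.jbar S * D.jbar S = D.jbar S ∧
      D.jbar S * (bBar M (D.blk S) : MonoidAlgebra (Res M) (Subgroup.centralizer (S : Set G))) =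
        D.jbar S ∧
      IsInv (D.P.subgroupOf (Subgroup.centralizer (S : Set G))) (D.jbar S) := by
  haveI := charP_res D.hM
  refine ⟨?_, ?_, ?_⟩
  · apply embH_injective (R := Res M) (Subgroup.centralizer (S : Set G))
    rw [map_mul, embH_jbar, ← trunc_mul (D.hPp.to_le hS) (isInv_mono hS D.src_spec.2.1)
      (isInv_mono hS D.src_spec.2.1), D.src_spec.1]
  · apply embH_injective (R := Res M) (Subgroup.centralizer (S : Set G))
    rw [map_mul, embH_jbar]
    exact D.src_spec.2.2.2 S _ (D.blk_spec hS).2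
  · intro q hq v
    simp only [jbar, coeff_resH]
    exact D.src_spec.2.1 (q : G) (Subgroup.mem_subgroupOf.mp hq) (v : G)

/-- The invariant lift of the Brauer image at `S`. -/
noncomputable def jlift (S : Subgroup G) :
    MonoidAlgebra (Loc M) (Subgroup.centralizer (S : Set G)) :=
  open Classical in if h : S ≤ D.P then
    (exists_inv_idem_lift (D.P.subgroupOf (Subgroup.centralizer (S : Set G))) (D.jbar_facts h).1
      (D.jbar_facts h).2.2).choose
  else 0

theorem jlift_spec {S : Subgroup G} (hS : S ≤ D.P) :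
    D.jlift S * D.jlift S = D.jlift S ∧ redG M _ (D.jlift S) = D.jbar S ∧
      IsInv (D.P.subgroupOf (Subgroup.centralizer (S : Set G))) (D.jlift S) := by
  rw [jlift, dif_pos hS]
  exact (exists_inv_idem_lift (D.P.subgroupOf (Subgroup.centralizer (S : Set G)))
    (D.jbar_facts hS).1 (D.jbar_facts hS).2.2).choose_spec

/-- A member of the block below. -/
noncomputable def xi (S : Subgroup G) : IrrCharacter (Subgroup.centralizer (S : Set G)) :=
  open Classical in
  if h : S ≤ D.P ∧ S ≠ ⊥ then
    (D.exists_xi h.1 h.2 (D.blk_spec h.1).1 (D.blk_spec h.1).2).2.choose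
  else CT.trivIrr _

theorem xi_spec {S : Subgroup G} (hS : S ≤ D.P) (hS1 : S ≠ ⊥) :
    Nat.card (D.blk S) = D.q ∧ D.xi S ∈ D.blk S ∧
      ∀ η ∈ D.blk S, ∀ y : Subgroup.centralizer (S : Set G), ¬ p ∣ orderOf y →
        (η : Subgroup.centralizer (S : Set G) → ℂ) y =
          (D.xi S : Subgroup.centralizer (S : Set G) → ℂ) y := by
  rw [xi, dif_pos (⟨hS, hS1⟩ : S ≤ D.P ∧ S ≠ ⊥)]
  exact ⟨(D.exists_xi hS hS1 (D.blk_spec hS).1 (D.blk_spec hS).2).1,
    (D.exists_xi hS hS1 (D.blk_spec hS).1 (D.blk_spec hS).2).2.choose_spec⟩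

/-- The rank of the idempotent at `S`. -/
noncomputable def mS (S : Subgroup G) : ℤ :=
  open Classical in
  if h : S ≤ D.P then
    (exists_int_evC D.hM (D.xi S) (D.jlift_spec h).1).choose
  else 0

theorem mS_spec {S : Subgroup G} (hS : S ≤ D.P) :
    evC (D.xi S : Subgroup.centralizer (S : Set G) → ℂ) (D.jlift S) = (D.mS S : ℂ) := by
  rw [mS, dif_pos hS]
  exact (exists_int_evC D.hM (D.xi S) (D.jlift_spec hS).1).choose_spec

end Free

end Cfsg.Agent.FreeStar
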