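import Cfsg.Agent.Lib.FreeStar.Gen
import Mathlib.GroupTheory.FiniteAbelian.Duality
import Mathlib.RingTheory.RootsOfUnity.AlgebraicallyClosed
import Mathlib.Analysis.Complex.Polynomial.Basic

/-!
# Making a generalized character with rational absolute values rational

A generalized character of an abelian `p`-group whose absolute values are integers prime to `p`,
constant on the generators of cyclic subgroups, is a linear character times a rational one; the
signs of the rational one are fixed by a congruence modulo `p`, or modulo four when `p` is two.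
-/

namespace Cfsg.Agent.FreeStar

open Blocks
open scoped ComplexConjugate

universe u

set_option linter.unusedSectionVars false

variable {A : Type u} [CommGroup A] [Fintype A]

/-- The conjugate of a generalized character. -/
theorem isGen_conj {f : A → ℂ} (hf : IsGeneralizedCharacter A f) :
    IsGeneralizedCharacter A fun x => conj (f x) := by
  obtain ⟨χ, ψ, hχ, hψ, rfl⟩ := hf
  exact ⟨_, _, CT.isCharacter_conj hχ, CT.isCharacter_conj hψ, funext fun x => by simp⟩

theorem isGen_lin (l : A →* ℂˣ) : IsGeneralizedCharacter A fun x => (l x : ℂ) :=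
  CT.isGen_of_isCharacter (CT.isCharacter_lin l)

theorem isGen_one : IsGeneralizedCharacter A fun _ => (1 : ℂ) :=
  CT.isGen_of_isIrr (CT.trivIrr A).2

theorem isGen_pow {f : A → ℂ} (hf : IsGeneralizedCharacter A f) :
    ∀ k : ℕ, IsGeneralizedCharacter A fun x => f x ^ k
  | 0 => by simpa using isGen_one
  | k + 1 => by
    simp only [pow_succ]
    exact CT.isGen_mul (isGen_pow hf k) hf

theorem irr_mul (η : IrrCharacter A) (x y : A) :
    (η : A → ℂ) (x * y) * (η : A → ℂ) 1 = (η : A → ℂ) x * (η : A → ℂ) y := by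
  obtain ⟨ω, hω⟩ := exists_scalar_central η (z := x)
    (Subgroup.mem_center_iff.mpr fun g => mul_comm g x)
  have h1 := hω 1
  rw [mul_one] at h1
  rw [hω, h1]; ring

variable {p n : ℕ}

/-- The square of the phase of a generalized character with rational absolute values is linear. -/
theorem exists_phase_sq (hp : p.Prime) (hn : n ≠ 0) (hA : Nat.card A = p ^ n) {f d : A → ℂ}
    (hf : IsGeneralizedCharacter A f) {m : A → ℤ} (hfm : ∀ x, f x = (m x : ℂ) * d x)
    (hd : ∀ x, IsIntegral ℤ (d x)) (hd1 : ∀ x, d x * conj (d x) = 1)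
    (hm : ∀ x, ¬ (p : ℤ) ∣ m x) (hm0 : d 1 = 1)
    (hrat : ∀ (x : A) (a : ℕ), ¬ p ∣ a → m (x ^ a) = m x) :
    ∃ l : A →* ℂˣ, ∀ x, d x ^ 2 = (l x : ℂ) := by
  classical
  have hm' : ∀ x, m x ≠ 0 := fun x h => hm x (by simp [h])
  obtain ⟨N, hN, hcong⟩ := exists_pow_cong_one (A := A) hp hA
  have hh : ∀ x, f x * conj (f x) = ((m x : ℤ) : ℂ) ^ 2 := fun x => by
    rw [hfm, map_mul, map_intCast]
    linear_combination ((m x : ℂ) ^ 2) * hd1 x
  have hgh : IsGeneralizedCharacter A fun x => f x * conj (f x) := CT.isGen_mul hf (isGen_conj hf)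
  have hone : ∀ x, Cong (p ^ n) ((f x * conj (f x)) ^ N) 1 := hcong _ hgh (m 1 ^ 2)
    (by rw [hh]; push_cast; ring)
    (fun h => hm 1 (Int.Prime.dvd_pow' hp h))
  obtain ⟨Y, hY⟩ : ∃ Y : A → ℂ, Y = fun x => f x ^ 2 * (f x * conj (f x)) ^ (N - 1) := ⟨_, rfl⟩
  have hYg : IsGeneralizedCharacter A Y := by
    rw [hY]; exact CT.isGen_mul (isGen_pow hf 2) (isGen_pow hgh (N - 1))
  have hXY : ∀ x, Cong (p ^ n) (d x ^ 2) (Y x) := fun x => by
    have e : Y x = d x ^ 2 * (f x * conj (f x)) ^ N := by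
      obtain ⟨k, rfl⟩ := Nat.exists_eq_add_of_le hN
      simp only [hY, Nat.succ_eq_add_one, zero_add, add_tsub_cancel_left]
      rw [hh, hfm]
      ring
    rw [e]
    simpa using ((hone x).symm.mul_left ((hd x).pow 2))
  obtain ⟨C, hC, hrs⟩ := exists_rat_sum (A := A) hp hn hA
  obtain ⟨D, hD⟩ : ∃ D : ℤ, D = ∏ x, m x ^ 2 := ⟨_, rfl⟩
  have hD0 : D ≠ 0 := hD ▸ Finset.prod_ne_zero_iff.mpr fun x _ => pow_ne_zero _ (hm' x)
  have hcoef : ∀ η : IrrCharacter A, ∃ z : ℤ,
      classInner (fun x => d x ^ 2) (η : A → ℂ) = (z : ℂ) := by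
    intro η
    have hint : IsIntegral ℤ (classInner (fun x => d x ^ 2) (η : A → ℂ)) := by
      have h := isIntegral_mean hA (f := fun x => Y x * conj ((η : A → ℂ) x))
        (X := fun x => d x ^ 2 * conj ((η : A → ℂ) x))
        (CT.isGen_mul hYg (isGen_conj (CT.isGen_of_isIrr η.2))) fun x => by
          have hb : IsIntegral ℤ (conj ((η : A → ℂ) x)) :=
            CT.isIntegral_conj (CT.isIntegral_isCharacter (CT.isCharacter_of_isIrr η.2) x)
          simpa [mul_comm] using (hXY x).mul_left hb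
      rw [classInner, hA]
      exact h
    obtain ⟨h, hhd⟩ : ∃ h : A → ℤ, h = fun x => D / m x ^ 2 := ⟨_, rfl⟩
    have hhx : ∀ x, h x * m x ^ 2 = D := fun x => by
      rw [hhd]
      exact Int.ediv_mul_cancel (hD ▸ Finset.dvd_prod_of_mem _ (Finset.mem_univ x))
    obtain ⟨z, hz⟩ := hrs h (fun x a ha => by simp only [hhd, hrat x a ha])
      (fun x => f x ^ 2 * conj ((η : A → ℂ) x))
      (CT.isGen_mul (isGen_pow hf 2) (isGen_conj (CT.isGen_of_isIrr η.2)))
    have hsum : ∑ x, (h x : ℂ) * (f x ^ 2 * conj ((η : A → ℂ) x)) =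
        (D : ℂ) * (Nat.card A : ℂ) * classInner (fun x => d x ^ 2) (η : A → ℂ) := by
      rw [classInner, mul_assoc (D : ℂ), ← mul_assoc (Nat.card A : ℂ),
        mul_inv_cancel₀ CT.card_ne_zero, one_mul, Finset.mul_sum]
      refine Finset.sum_congr rfl fun x _ => ?_
      rw [hfm x, ← hhx x]
      push_cast
      ring
    rw [hsum] at hz
    obtain ⟨c, hc⟩ : ∃ c : ℕ, c = C * D.natAbs * Nat.card A := ⟨_, rfl⟩
    refine int_of_rat (c := c) (a := D.sign * z) (hc ▸ Nat.mul_ne_zero (Nat.mul_ne_zero hC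
      (Int.natAbs_ne_zero.mpr hD0)) Nat.card_pos.ne') hint ?_
    have hs : (D.natAbs : ℂ) = (D.sign : ℂ) * (D : ℂ) := by
      rw [← Int.cast_mul, Int.sign_mul_self_eq_abs, Int.abs_eq_natAbs, Int.cast_natCast]
    rw [hc]
    push_cast
    rw [hs, ← hz]
    ring
  choose z hz using hcoef
  have hexp : (fun x => d x ^ 2) = ∑ η : IrrCharacter A, (z η : ℂ) • (η : A → ℂ) := by
    conv_lhs => rw [CT.classFunction_eq_sum (f := fun x => d x ^ 2) (fun x y => by
      rw [mul_comm y x, mul_inv_cancel_right])]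
    simp only [hz]
  have hnorm : ∑ η : IrrCharacter A, z η ^ 2 = 1 := by
    have e1 : classInner (fun x => d x ^ 2) (fun x => d x ^ 2) = 1 := by
      rw [classInner, Finset.sum_congr rfl fun x _ => show d x ^ 2 * conj (d x ^ 2) = 1 by
        rw [map_pow, ← mul_pow, hd1, one_pow], Finset.sum_const, Finset.card_univ, nsmul_one,
        ← Nat.card_eq_fintype_card, inv_mul_cancel₀ CT.card_ne_zero]
    conv_lhs at e1 => arg 2; rw [hexp]
    rw [CT.classInner_sum_right] at e1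
    simp only [CT.classInner_smul_right, hz, map_intCast] at e1
    have : ((∑ η : IrrCharacter A, z η ^ 2 : ℤ) : ℂ) = 1 := by
      push_cast; rw [← e1]; exact Finset.sum_congr rfl fun η _ => by ring
    exact_mod_cast this
  obtain ⟨η₀, hη₀⟩ : ∃ η, z η ≠ 0 := by
    by_contra h
    push Not at h
    rw [Finset.sum_eq_zero fun η _ => by rw [h η]; ring] at hnorm
    exact zero_ne_one hnorm
  have hother : ∀ η, η ≠ η₀ → z η = 0 := fun η hne => by
    have h2 : z η ^ 2 + z η₀ ^ 2 ≤ 1 := by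
      rw [← hnorm]
      calc _ = ∑ x ∈ ({η, η₀} : Finset (IrrCharacter A)), z x ^ 2 := (Finset.sum_pair hne).symm
        _ ≤ _ := Finset.sum_le_sum_of_subset_of_nonneg (Finset.subset_univ _)
          (fun x _ _ => sq_nonneg _)
    have : 1 ≤ z η₀ ^ 2 := by nlinarith [Int.one_le_abs hη₀, sq_abs (z η₀)]
    exact sq_eq_zero_iff.mp (le_antisymm (by omega) (sq_nonneg _))
  have hval : ∀ x, d x ^ 2 = (z η₀ : ℂ) * (η₀ : A → ℂ) x := fun x => by
    rw [show d x ^ 2 = (∑ η : IrrCharacter A, (z η : ℂ) • (η : A → ℂ)) x from congrFun hexp x,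
      Finset.sum_apply, Finset.sum_eq_single η₀ (fun η _ h => by rw [hother η h]; simp)
      (fun h => absurd (Finset.mem_univ _) h)]
    rfl
  have h1 := hval 1
  rw [hm0, one_pow] at h1
  have hmul : ∀ x y, d (x * y) ^ 2 = d x ^ 2 * d y ^ 2 := fun x y => by
    rw [hval, hval, hval]
    linear_combination ((z η₀ : ℂ) * (η₀ : A → ℂ) (x * y)) * h1 +
      ((z η₀ : ℂ) ^ 2) * irr_mul η₀ x y
  refine ⟨MonoidHom.toHomUnits
    { toFun := fun x => d x ^ 2, map_one' := by simp [hm0], map_mul' := hmul }, fun x => ?_⟩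
  rfl

/-- A linear character trivial at the elements of square one is a square. -/
theorem exists_sqrt_lin (l : A →* ℂˣ) (hl : ∀ x : A, x ^ 2 = 1 → l x = 1) :
    ∃ v : A →* ℂˣ, ∀ x, v x ^ 2 = l x := by
  obtain ⟨φ, hφ⟩ : ∃ φ : A →* (powMonoidHom 2 : A →* A).range,
      φ = (powMonoidHom 2 : A →* A).rangeRestrict := ⟨_, rfl⟩
  have hsur : Function.Surjective φ := hφ ▸ MonoidHom.rangeRestrict_surjective _
  have hker : φ.ker ≤ l.ker := fun x hx => by
    refine hl x ?_
    have := congrArg Subtype.val (MonoidHom.mem_ker.mp hx)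
    rw [hφ] at this
    simpa using this
  obtain ⟨μ, hμ⟩ : ∃ μ : (powMonoidHom 2 : A →* A).range →* ℂˣ, μ.comp φ = l :=
    ⟨φ.liftOfSurjective hsur ⟨l, hker⟩, φ.liftOfRightInverse_comp _ _ ⟨l, hker⟩⟩
  haveI : NeZero (Monoid.exponent A : ℂ) :=
    ⟨Nat.cast_ne_zero.mpr (Monoid.exponent_ne_zero_of_finite (G := A))⟩
  obtain ⟨v, hv⟩ := MonoidHom.domRestrict_surjective (G := A) (M := ℂ) _ μ
  refine ⟨v, fun x => ?_⟩
  rw [← hμ, ← hv, ← map_pow]
  subst hφ
  rfl

/-- A rational generalized character up to a linear one. -/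
theorem exists_real (hp : p.Prime) (hn : n ≠ 0) (hA : Nat.card A = p ^ n) {f d : A → ℂ}
    (hf : IsGeneralizedCharacter A f) {m : A → ℤ} (hfm : ∀ x, f x = (m x : ℂ) * d x)
    (hd : ∀ x, IsIntegral ℤ (d x)) (hd1 : ∀ x, d x * conj (d x) = 1)
    (hm : ∀ x, ¬ (p : ℤ) ∣ m x) (hm0 : d 1 = 1)
    (hrat : ∀ (x : A) (a : ℕ), ¬ p ∣ a → m (x ^ a) = m x) :
    ∃ (F : A → ℂ) (s : A → ℤ), IsGeneralizedCharacter A F ∧ (∀ x, s x = 1 ∨ s x = -1) ∧ s 1 = 1 ∧
      ∀ x, F x = ((s x * m x : ℤ) : ℂ) := by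
  obtain ⟨l, hl⟩ := exists_phase_sq hp hn hA hf hfm hd hd1 hm hm0 hrat
  obtain ⟨v, hv⟩ := exists_sqrt_lin l fun x hx => by
    apply Units.ext
    rw [← hl, Units.val_one]
    have hinv : x⁻¹ = x := inv_eq_of_mul_eq_one_right (by rw [← pow_two]; exact hx)
    have hreal : conj (f x) = f x := by
      obtain ⟨χ, ψ, hχ, hψ, rfl⟩ := hf
      rw [Pi.sub_apply, map_sub, ← CT.char_inv_eq_conj hχ, ← CT.char_inv_eq_conj hψ, hinv]
    rw [hfm, map_mul, map_intCast] at hreal
    have := mul_left_cancel₀ (Int.cast_ne_zero.mpr fun h => hm x (by simp [h])) hreal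
    rw [pow_two]
    conv_lhs => arg 2; rw [← this]
    exact hd1 x
  have hs : ∀ x, ∃ s : ℤ, (s = 1 ∨ s = -1) ∧ d x * ((v⁻¹ x : ℂˣ) : ℂ) = (s : ℂ) := by
    intro x
    have h : (d x * ((v⁻¹ x : ℂˣ) : ℂ)) * (d x * ((v⁻¹ x : ℂˣ) : ℂ)) = 1 := by
      rw [show (d x * ((v⁻¹ x : ℂˣ) : ℂ)) * (d x * ((v⁻¹ x : ℂˣ) : ℂ)) =
        d x ^ 2 * ((v⁻¹ x : ℂˣ) : ℂ) ^ 2 by ring, hl, ← Units.val_pow_eq_pow_val, MonoidHom.inv_apply,
        inv_pow, hv, Units.mul_inv]
    rcases mul_self_eq_one_iff.mp h with h' | h'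
    · exact ⟨1, Or.inl rfl, by simpa using h'⟩
    · exact ⟨-1, Or.inr rfl, by simpa using h'⟩
  choose s hs1 hs2 using hs
  refine ⟨fun x => f x * ((v⁻¹ x : ℂˣ) : ℂ), s, CT.isGen_mul hf (isGen_lin v⁻¹), hs1, ?_,
    fun x => ?_⟩
  · have h := hs2 1
    rw [hm0, map_one, Units.val_one, one_mul] at h
    exact_mod_cast h.symm
  · show f x * ((v⁻¹ x : ℂˣ) : ℂ) = _
    rw [hfm, mul_assoc, hs2]
    push_cast
    ring

end Cfsg.Agent.FreeStar
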