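import Cfsg.Agent.Lib.FreeStar.Local
import Cfsg.Agent.Lib.Blocks.KleinDefect
import Mathlib.RingTheory.RootsOfUnity.Complex

/-!
# An invariant primitive idempotent seen by the block of the centralizer of the defect group
-/

namespace Cfsg.Agent.FreeStar

open MonoidAlgebra BPairs Blocks
open scoped ComplexConjugate

universe u

set_option linter.unusedSectionVars false

section Prim

variable {G : Type u} [Group G] [Finite G] {K : Type*} [Field K]

/-- An additive function not vanishing at an invariant idempotent does not vanish at a primitive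
one below it. -/
theorem exists_prim {Q : Subgroup G} (τ : MonoidAlgebra K G →+ K) :
    ∀ (k : ℕ) (e : MonoidAlgebra K G),
      Module.finrank K (LinearMap.range (LinearMap.mulLeft K e)) ≤ k →
      e * e = e → IsInv Q e → τ e ≠ 0 →
      ∃ i, i * i = i ∧ IsInv Q i ∧ IsPrim Q i ∧ τ i ≠ 0 ∧ e * i = i ∧ i * e = i := by
  haveI : Fintype G := Fintype.ofFinite G
  intro k
  induction k with
  | zero =>
    intro e hk he _ hτ
    exfalso
    have h0 : LinearMap.range (LinearMap.mulLeft K e) = ⊥ :=
      Submodule.finrank_eq_zero.mp (Nat.le_zero.mp hk)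
    have h1 : e ∈ LinearMap.range (LinearMap.mulLeft K e) := ⟨e, he⟩
    rw [h0, Submodule.mem_bot] at h1
    exact hτ (by rw [h1, map_zero])
  | succ k ih =>
    intro e hk he heQ hτ
    by_cases hp : IsPrim Q e
    · exact ⟨e, he, heQ, hp, hτ, he, he⟩
    · unfold IsPrim at hp
      push Not at hp
      obtain ⟨f, hf, hfQ, hef, hfe, hf0, hfne⟩ := hp
      obtain ⟨f', hf'⟩ : ∃ f', f' = e - f := ⟨_, rfl⟩
      have h1 : f' * f' = f' := by rw [hf', sub_mul, mul_sub, mul_sub, he, hef, hfe, hf]; abel
      have h2 : IsInv Q f' := by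
        rw [hf', isInv_iff_commute]
        exact fun q hq => (isInv_iff_commute.mp heQ q hq).sub_left (isInv_iff_commute.mp hfQ q hq)
      have h3 : e * f' = f' := by rw [hf', mul_sub, he, hef]
      have h4 : f' * e = f' := by rw [hf', sub_mul, he, hfe]
      have hsmall : ∀ g, g * g = g → e * g = g → g * e = g → g ≠ e →
          Module.finrank K (LinearMap.range (LinearMap.mulLeft K g)) ≤ k := by
        intro g hg heg hge hne
        have hlt : LinearMap.range (LinearMap.mulLeft K g) <
            LinearMap.range (LinearMap.mulLeft K e) := by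
          refine lt_of_le_of_ne ?_ fun h => hne ?_
          · rintro _ ⟨a, rfl⟩
            refine ⟨g * a, ?_⟩
            show e * (g * a) = g * a
            rw [← mul_assoc, heg]
          · obtain ⟨a, ha⟩ : e ∈ LinearMap.range (LinearMap.mulLeft K g) := h ▸ ⟨e, he⟩
            have ha' : g * a = e := ha
            calc g = g * e := hge.symm
              _ = g * (g * a) := by rw [ha']
              _ = e := by rw [← mul_assoc, hg, ha']
        have := Submodule.finrank_lt_finrank_of_lt hlt
        omega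
      have hf'ne : f' ≠ e := fun h => hf0 (by rw [hf', sub_eq_self] at h; exact h)
      by_cases hτf : τ f = 0
      · obtain ⟨i, a1, a2, a3, a4, a5, a6⟩ := ih f' (hsmall f' h1 h3 h4 hf'ne) h1 h2
          (by rw [hf', map_sub, hτf, sub_zero]; exact hτ)
        exact ⟨i, a1, a2, a3, a4, by rw [← a5, ← mul_assoc, h3], by rw [← a6, mul_assoc, h4]⟩
      · obtain ⟨i, a1, a2, a3, a4, a5, a6⟩ := ih f (hsmall f hf hef hfe hfne) hf hfQ hτf
        exact ⟨i, a1, a2, a3, a4, by rw [← a5, ← mul_assoc, hef], by rw [← a6, mul_assoc, hfe]⟩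

end Prim

variable {G : Type u} [Group G] [Finite G] {p : ℕ} {M : Ideal AlgInt} [M.IsPrime]

/-- The residue of a character at an element of the residue group algebra of a subgroup. -/
noncomputable def tauH {C : Subgroup G} (ξ : IrrCharacter C) :
    MonoidAlgebra (Res M) G →+ Res M where
  toFun x := ev (fun h : C => red M (charL M ξ h)) (resH C x)
  map_zero' := by rw [resH_zero, ev_zero]
  map_add' a b := by rw [resH_add, ev_add]

theorem tauH_embH {C : Subgroup G} (ξ : IrrCharacter C) (a : MonoidAlgebra (Loc M) C) :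
    tauH ξ (embH C (redG M C a)) = red M (ev (charL M ξ) a) := by
  haveI := Fintype.ofFinite C
  show ev (fun h : C => red M (charL M ξ h)) (resH C (embH C (redG M C a))) = _
  rw [resH_embH, ev_eq_sum, ev_eq_sum, map_sum]
  exact Finset.sum_congr rfl fun u _ => by rw [map_mul, coeff_map']

/-- A regular element of the centralizer of `P` where the residue of the character is not zero. -/
theorem exists_regular_ne_zero {C : Subgroup G} (hM : IsPModular p M) {c : Set (IrrCharacter C)}
    (hc : IsPBlock M c) {ξ : IrrCharacter C} (hξ : ξ ∈ c)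
    (h0 : blockHeight p c (ξ : C → ℂ) = 0) :
    ∃ y : C, ¬ p ∣ orderOf y ∧ red M (charL M ξ y) ≠ 0 := by
  classical
  haveI := Fintype.ofFinite C
  by_contra h
  push Not at h
  refine (red_regS_ne_zero_iff hM hc hξ hξ).mpr h0 ?_
  have hz : redZ M C (regConj M p ξ) = 0 := by
    refine Subtype.ext (MonoidAlgebra.ext (Finsupp.ext fun u => ?_))
    simp only [coe_redZ, ZeroMemClass.coe_zero, coeff_map', regConj, coeff_ofFun]
    by_cases hu : p ∣ orderOf u
    · simp [hu]
    · rw [if_neg hu]
      have hu' : ¬ p ∣ orderOf u⁻¹ := by rwa [orderOf_inv]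
      have e : (⟨conj ((ξ : C → ℂ) u), integral_mem_loc (CT.isIntegral_conj (isIntegral_irr ξ.2 u))⟩ :
          Loc M) = charL M ξ u⁻¹ := Subtype.ext (by
        simp [CT.char_inv_eq_conj (CT.isCharacter_of_isIrr ξ.2)])
      rw [e, h _ hu']
      simp
  rw [regS, ← omegaBar_redZ, hz, map_zero]

/-- The spectral idempotents of an element of order prime to `p`. -/
theorem exists_spectral (hM : IsPModular p M) [hp : Fact p.Prime] {H : Type u} [Group H] {y : H}
    {n : ℕ} (hn : n ≠ 0) (hy : y ^ n = 1) (hpn : ¬ p ∣ n) :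
    ∃ (E : ℕ → MonoidAlgebra (Res M) H) (w : ℕ → Res M),
      (∀ t, E t * E t = E t) ∧
      (∀ t, E t ∈ Submodule.span (Res M) (Set.range fun s : ℕ => single (y ^ s) (1 : Res M))) ∧
      single y (1 : Res M) = ∑ t ∈ Finset.range n, w t • E t := by
  classical
  haveI : NeZero n := ⟨hn⟩
  obtain ⟨ζ, hζ⟩ : ∃ ζ : ℂ, IsPrimitiveRoot ζ n := ⟨_, Complex.isPrimitiveRoot_exp n hn⟩
  obtain ⟨z, hz⟩ : ∃ z : Loc M, (z : ℂ) = ζ :=
    ⟨⟨ζ, integral_mem_loc (hζ.isIntegral (Nat.pos_of_ne_zero hn))⟩, rfl⟩
  obtain ⟨ω, hω⟩ : ∃ ω, ω = red M z := ⟨_, rfl⟩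
  have hωn : ω ^ n = 1 := by
    rw [hω, ← map_pow, show z ^ n = 1 from Subtype.ext (by simp [hz, hζ.pow_eq_one]), map_one]
  have hnR : (n : Res M) ≠ 0 := by
    haveI := charP_res hM
    exact fun h => hpn ((CharP.cast_eq_zero_iff (Res M) p n).mp h)
  have hgeom : ∀ k : ℕ, ∑ t ∈ Finset.range n, ω ^ (k * t) =
      if n ∣ k then (n : Res M) else 0 := by
    intro k
    have h : (∑ t ∈ Finset.range n, z ^ (k * t) : Loc M) =
        if n ∣ k then (n : Loc M) else 0 := by
      apply Subtype.ext
      rw [AddSubmonoidClass.coe_finsetSum]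
      simp only [SubmonoidClass.coe_pow, hz, pow_mul]
      split_ifs with hk
      · obtain ⟨l, rfl⟩ := hk
        simp [pow_mul, hζ.pow_eq_one]
      · have hne : ζ ^ k ≠ 1 := fun e => hk (hζ.dvd_of_pow_eq_one k e)
        rw [geom_sum_eq hne, ← pow_mul, mul_comm, pow_mul, hζ.pow_eq_one, one_pow, sub_self,
          zero_div, ZeroMemClass.coe_zero]
    have := congrArg (red M) h
    simp only [map_sum, map_pow, ← hω] at this
    rw [this]
    split_ifs <;> simp
  obtain ⟨E, hE⟩ : ∃ E : ℕ → MonoidAlgebra (Res M) H, E = fun t =>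
      (n : Res M)⁻¹ • ∑ s ∈ Finset.range n, single (y ^ s) ((ω ^ (t * (n - 1))) ^ s) := ⟨_, rfl⟩
  have hshift : ∀ t, single y (1 : Res M) * E t = ω ^ t • E t := by
    intro t
    have hper : ∀ s : ℕ, single (y ^ s) ((ω ^ (t * (n - 1))) ^ s) =
        (fun s => single (y ^ s) ((ω ^ (t * (n - 1))) ^ s)) s := fun s => rfl
    obtain ⟨F, hF⟩ : ∃ F : ℕ → MonoidAlgebra (Res M) H, F = fun s =>
        single (y ^ s) ((ω ^ (t * (n - 1))) ^ s) := ⟨_, rfl⟩
    have hFn : F n = F 0 := by
      simp only [hF, hy, pow_zero]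
      rw [← pow_mul, mul_comm, pow_mul, hωn, one_pow]
    have hrot : ∑ s ∈ Finset.range n, F (s + 1) = ∑ s ∈ Finset.range n, F s := by
      have h1 := Finset.sum_range_succ F n
      rw [Finset.sum_range_succ', hFn] at h1
      exact add_right_cancel h1
    have hone : ω ^ (t * (n - 1)) * ω ^ t = 1 := by
      rw [← pow_add, show t * (n - 1) + t = n * t by
        obtain ⟨k, rfl⟩ := Nat.exists_eq_succ_of_ne_zero hn
        simp only [Nat.succ_eq_add_one, add_tsub_cancel_right]; ring, pow_mul, hωn, one_pow]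
    have key : ∀ s : ℕ, single y (1 : Res M) * F s = ω ^ t • F (s + 1) := fun s => by
      simp only [hF]
      rw [single_mul_single, one_mul, pow_succ' y s, MonoidAlgebra.smul_single, smul_eq_mul,
        pow_succ' (ω ^ (t * (n - 1))) s, ← mul_assoc, mul_comm (ω ^ t), hone, one_mul]
    have hEF : E t = (n : Res M)⁻¹ • ∑ s ∈ Finset.range n, F s := by rw [hE, hF]
    rw [hEF, mul_smul_comm, Finset.mul_sum, Finset.sum_congr rfl fun s _ => key s,
      ← Finset.smul_sum, hrot, smul_comm]
  have hpow : ∀ t s, single (y ^ s) (1 : Res M) * E t = (ω ^ t) ^ s • E t := by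
    intro t s
    induction s with
    | zero => rw [pow_zero, ← one_def, one_mul, pow_zero, one_smul]
    | succ s ih =>
      rw [pow_succ', show single (y * y ^ s) (1 : Res M) = single y 1 * single (y ^ s) 1 by
        rw [single_mul_single, one_mul], mul_assoc, ih, mul_smul_comm, hshift, smul_smul, pow_succ]
  refine ⟨E, fun t => ω ^ t, fun t => ?_, fun t => ?_, ?_⟩
  · conv_lhs => arg 1; rw [hE]
    rw [smul_mul_assoc, Finset.sum_mul, Finset.sum_congr rfl fun s _ => show
        single (y ^ s) ((ω ^ (t * (n - 1))) ^ s) * E t = E t by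
      rw [show single (y ^ s) ((ω ^ (t * (n - 1))) ^ s) =
        ((ω ^ (t * (n - 1))) ^ s) • single (y ^ s) (1 : Res M) by simp, smul_mul_assoc, hpow,
        smul_smul, ← mul_pow, ← pow_add, show t * (n - 1) + t = n * t by
          obtain ⟨k, rfl⟩ := Nat.exists_eq_succ_of_ne_zero hn
          simp only [Nat.succ_eq_add_one, add_tsub_cancel_right]; ring, pow_mul, hωn, one_pow, one_pow, one_smul],
      Finset.sum_const, Finset.card_range, ← Nat.cast_smul_eq_nsmul (Res M), smul_smul,
      inv_mul_cancel₀ hnR, one_smul]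
  · rw [hE]
    refine Submodule.smul_mem _ _ (Submodule.sum_mem _ fun s _ => ?_)
    rw [show single (y ^ s) ((ω ^ (t * (n - 1))) ^ s) =
      ((ω ^ (t * (n - 1))) ^ s) • single (y ^ s) (1 : Res M) by simp]
    exact Submodule.smul_mem _ _ (Submodule.subset_span ⟨s, rfl⟩)
  · rw [hE]
    simp only [Finset.smul_sum, smul_smul, MonoidAlgebra.smul_single, smul_eq_mul]
    rw [Finset.sum_comm]
    have key : ∀ s ∈ Finset.range n, (∑ t ∈ Finset.range n, single (y ^ s)
        (ω ^ t * ((n : Res M)⁻¹ * (ω ^ (t * (n - 1))) ^ s)) : MonoidAlgebra (Res M) H) =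
        single (y ^ s) (if n ∣ 1 + (n - 1) * s then (1 : Res M) else 0) := by
      intro s _
      rw [show ∀ f : ℕ → Res M, ∑ t ∈ Finset.range n, single (y ^ s) (f t) =
          single (y ^ s) (∑ t ∈ Finset.range n, f t) from fun f =>
            (map_sum (MonoidAlgebra.singleAddHom (y ^ s)) f _).symm, Finset.sum_congr rfl fun t _ => show
        ω ^ t * ((n : Res M)⁻¹ * (ω ^ (t * (n - 1))) ^ s) =
          (n : Res M)⁻¹ * ω ^ ((1 + (n - 1) * s) * t) by
        rw [← pow_mul, mul_left_comm, ← pow_add]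
        congr 2
        ring, ← Finset.mul_sum, hgeom]
      split_ifs <;> simp [hnR]
    rw [Finset.sum_congr rfl key]
    by_cases h1 : n = 1
    · subst h1; simp [show y = 1 by simpa using hy]
    rw [Finset.sum_eq_single 1]
    · rw [if_pos ⟨1, by omega⟩, pow_one]
    · intro s hs hne
      rw [if_neg, single_zero]
      intro hd
      rw [Finset.mem_range] at hs
      have hsum : (1 + (n - 1) * s) + s = 1 + n * s := by
        obtain ⟨k, rfl⟩ := Nat.exists_eq_succ_of_ne_zero hn
        simp only [Nat.succ_eq_add_one, add_tsub_cancel_right]; ring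
      have h3 : ((1 + (n - 1) * s : ℕ) : ZMod n) = 0 := (ZMod.natCast_eq_zero_iff _ _).mpr hd
      have h4 : ((1 + n * s : ℕ) : ZMod n) = (s : ZMod n) := by
        rw [← hsum, Nat.cast_add, h3, zero_add]
      rw [Nat.cast_add, Nat.cast_mul, ZMod.natCast_self, zero_mul, add_zero,
        ZMod.natCast_eq_natCast_iff', Nat.mod_eq_of_lt hs, Nat.mod_eq_of_lt (by omega)] at h4
      exact hne h4.symm
    · exact fun h => absurd (Finset.mem_range.mpr (by omega)) h

/-- A primitive invariant idempotent seen by the block of the centralizer. -/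
theorem exists_source (hM : IsPModular p M) [hp : Fact p.Prime] {P : Subgroup G}
    (hPp : IsPGroup p P) {c : Set (IrrCharacter (Subgroup.centralizer (P : Set G)))}
    (hc : IsPBlock M c) {ξ : IrrCharacter (Subgroup.centralizer (P : Set G))} (hξ : ξ ∈ c)
    (h0 : blockHeight p c (ξ : Subgroup.centralizer (P : Set G) → ℂ) = 0) :
    ∃ i : MonoidAlgebra (Res M) G, i * i = i ∧ IsInv P i ∧
      tauH ξ (trunc (Subgroup.centralizer (P : Set G) : Set G) i) ≠ 0 ∧
      ∀ (R : Subgroup G) (b : Set (IrrCharacter _)), SubpairLE p M R b P c →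
        trunc (Subgroup.centralizer (R : Set G) : Set G) i * bel M _ b =
          trunc (Subgroup.centralizer (R : Set G) : Set G) i := by
  classical
  haveI := charP_res hM
  haveI := Fintype.ofFinite G
  obtain ⟨C, hC⟩ : ∃ C, C = Subgroup.centralizer (P : Set G) := ⟨_, rfl⟩
  obtain ⟨y, hy, hyξ⟩ := exists_regular_ne_zero hM hc hξ h0
  obtain ⟨E, w, hEi, hEs, hEsum⟩ := exists_spectral (M := M) hM (orderOf_pos y).ne'
    (pow_orderOf_eq_one y) hy
  obtain ⟨β, hβ⟩ : ∃ β, β = (bBar M c : MonoidAlgebra (Res M) (Subgroup.centralizer (P : Set G))) :=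
    ⟨_, rfl⟩
  have hA := blockCoeff_mem_loc (M := M) hc
  have hββ : β * β = β := by rw [hβ, ← Subring.coe_mul, bBar_mul_self hA]
  have hβc : ∀ z, Commute β z := fun z => hβ ▸ (Subring.mem_center_iff.mp (bBar M c).2 z).symm
  -- the value at the translate of the block idempotent
  have hval : tauH ξ (embH (Subgroup.centralizer (P : Set G)) (β * single y 1)) ≠ 0 := by
    have e : β * single y (1 : Res M) = redG M _
        ((bIdem M c : MonoidAlgebra (Loc M) (Subgroup.centralizer (P : Set G))) * single y 1) := by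
      rw [map_mul, hβ]
      congr 1
      simp [redG]
    rw [e, tauH_embH]
    refine fun h => hyξ ?_
    rw [← h]
    congr 1
    apply Subtype.ext
    rw [← evC_charL, evC_mul_bIdem hc, if_pos hξ, evC, toC_single, ev_single, one_mul]
    simp
  obtain ⟨t, ht, hne⟩ : ∃ t ∈ Finset.range (orderOf y),
      tauH ξ (embH (Subgroup.centralizer (P : Set G)) (β * E t)) ≠ 0 := by
    by_contra h
    push Not at h
    refine hval ?_
    rw [hEsum, Finset.mul_sum, map_sum, map_sum]
    refine Finset.sum_eq_zero fun t ht => ?_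
    have hlin : ∀ (r : Res M) (a : MonoidAlgebra (Res M) (Subgroup.centralizer (P : Set G))),
        tauH ξ (embH _ (r • a)) = r * tauH ξ (embH (Subgroup.centralizer (P : Set G)) a) := by
      intro r a
      show ev _ (resH _ (embH _ (r • a))) = r * ev _ (resH _ (embH _ a))
      rw [resH_embH, resH_embH, ev_smul]
    rw [mul_smul_comm, hlin, h t ht, mul_zero]
  have hee : β * E t * (β * E t) = β * E t := by
    rw [mul_assoc, ← mul_assoc (E t), ← (hβc (E t)).eq, mul_assoc β (E t) (E t), hEi, ← mul_assoc,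
      hββ]
  obtain ⟨e, he⟩ : ∃ e, e = embH (Subgroup.centralizer (P : Set G)) (β * E t) := ⟨_, rfl⟩
  have hsupp : ∀ v, v ∉ Subgroup.centralizer (P : Set G) → e.coeff v = 0 := fun v hv => by
    rw [he]; exact coeff_embH_of_notMem _ _ hv
  have heP : IsInv P e := by
    intro q hq v
    have hmem : q * v * q⁻¹ ∈ Subgroup.centralizer (P : Set G) ↔
        v ∈ Subgroup.centralizer (P : Set G) := centralizer_conj_mem (Subgroup.le_normalizer hq)
    by_cases hv : v ∈ Subgroup.centralizer (P : Set G)
    · have : q * v * q⁻¹ = v := by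
        rw [Subgroup.mem_centralizer_iff.mp hv q hq, mul_inv_cancel_right]
      rw [this]
    · rw [hsupp v hv, hsupp _ (fun h => hv (hmem.mp h))]
  have hee' : e * e = e := by rw [he, ← map_mul, hee]
  obtain ⟨τ, hτ⟩ : ∃ τ : MonoidAlgebra (Res M) G →+ Res M,
      ∀ x, τ x = tauH ξ (trunc (Subgroup.centralizer (P : Set G) : Set G) x) :=
    ⟨(tauH ξ).comp { toFun := trunc (Subgroup.centralizer (P : Set G) : Set G)
                     map_zero' := trunc_zero _
                     map_add' := trunc_add _ }, fun x => rfl⟩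
  have hτe : τ e ≠ 0 := by
    rw [hτ, trunc_eq_self hsupp, he]; exact hne
  obtain ⟨i, hii, hiP, hprim, hτi, hei, hie⟩ := exists_prim τ _ e le_rfl hee' heP hτe
  rw [hτ] at hτi
  refine ⟨i, hii, hiP, hτi, ?_⟩
  have hine : trunc (Subgroup.centralizer (P : Set G) : Set G) i ≠ 0 := fun h => hτi (by
    rw [h, map_zero])
  obtain ⟨f, hf, hfall⟩ := exists_pair_of_prim hM hPp hii hiP hprim hine
  have hic : trunc (Subgroup.centralizer (P : Set G) : Set G) i * bel M _ c =
      trunc (Subgroup.centralizer (P : Set G) : Set G) i := by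
    have h1 : e * bel M _ c = e := by
      rw [he, bel, ← map_mul, ← hβ, mul_assoc, ← (hβc (E t)).eq, ← mul_assoc, hββ]
    have h2 : trunc (Subgroup.centralizer (P : Set G) : Set G) i * e =
        trunc (Subgroup.centralizer (P : Set G) : Set G) i := by
      conv_rhs => rw [← hie, trunc_mul hPp hiP heP, trunc_eq_self hsupp]
    rw [← h2, mul_assoc, h1]
  have hfc : f = c := by
    by_contra hne
    refine hine ?_
    have h2 := hfall P f Relation.ReflTransGen.refl
    rw [← h2, ← hic, mul_assoc, bel_mul_of_ne hM _ hc hf.2 (Ne.symm hne), mul_zero]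
  exact fun R b hle => hfall R b (hfc ▸ hle)

end Cfsg.Agent.FreeStar
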